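import Groth.Agent.L21.Nodal.QuadBasic
import Groth.Agent.L12.PSRing
import Groth.Agent.L01.CompletionExt
import Mathlib.RingTheory.Filtration
import Mathlib.RingTheory.MvPowerSeries.Equiv
import Mathlib.RingTheory.Flat.EquationalCriterion

/-!
Deformations of nodes: the completion of a flat local algebra whose closed fibre has the completion of a node is
cut out of a power series ring in two variables by a quadratic form minus a constant.
-/

set_option autoImplicit false
universe u

open IsLocalRing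

noncomputable section

namespace Groth.L21.Nodal

theorem mem_of_forall_mem_sup_pow {R : Type u} [CommRing R] [IsNoetherianRing R] [IsLocalRing R] {I : Ideal R}
    (hI : I ≤ maximalIdeal R) {x : R} (h : ∀ n, x ∈ I ⊔ maximalIdeal R ^ n) : x ∈ I := by
  haveI : Nontrivial (R ⧸ I) :=
    Ideal.Quotient.nontrivial_iff.2 fun h => (maximalIdeal.isMaximal R).ne_top (top_le_iff.1 (h ▸ hI))
  haveI : IsLocalRing (R ⧸ I) := IsLocalRing.of_surjective' _ Ideal.Quotient.mk_surjective
  rw [← Ideal.Quotient.eq_zero_iff_mem, ← Submodule.mem_bot (R ⧸ I),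
    ← Ideal.iInf_pow_eq_bot_of_isLocalRing (maximalIdeal (R ⧸ I)) (maximalIdeal.isMaximal _).ne_top, Submodule.mem_iInf]
  intro n
  rw [← IsLocalRing.map_maximalIdeal_of_surjective (Ideal.Quotient.mk I) Ideal.Quotient.mk_surjective,
    ← Ideal.map_pow, Ideal.mem_quotient_iff_mem_sup, sup_comm]
  exact h n

theorem exists_minimal_gens {A : Type u} [CommRing A] [IsNoetherianRing A] (I : Ideal A) :
    ∃ (r : ℕ) (g : Fin r → A), Ideal.span (Set.range g) = I ∧
      ∀ a : Fin r → A, ∑ i, a i * g i = 0 → ∀ i, ¬ IsUnit (a i) := by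
  classical
  have h : ∃ r, ∃ g : Fin r → A, Ideal.span (Set.range g) = I :=
    Submodule.fg_iff_exists_fin_generating_family.1 (IsNoetherian.noetherian I)
  obtain ⟨g, hg⟩ := Nat.find_spec h
  refine ⟨Nat.find h, g, hg, fun a ha i hu => ?_⟩
  obtain ⟨r, hr⟩ : ∃ r, Nat.find h = r + 1 := Nat.exists_eq_succ_of_ne_zero (by intro h0; exact Fin.elim0 (h0 ▸ i))
  revert g a i
  rw [hr]
  intro g hg a ha i hu
  refine Nat.find_min h (show r < Nat.find h by omega) ⟨g ∘ i.succAbove, le_antisymm ?_ ?_⟩
  · rw [← hg]; exact Ideal.span_mono (Set.range_comp_subset_range _ _)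
  · rw [← hg, Ideal.span_le]
    rintro _ ⟨l, rfl⟩
    rcases Fin.eq_self_or_eq_succAbove i l with rfl | ⟨m, rfl⟩
    · obtain ⟨ε, hε⟩ := hu.exists_left_inv
      rw [Fin.sum_univ_succAbove _ l] at ha
      rw [SetLike.mem_coe, show g l = -ε * ∑ m, a (l.succAbove m) * g (l.succAbove m) by
        linear_combination ε * ha - g l * hε]
      exact Ideal.mul_mem_left _ _ (Ideal.sum_mem _ fun m _ => Ideal.mul_mem_left _ _ (Ideal.subset_span ⟨m, rfl⟩))
    · exact Ideal.subset_span ⟨m, rfl⟩

theorem exists_limit {S : Type u} [CommRing S] [IsLocalRing S] [IsAdicComplete (maximalIdeal S) S] (g : ℕ → S)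
    (hg : ∀ k, g (k + 1) - g k ∈ maximalIdeal S ^ (k + 1)) : ∃ z, ∀ k, g k - z ∈ maximalIdeal S ^ k := by
  obtain ⟨z, hz⟩ := IsPrecomplete.prec' (I := maximalIdeal S) g fun {m n} hmn => by
    rw [SModEq.sub_mem, smul_eq_mul, Ideal.mul_top]
    induction n, hmn using Nat.le_induction with
    | base => rw [sub_self]; exact zero_mem _
    | succ n hmn ih =>
      rw [show g m - g (n + 1) = (g m - g n) - (g (n + 1) - g n) by ring]
      exact sub_mem ih (Ideal.pow_le_pow_right (by omega) (hg n))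
  exact ⟨z, fun k => by simpa [SModEq.sub_mem] using hz k⟩

section

variable {A B : Type u} [CommRing A] [IsLocalRing A] [IsNoetherianRing A]
  [CommRing B] [IsLocalRing B] [IsNoetherianRing B] [Algebra A B] [IsLocalHom (algebraMap A B)]

theorem map_maximalIdeal_le_completion :
    (maximalIdeal A).map (algebraMap A (AdicCompletion (maximalIdeal B) B)) ≤
      maximalIdeal (AdicCompletion (maximalIdeal B) B) := by
  rw [IsScalarTower.algebraMap_eq A B, ← Ideal.map_map, AdicCompletion.maximalIdeal_eq_map]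
  exact Ideal.map_mono (IsLocalRing.map_maximalIdeal_le (algebraMap A B))

theorem exists_completion_hom :
    ∃ j : AdicCompletion (maximalIdeal A) A →+* AdicCompletion (maximalIdeal B) B,
      (∀ a, j (algebraMap A _ a) = algebraMap A _ a) ∧
      (maximalIdeal (AdicCompletion (maximalIdeal A) A)).map j ≤ maximalIdeal (AdicCompletion (maximalIdeal B) B) :=
  Groth.L01.CompletionExt.exists_extend _ map_maximalIdeal_le_completion

instance isNoetherianRing_completion_local :
    IsNoetherianRing (AdicCompletion (maximalIdeal B) B) :=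
  Groth.L12.isNoetherianRing_completion _

variable (j : AdicCompletion (maximalIdeal A) A →+* AdicCompletion (maximalIdeal B) B)

local notation "Ah" => AdicCompletion (maximalIdeal A) A
local notation "Bh" => AdicCompletion (maximalIdeal B) B

/-- Lifting an equation of the closed fibre: a zero of a quadratic form modulo `m_A` is corrected to a zero of the
form minus a constant. -/
theorem exists_deform (hres : ∀ b : B, ∃ a : A, b - algebraMap A B a ∈ maximalIdeal B)
    (hj : ∀ a, j (algebraMap A Ah a) = algebraMap A Bh a) (hjm : (maximalIdeal Ah).map j ≤ maximalIdeal Bh)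
    (a b c : A) (hD : IsUnit (4 * a * c - b ^ 2)) (x y : Bh)
    (hgen : Ideal.span {x, y} ⊔ (maximalIdeal A).map (algebraMap A Bh) = maximalIdeal Bh)
    (hq : qf (algebraMap A Bh a) (algebraMap A Bh b) (algebraMap A Bh c) x y ∈
      (maximalIdeal A).map (algebraMap A Bh)) :
    ∃ (α : Ah) (x' y' : Bh), α ∈ maximalIdeal Ah ∧ x' - x ∈ (maximalIdeal A).map (algebraMap A Bh) ∧
      y' - y ∈ (maximalIdeal A).map (algebraMap A Bh) ∧
      qf (algebraMap A Bh a) (algebraMap A Bh b) (algebraMap A Bh c) x' y' = j α := by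
  classical
  set φ := algebraMap A Bh
  set M := (maximalIdeal A).map φ with hM
  have hMmax : M ≤ maximalIdeal Bh := map_maximalIdeal_le_completion
  have hMpow : ∀ n, (maximalIdeal A ^ n).map φ = M ^ n := fun n => Ideal.map_pow _ _ _
  obtain ⟨D', hD'⟩ := (hD.map φ).exists_left_inv
  simp only [map_sub, map_mul, map_pow, map_ofNat] at hD'
  let Good : ℕ → Bh × Bh × A → Prop := fun n q =>
    q.1 - x ∈ M ∧ q.2.1 - y ∈ M ∧ q.2.2 ∈ maximalIdeal A ∧ qf (φ a) (φ b) (φ c) q.1 q.2.1 - φ q.2.2 ∈ M ^ (n + 1)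
  have step : ∀ n q, Good n q → ∃ q', Good (n + 1) q' ∧ q'.1 - q.1 ∈ M ^ (n + 1) ∧
      q'.2.1 - q.2.1 ∈ M ^ (n + 1) ∧ q'.2.2 - q.2.2 ∈ maximalIdeal A ^ (n + 1) := by
    rintro n ⟨p, q, e⟩ ⟨hp, hq, he, h⟩
    dsimp only at hp hq he h ⊢
    have hgen' : Ideal.span {p, q} ⊔ M = maximalIdeal Bh := by
      rw [← hgen]
      refine le_antisymm (sup_le ?_ le_sup_right) (sup_le ?_ le_sup_right)
      · rw [Ideal.span_le]
        intro z hz
        rcases hz with hz | hz
        · rw [SetLike.mem_coe, hz, show p = x + (p - x) by ring]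
          exact Submodule.add_mem_sup (Ideal.subset_span (Or.inl rfl)) hp
        · rw [SetLike.mem_coe, Set.mem_singleton_iff.1 hz, show q = y + (q - y) by ring]
          exact Submodule.add_mem_sup (Ideal.subset_span (Or.inr rfl)) hq
      · rw [Ideal.span_le]
        intro z hz
        rcases hz with hz | hz
        · rw [SetLike.mem_coe, hz, show x = p - (p - x) by ring]
          exact sub_mem (Submodule.mem_sup_left (Ideal.subset_span (Or.inl rfl))) (Submodule.mem_sup_right hp)
        · rw [SetLike.mem_coe, Set.mem_singleton_iff.1 hz, show y = q - (q - y) by ring]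
          exact sub_mem (Submodule.mem_sup_left (Ideal.subset_span (Or.inr rfl))) (Submodule.mem_sup_right hq)
    have hB : ∀ s : Bh, ∃ (r : A) (β γ : Bh), s - (φ r + β * p + γ * q) ∈ M := by
      intro s
      obtain ⟨b', hb'⟩ := Groth.L01.CompletionExt.exists_sub_mem_pow 1 s
      rw [pow_one] at hb'
      obtain ⟨r, hr⟩ := hres b'
      have hm : s - φ r ∈ maximalIdeal Bh := by
        rw [show s - φ r = (s - algebraMap B Bh b') + algebraMap B Bh (b' - algebraMap A B r) by
          rw [map_sub, ← IsScalarTower.algebraMap_apply]; ring]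
        refine add_mem hb' ?_
        rw [AdicCompletion.maximalIdeal_eq_map]
        exact Ideal.mem_map_of_mem _ hr
      rw [← hgen'] at hm
      obtain ⟨z, hz, w, hw, hzw⟩ := Submodule.mem_sup.1 hm
      obtain ⟨β, γ, rfl⟩ := Ideal.mem_span_pair.1 hz
      exact ⟨r, β, γ, by rwa [show s - (φ r + β * p + γ * q) = w by linear_combination -hzw]⟩
    have hz : ∀ z ∈ M ^ (n + 1), ∃ e' ∈ maximalIdeal A ^ (n + 1), ∃ β ∈ M ^ (n + 1), ∃ γ ∈ M ^ (n + 1),
        z - (φ e' + β * p + γ * q) ∈ M ^ (n + 1 + 1) := by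
      intro z hz
      rw [← hMpow, Ideal.map] at hz
      refine Submodule.span_induction ?_ ⟨0, zero_mem _, 0, zero_mem _, 0, zero_mem _, by simp⟩ ?_ ?_ hz
      · rintro _ ⟨e', he', rfl⟩
        exact ⟨e', he', 0, zero_mem _, 0, zero_mem _, by simp⟩
      · rintro s t - - ⟨e₁, he₁, β, hβ, γ, hγ, h⟩ ⟨e₂, he₂, β', hβ', γ', hγ', h'⟩
        refine ⟨e₁ + e₂, add_mem he₁ he₂, β + β', add_mem hβ hβ', γ + γ', add_mem hγ hγ', ?_⟩
        rw [map_add, show s + t - (φ e₁ + φ e₂ + (β + β') * p + (γ + γ') * q) =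
          (s - (φ e₁ + β * p + γ * q)) + (t - (φ e₂ + β' * p + γ' * q)) by ring]
        exact add_mem h h'
      · rintro s t - ⟨e₁, he₁, β, hβ, γ, hγ, h⟩
        obtain ⟨r, β', γ', hr⟩ := hB s
        have hφe : φ e₁ ∈ M ^ (n + 1) := hMpow (n + 1) ▸ Ideal.mem_map_of_mem _ he₁
        refine ⟨r * e₁, Ideal.mul_mem_left _ _ he₁, s * β + β' * φ e₁,
          add_mem (Ideal.mul_mem_left _ _ hβ) (Ideal.mul_mem_left _ _ hφe), s * γ + γ' * φ e₁,
          add_mem (Ideal.mul_mem_left _ _ hγ) (Ideal.mul_mem_left _ _ hφe), ?_⟩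
        rw [smul_eq_mul, map_mul, show s * t - (φ r * φ e₁ + (s * β + β' * φ e₁) * p + (s * γ + γ' * φ e₁) * q) =
          s * (t - (φ e₁ + β * p + γ * q)) + (s - (φ r + β' * p + γ' * q)) * φ e₁ by ring]
        refine add_mem (Ideal.mul_mem_left _ _ h) ?_
        rw [pow_succ']
        exact Ideal.mul_mem_mul hr hφe
    obtain ⟨e', he', β, hβ, γ, hγ, hβγ⟩ := hz _ h
    let d := D' * (φ b * γ - 2 * φ c * β)
    let ε := D' * (φ b * β - 2 * φ a * γ)
    have hd : d ∈ M ^ (n + 1) :=
      Ideal.mul_mem_left _ _ (sub_mem (Ideal.mul_mem_left _ _ hγ) (Ideal.mul_mem_left _ _ hβ))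
    have hε : ε ∈ M ^ (n + 1) :=
      Ideal.mul_mem_left _ _ (sub_mem (Ideal.mul_mem_left _ _ hβ) (Ideal.mul_mem_left _ _ hγ))
    have hle : M ^ (n + 1) ≤ M := Ideal.pow_le_self (Nat.succ_ne_zero n)
    refine ⟨(p + d, q + ε, e + e'), ⟨?_, ?_, ?_, ?_⟩, by simpa using hd, by simpa using hε, by simpa using he'⟩
    · rw [show p + d - x = (p - x) + d by ring]; exact add_mem hp (hle hd)
    · rw [show q + ε - y = (q - y) + ε by ring]; exact add_mem hq (hle hε)
    · exact add_mem he (Ideal.pow_le_self (Nat.succ_ne_zero n) he')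
    · rw [map_add, show qf (φ a) (φ b) (φ c) (p + d) (q + ε) - (φ e + φ e') =
        (qf (φ a) (φ b) (φ c) p q - φ e - (φ e' + β * p + γ * q)) + qf (φ a) (φ b) (φ c) d ε by
        simp only [qf, d, ε]
        linear_combination (-(β * p) - γ * q) * hD']
      refine add_mem hβγ ?_
      have key : ∀ s t : Bh, s ∈ M ^ (n + 1) → t ∈ M ^ (n + 1) → s * t ∈ M ^ (n + 1 + 1) := fun s t hs ht =>
        Ideal.pow_le_pow_right (by omega) (pow_add M (n + 1) (n + 1) ▸ Ideal.mul_mem_mul hs ht)
      simp only [qf, pow_two]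
      exact add_mem (add_mem (Ideal.mul_mem_left _ _ (key d d hd hd)) (Ideal.mul_mem_left _ _ (key d ε hd hε)))
        (Ideal.mul_mem_left _ _ (key ε ε hε hε))
  choose next hnext using step
  let F : ∀ k, {q : Bh × Bh × A // Good k q} := fun k =>
    Nat.rec ⟨(x, y, 0), by simp, by simp, zero_mem _, by simpa [qf] using hq⟩
      (fun k q => ⟨next k q.1 q.2, (hnext k q.1 q.2).1⟩) k
  have hstep : ∀ k, (F (k + 1)).1.1 - (F k).1.1 ∈ M ^ (k + 1) ∧ (F (k + 1)).1.2.1 - (F k).1.2.1 ∈ M ^ (k + 1) ∧
      (F (k + 1)).1.2.2 - (F k).1.2.2 ∈ maximalIdeal A ^ (k + 1) :=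
    fun k => (hnext k (F k).1 (F k).2).2
  obtain ⟨x', hx'⟩ := exists_limit (fun k => (F k).1.1) fun k => Ideal.pow_right_mono hMmax _ (hstep k).1
  obtain ⟨y', hy'⟩ := exists_limit (fun k => (F k).1.2.1) fun k => Ideal.pow_right_mono hMmax _ (hstep k).2.1
  obtain ⟨α, hα⟩ := exists_limit (fun k => algebraMap A Ah (F k).1.2.2) fun k => by
    rw [← map_sub, AdicCompletion.maximalIdeal_eq_map, ← Ideal.map_pow]
    exact Ideal.mem_map_of_mem _ (hstep k).2.2
  refine ⟨α, x', y', ?_, ?_, ?_, ?_⟩
  · rw [show α = algebraMap A Ah (F 1).1.2.2 - (algebraMap A Ah (F 1).1.2.2 - α) by ring]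
    refine sub_mem ?_ (by simpa using hα 1)
    rw [AdicCompletion.maximalIdeal_eq_map]
    exact Ideal.mem_map_of_mem _ (F 1).2.2.2.1
  · refine mem_of_forall_mem_sup_pow hMmax fun k => ?_
    rw [show x' - x = ((F k).1.1 - x) - ((F k).1.1 - x') by ring]
    exact sub_mem (Submodule.mem_sup_left (F k).2.1) (Submodule.mem_sup_right (hx' k))
  · refine mem_of_forall_mem_sup_pow hMmax fun k => ?_
    rw [show y' - y = ((F k).1.2.1 - y) - ((F k).1.2.1 - y') by ring]
    exact sub_mem (Submodule.mem_sup_left (F k).2.2.1) (Submodule.mem_sup_right (hy' k))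
  · refine sub_eq_zero.1 (IsHausdorff.haus (I := maximalIdeal Bh) inferInstance _ fun k => ?_)
    rw [SModEq.zero, smul_eq_mul, Ideal.mul_top,
      show qf (φ a) (φ b) (φ c) x' y' - j α = (qf (φ a) (φ b) (φ c) (F k).1.1 (F k).1.2.1 - φ (F k).1.2.2) -
        ((F k).1.1 - x') * (φ a * ((F k).1.1 + x') + φ b * (F k).1.2.1) -
        ((F k).1.2.1 - y') * (φ b * x' + φ c * ((F k).1.2.1 + y')) + j (algebraMap A Ah (F k).1.2.2 - α) by
        rw [map_sub, hj]; simp only [qf, φ]; ring]
    refine add_mem (sub_mem (sub_mem (Ideal.pow_le_pow_right (Nat.le_succ k) (Ideal.pow_right_mono hMmax _ (F k).2.2.2.2))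
      (Ideal.mul_mem_right _ _ (hx' k))) (Ideal.mul_mem_right _ _ (hy' k))) ?_
    refine Ideal.pow_right_mono hjm k ?_
    rw [← Ideal.map_pow]
    exact Ideal.mem_map_of_mem _ (hα k)

/-- The deformed equation gives a surjection from the power series ring over the completion of the base. -/
theorem exists_deform_surj (hres : ∀ b : B, ∃ a : A, b - algebraMap A B a ∈ maximalIdeal B)
    (a b c : A) (hD : IsUnit (4 * a * c - b ^ 2)) (x y : Bh)
    (hgen : Ideal.span {x, y} ⊔ (maximalIdeal A).map (algebraMap A Bh) = maximalIdeal Bh)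
    (hq : qf (algebraMap A Bh a) (algebraMap A Bh b) (algebraMap A Bh c) x y ∈
      (maximalIdeal A).map (algebraMap A Bh)) :
    ∃ (α : Ah) (φ : MvPowerSeries (Fin 2) Ah →ₐ[A] Bh), α ∈ maximalIdeal Ah ∧ Function.Surjective φ ∧
      φ (qf (MvPowerSeries.C (algebraMap A Ah a)) (MvPowerSeries.C (algebraMap A Ah b))
        (MvPowerSeries.C (algebraMap A Ah c)) (MvPowerSeries.X 0) (MvPowerSeries.X 1 : MvPowerSeries (Fin 2) Ah) - MvPowerSeries.C α) = 0 ∧
      φ (MvPowerSeries.X 0) - x ∈ (maximalIdeal A).map (algebraMap A Bh) ∧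
      φ (MvPowerSeries.X 1) - y ∈ (maximalIdeal A).map (algebraMap A Bh) := by
  obtain ⟨j, hj, hjm⟩ := exists_completion_hom (A := A) (B := B)
  obtain ⟨α, x', y', hα, hx', hy', hxy⟩ := exists_deform j hres hj hjm a b c hD x y hgen hq
  set M := (maximalIdeal A).map (algebraMap A Bh) with hM
  have hMmax : M ≤ maximalIdeal Bh := map_maximalIdeal_le_completion
  have hx : x ∈ maximalIdeal Bh := hgen ▸ Submodule.mem_sup_left (Ideal.subset_span (Or.inl rfl))
  have hy : y ∈ maximalIdeal Bh := hgen ▸ Submodule.mem_sup_left (Ideal.subset_span (Or.inr rfl))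
  have hmem : ∀ i, (![x', y'] i) ∈ maximalIdeal Bh := fun i => by
    fin_cases i
    · exact (Submodule.sub_mem_iff_left _ hx).1 (hMmax hx')
    · exact (Submodule.sub_mem_iff_left _ hy).1 (hMmax hy')
  letI : Algebra Ah Bh := j.toAlgebra
  haveI : IsScalarTower A Ah Bh := IsScalarTower.of_algebraMap_eq fun r => (hj r).symm
  obtain ⟨φ, hφ⟩ := Groth.L12.exists_evalPS (R := Ah) (maximalIdeal Bh) ![x', y'] hmem
  have hφC : ∀ r : Ah, φ (MvPowerSeries.C r) = j r := fun r => φ.commutes r
  have hφA : ∀ r : A, φ (MvPowerSeries.C (algebraMap A Ah r)) = algebraMap A Bh r := fun r => (hφC _).trans (hj r)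
  have hI : (maximalIdeal (MvPowerSeries (Fin 2) Ah)).map φ.toRingHom = maximalIdeal Bh := by
    refine le_antisymm (Ideal.map_le_iff_le_comap.2 fun f hf => ?_) ?_
    · rw [Ideal.mem_comap, show f = MvPowerSeries.C (MvPowerSeries.constantCoeff f) +
        (f - MvPowerSeries.C (MvPowerSeries.constantCoeff f)) by ring, map_add]
      refine add_mem ?_ ?_
      · show φ (MvPowerSeries.C _) ∈ _
        rw [hφC]
        exact hjm (Ideal.mem_map_of_mem _ ((Groth.L12.ps_mem_maximalIdeal_iff f).1 hf))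
      · have h1 := Ideal.mem_map_of_mem φ.toRingHom (Groth.L12.sub_C_mem_span_X f)
        rw [Ideal.map_span, ← Set.range_comp] at h1
        refine Ideal.span_le.2 ?_ h1
        rintro _ ⟨i, rfl⟩
        show φ (MvPowerSeries.X i) ∈ maximalIdeal Bh
        rw [hφ]
        exact hmem i
    · rw [← hgen]
      refine sup_le ?_ (Ideal.map_le_iff_le_comap.2 fun r hr => ?_)
      · rw [Ideal.span_le]
        have key : ∀ r ∈ M, r ∈ (maximalIdeal (MvPowerSeries (Fin 2) Ah)).map φ.toRingHom := fun r hr => by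
          refine Ideal.map_le_iff_le_comap.2 (fun t ht => ?_) hr
          rw [Ideal.mem_comap, ← hφA t]
          exact Ideal.mem_map_of_mem φ.toRingHom (Groth.L12.C_mem_maximalIdeal (by
            rw [AdicCompletion.maximalIdeal_eq_map]; exact Ideal.mem_map_of_mem _ ht))
        intro z hz
        rcases hz with hz | hz
        · rw [SetLike.mem_coe, hz, show x = φ (MvPowerSeries.X 0) - (φ (MvPowerSeries.X 0) - x) by ring]
          refine sub_mem (Ideal.mem_map_of_mem φ.toRingHom (Groth.L12.X_mem_maximalIdeal 0)) (key _ ?_)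
          rw [hφ]; exact hx'
        · rw [SetLike.mem_coe, Set.mem_singleton_iff.1 hz, show y = φ (MvPowerSeries.X 1) - (φ (MvPowerSeries.X 1) - y) by ring]
          refine sub_mem (Ideal.mem_map_of_mem φ.toRingHom (Groth.L12.X_mem_maximalIdeal 1)) (key _ ?_)
          rw [hφ]; exact hy'
      · rw [Ideal.mem_comap, ← hφA r]
        exact Ideal.mem_map_of_mem φ.toRingHom (Groth.L12.C_mem_maximalIdeal (by
          rw [AdicCompletion.maximalIdeal_eq_map]; exact Ideal.mem_map_of_mem _ hr))
  have hsurj : Function.Surjective φ := by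
    haveI := Groth.L12.isAdicComplete_mvPowerSeries (σ := Fin 2) (R := Ah)
    haveI : IsHausdorff ((maximalIdeal (MvPowerSeries (Fin 2) Ah)).map φ.toRingHom) Bh := hI ▸ inferInstance
    refine surjective_of_mk_map_comp_surjective (I := maximalIdeal (MvPowerSeries (Fin 2) Ah)) φ.toRingHom fun z => ?_
    obtain ⟨s, rfl⟩ := Ideal.Quotient.mk_surjective z
    obtain ⟨b', hb'⟩ := Groth.L01.CompletionExt.exists_sub_mem_pow 1 s
    rw [pow_one] at hb'
    obtain ⟨r, hr⟩ := hres b'
    refine ⟨MvPowerSeries.C (algebraMap A Ah r), Ideal.Quotient.eq.2 ?_⟩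
    rw [hI, show φ.toRingHom (MvPowerSeries.C (algebraMap A Ah r)) = algebraMap A Bh r from hφA r,
      show algebraMap A Bh r - s = -((s - algebraMap B Bh b') + algebraMap B Bh (b' - algebraMap A B r)) by
        rw [map_sub, ← IsScalarTower.algebraMap_apply]; ring]
    refine neg_mem (add_mem hb' ?_)
    rw [AdicCompletion.maximalIdeal_eq_map]
    exact Ideal.mem_map_of_mem _ hr
  refine ⟨α, φ.restrictScalars A, hα, hsurj, ?_, ?_, ?_⟩
  · show φ.toRingHom _ = 0
    rw [map_sub, map_qf]
    show qf (φ _) (φ _) (φ _) (φ _) (φ _) - φ _ = 0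
    rw [hφA, hφA, hφA, hφ, hφ, hφC]
    exact sub_eq_zero.2 hxy
  · show φ _ - x ∈ M
    rw [hφ]; exact hx'
  · show φ _ - y ∈ M
    rw [hφ]; exact hy'

/-- The surjection is bijective modulo the equation, for a flat algebra with nodal closed fibre. -/
theorem ker_deform [Module.Flat A B] (a b c : A) (α : Ah) (hα : α ∈ maximalIdeal Ah)
    (φ : MvPowerSeries (Fin 2) Ah →ₐ[A] Bh) (hsurj : Function.Surjective φ)
    (hφQ : φ (qf (MvPowerSeries.C (algebraMap A Ah a)) (MvPowerSeries.C (algebraMap A Ah b))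
        (MvPowerSeries.C (algebraMap A Ah c)) (MvPowerSeries.X 0) (MvPowerSeries.X 1 : MvPowerSeries (Fin 2) Ah) - MvPowerSeries.C α) = 0)
    (Ψ : Bh →+* MvPowerSeries (Fin 2) (ResidueField A) ⧸ Ideal.span
      {qf (MvPowerSeries.C (residue A a)) (MvPowerSeries.C (residue A b)) (MvPowerSeries.C (residue A c))
        (MvPowerSeries.X 0) (MvPowerSeries.X 1 : MvPowerSeries (Fin 2) (ResidueField A))})
    (hΨ : Function.Surjective Ψ) (hΨM : ∀ z ∈ (maximalIdeal A).map (algebraMap A Bh), Ψ z = 0) :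
    RingHom.ker φ.toRingHom = Ideal.span {qf (MvPowerSeries.C (algebraMap A Ah a)) (MvPowerSeries.C (algebraMap A Ah b))
        (MvPowerSeries.C (algebraMap A Ah c)) (MvPowerSeries.X 0) (MvPowerSeries.X 1 : MvPowerSeries (Fin 2) Ah) - MvPowerSeries.C α} := by
  classical
  set Q := qf (MvPowerSeries.C (algebraMap A Ah a)) (MvPowerSeries.C (algebraMap A Ah b))
    (MvPowerSeries.C (algebraMap A Ah c)) (MvPowerSeries.X 0) (MvPowerSeries.X 1 : MvPowerSeries (Fin 2) Ah) - MvPowerSeries.C α
  set J := Ideal.span {Q} with hJ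
  let qb := qf (MvPowerSeries.C (residue A a)) (MvPowerSeries.C (residue A b)) (MvPowerSeries.C (residue A c))
    (MvPowerSeries.X 0) (MvPowerSeries.X 1 : MvPowerSeries (Fin 2) (ResidueField A))
  let ρ := RingEquiv.ofBijective _ (AdicCompletion.residueField_map_bijective A)
  let res : Ah →+* ResidueField A := ρ.symm.toRingHom.comp (residue Ah)
  have hresA : ∀ r : A, res (algebraMap A Ah r) = residue A r := fun r => by
    change ρ.symm (residue Ah _) = _
    rw [RingEquiv.symm_apply_eq]
    exact (ResidueField.map_residue _ r).symm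
  have hres0 : ∀ r : Ah, res r = 0 ↔ r ∈ maximalIdeal Ah := fun r => by
    rw [← residue_eq_zero_iff]
    exact map_eq_zero_iff ρ.symm.toRingHom ρ.symm.injective
  have hressurj : Function.Surjective res := ρ.symm.surjective.comp residue_surjective
  let R := MvPowerSeries (Fin 2) Ah
  let N := (maximalIdeal A).map (algebraMap A R)
  let π : R →+* MvPowerSeries (Fin 2) (ResidueField A) ⧸ Ideal.span {qb} :=
    (Ideal.Quotient.mk _).comp (MvPowerSeries.map res)
  have hπQ : MvPowerSeries.map res Q = qb := by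
    simp only [Q, map_sub, map_qf, MvPowerSeries.map_C, MvPowerSeries.map_X, hresA, (hres0 α).2 hα, map_zero, sub_zero, qb]
  have hπsurj : Function.Surjective π := Ideal.Quotient.mk_surjective.comp fun f => by
    choose g hg using fun d : Fin 2 →₀ ℕ => hressurj (MvPowerSeries.coeff d f)
    refine ⟨fun d => g d, MvPowerSeries.ext fun d => ?_⟩
    rw [MvPowerSeries.coeff_map]
    exact hg d
  -- the kernel of the reduction
  have hkerπ : ∀ f, π f = 0 → f ∈ J ⊔ N := by
    intro f hf
    obtain ⟨w, hw⟩ := Ideal.mem_span_singleton'.1 (Ideal.Quotient.eq_zero_iff_mem.1 hf)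
    obtain ⟨w, rfl⟩ : ∃ w', MvPowerSeries.map res w' = w := by
      choose g hg using fun d : Fin 2 →₀ ℕ => hressurj (MvPowerSeries.coeff d w)
      refine ⟨fun d => g d, MvPowerSeries.ext fun d => ?_⟩
      rw [MvPowerSeries.coeff_map]
      exact hg d
    rw [← hπQ, ← map_mul] at hw
    rw [show f = w * Q + (f - w * Q) by ring]
    refine Submodule.add_mem_sup (Ideal.mul_mem_left _ _ (Ideal.mem_span_singleton_self _)) ?_
    obtain ⟨r, g, hg⟩ := Submodule.fg_iff_exists_fin_generating_family.1 (IsNoetherian.noetherian (maximalIdeal A))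
    rw [← Ideal.span] at hg
    have hcoef : ∀ d, ∃ e : Fin r → Ah, ∑ i, e i * algebraMap A Ah (g i) = MvPowerSeries.coeff d (f - w * Q) := by
      intro d
      refine Ideal.mem_span_range_iff_exists_fun.1 ?_
      rw [show (fun i => algebraMap A Ah (g i)) = algebraMap A Ah ∘ g from rfl, Set.range_comp, ← Ideal.map_span, hg,
        ← AdicCompletion.maximalIdeal_eq_map, ← hres0, ← MvPowerSeries.coeff_map, map_sub, hw, sub_self, map_zero]
    choose e he using hcoef
    rw [show f - w * Q = ∑ i, algebraMap A R (g i) * (show R from fun d => e d i) from MvPowerSeries.ext fun d => by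
      rw [map_sum, ← he d]
      refine Finset.sum_congr rfl fun i _ => ?_
      rw [IsScalarTower.algebraMap_apply A Ah R, MvPowerSeries.algebraMap_apply, Algebra.algebraMap_self,
        RingHom.id_apply, MvPowerSeries.coeff_C_mul, mul_comm]
      rfl]
    exact Ideal.sum_mem _ fun i _ => Ideal.mul_mem_right _ _
      (Ideal.mem_map_of_mem _ (hg ▸ Ideal.subset_span ⟨i, rfl⟩))
  have hπN : ∀ r ∈ maximalIdeal A, π (algebraMap A R r) = 0 := fun r hr => by
    change Ideal.Quotient.mk _ (MvPowerSeries.map res (algebraMap A R r)) = 0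
    rw [IsScalarTower.algebraMap_apply A Ah R, MvPowerSeries.algebraMap_apply, Algebra.algebraMap_self,
      RingHom.id_apply, MvPowerSeries.map_C, hresA, (residue_eq_zero_iff r).2 hr, map_zero, map_zero]
  have hφN : ∀ r : A, φ (algebraMap A R r) = algebraMap A Bh r := φ.commutes
  -- a surjective endomorphism of the closed fibre
  let χ : R →+* MvPowerSeries (Fin 2) (ResidueField A) ⧸ Ideal.span {qb} := Ψ.comp φ.toRingHom
  have hχker : RingHom.ker π ≤ RingHom.ker χ := by
    intro f hf
    have hle : J ⊔ N ≤ RingHom.ker χ := sup_le ((Ideal.span_singleton_le_iff_mem _).2 (by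
      show Ψ (φ Q) = 0
      rw [hφQ, map_zero])) (Ideal.map_le_iff_le_comap.2 fun r hr => by
      show Ψ (φ (algebraMap A R r)) = 0
      rw [hφN]
      exact hΨM _ (Ideal.mem_map_of_mem _ hr))
    exact hle (hkerπ f hf)
  let endo := (Ideal.Quotient.lift (RingHom.ker π) χ fun f hf => hχker hf).comp
    (RingHom.quotientKerEquivOfSurjective hπsurj).symm.toRingHom
  have hendo : ∀ f, endo (π f) = χ f := fun f => by
    have h1 : (RingHom.quotientKerEquivOfSurjective hπsurj).symm (π f) = Ideal.Quotient.mk _ f := by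
      rw [RingEquiv.symm_apply_eq]; rfl
    change Ideal.Quotient.lift (RingHom.ker π) χ (fun f hf => hχker hf) ((RingHom.quotientKerEquivOfSurjective hπsurj).symm (π f)) = _
    rw [h1]
    rfl
  have hendoinj : Function.Injective endo := by
    have hs : Function.Surjective endo := fun z => by
      obtain ⟨f, hf⟩ := hΨ.comp hsurj z
      exact ⟨π f, (hendo f).trans hf⟩
    rw [injective_iff_map_eq_zero]
    intro z hz
    let K : ℕ →o Ideal (MvPowerSeries (Fin 2) (ResidueField A) ⧸ Ideal.span {qb}) :=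
      ⟨fun n => RingHom.ker (endo ^ n : _ →+* _), monotone_nat_of_le_succ fun n w hw => by
        rw [RingHom.mem_ker, pow_succ'] at *
        rw [RingHom.mul_def, RingHom.comp_apply, hw, map_zero]⟩
    obtain ⟨n, hn⟩ := monotone_stabilizes_iff_noetherian.2 inferInstance K
    have hsn : Function.Surjective (endo ^ n : _ →+* _) := by
      rw [RingHom.coe_pow]; exact hs.iterate n
    obtain ⟨w, rfl⟩ := hsn z
    have hw : w ∈ K (n + 1) := by
      show (endo ^ (n + 1) : _ →+* _) w = 0
      rw [pow_succ', RingHom.mul_def, RingHom.comp_apply, hz]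
    rw [← hn (n + 1) (Nat.le_succ n)] at hw
    exact hw
  have hfib : ∀ f, φ f ∈ (maximalIdeal A).map (algebraMap A Bh) → f ∈ J ⊔ N := fun f hf =>
    hkerπ f (hendoinj (by rw [hendo, map_zero]; exact hΨM _ hf))
  -- induction along the powers of the maximal ideal of the base
  haveI : Module.Flat A Bh := Module.Flat.trans A B Bh
  have main : ∀ n, ∀ f, φ f = 0 → f ∈ J ⊔ N ^ n := by
    intro n
    induction n with
    | zero => intro f _; rw [pow_zero, Ideal.one_eq_top, sup_top_eq]; trivial
    | succ n ih =>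
      intro f hf
      obtain ⟨p, hp, s, hs, rfl⟩ := Submodule.mem_sup.1 (ih f hf)
      have hφp : φ p = 0 := by
        obtain ⟨w, rfl⟩ := Ideal.mem_span_singleton'.1 hp
        rw [map_mul, hφQ, mul_zero]
      rw [map_add, hφp, zero_add] at hf
      refine add_mem (Submodule.mem_sup_left hp) ?_
      obtain ⟨r, g, hg, hmin⟩ := exists_minimal_gens (maximalIdeal A ^ n)
      rw [← Ideal.map_pow, ← hg, Ideal.map_span, ← Set.range_comp, Ideal.mem_span_range_iff_exists_fun] at hs
      obtain ⟨h, rfl⟩ := hs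
      have hrel : ∑ i, g i • φ (h i) = 0 := by
        rw [← hf, map_sum]
        refine Finset.sum_congr rfl fun i _ => ?_
        rw [map_mul, Function.comp_apply, hφN, Algebra.smul_def, mul_comm]
      obtain ⟨l, e, z, hz, he⟩ := Module.Flat.isTrivialRelation_of_sum_smul_eq_zero (R := A) (M := Bh) hrel
      have hhi : ∀ i, φ (h i) ∈ (maximalIdeal A).map (algebraMap A Bh) := fun i => by
        rw [show φ (h i) = _ from hz i]
        refine Ideal.sum_mem _ fun m _ => ?_
        rw [Algebra.smul_def]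
        refine Ideal.mul_mem_right _ _ (Ideal.mem_map_of_mem _ ((mem_maximalIdeal _).2 ?_))
        exact hmin (fun i => e i m) (by simpa [mul_comm] using he m) i
      refine Ideal.sum_mem _ fun i _ => ?_
      obtain ⟨j₁, hj₁, j₂, hj₂, hij⟩ := Submodule.mem_sup.1 (hfib _ (hhi i))
      rw [← hij, add_mul]
      refine Submodule.add_mem_sup (Ideal.mul_mem_right _ _ hj₁) ?_
      rw [pow_succ', show algebraMap A R ∘ g = fun i => algebraMap A R (g i) from rfl]
      exact Ideal.mul_mem_mul hj₂ (by rw [← Ideal.map_pow]; exact Ideal.mem_map_of_mem _ (hg ▸ Ideal.subset_span ⟨i, rfl⟩))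
  refine le_antisymm (fun f hf => ?_) ((Ideal.span_singleton_le_iff_mem _).2 hφQ)
  refine mem_of_forall_mem_sup_pow ?_ fun n => sup_le_sup_left (Ideal.pow_right_mono ?_ n) J (main n f hf)
  · rw [hJ, Ideal.span_singleton_le_iff_mem]
    refine (mem_maximalIdeal _).2 fun h => ?_
    have h1 := h.map φ
    rw [hφQ] at h1
    exact not_isUnit_zero h1
  · refine Ideal.map_le_iff_le_comap.2 fun r hr => ?_
    rw [Ideal.mem_comap, IsScalarTower.algebraMap_apply A Ah R, MvPowerSeries.algebraMap_apply, Algebra.algebraMap_self,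
      RingHom.id_apply]
    exact Groth.L12.C_mem_maximalIdeal (by rw [AdicCompletion.maximalIdeal_eq_map]; exact Ideal.mem_map_of_mem _ hr)

end

end Groth.L21.Nodal
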