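import Groth.Agent.L21.Nodal.QuadConverse
import Groth.Agent.L21.Nodal.DeformNode
import Mathlib.RingTheory.Etale.Field
import Mathlib.RingTheory.Smooth.AdicCompletion
import Mathlib.RingTheory.Flat.TorsionFree
import Mathlib.RingTheory.Nakayama
import Mathlib.Algebra.Module.SpanRankOperations

/-! The algebraic description of nodes: reduced, two-dimensional cotangent space, nondegenerate quadratic cone. -/

set_option autoImplicit false
universe u

open IsLocalRing

noncomputable section

namespace Groth.L21.Nodal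

/-- A separable residue field lifts to the completion. -/
theorem exists_coeffField_sep (k A : Type u) [Field k] [CommRing A] [IsLocalRing A] [IsNoetherianRing A]
    [Algebra k A] [Algebra.IsSeparable k (ResidueField A)] :
    ∃ ι : ResidueField A →ₐ[k] AdicCompletion (maximalIdeal A) A,
      ∀ a : A, ι (residue A a) - algebraMap A (AdicCompletion (maximalIdeal A) A) a ∈
        maximalIdeal (AdicCompletion (maximalIdeal A) A) := by
  haveI : Algebra.FormallyEtale k (ResidueField A) := Algebra.FormallyEtale.of_isSeparable _ _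
  obtain ⟨g, hg⟩ := Algebra.FormallySmooth.exists_adicCompletionEvalOneₐ_comp_eq (I := maximalIdeal A)
    (AlgHom.id k (ResidueField A) : ResidueField A →ₐ[k] A ⧸ maximalIdeal A)
  refine ⟨g, fun a => IsLocalRing.le_maximalIdeal
    (RingHom.ker_ne_top (AdicCompletion.evalOneₐ (maximalIdeal A)).toRingHom) ?_⟩
  rw [RingHom.mem_ker, map_sub]
  refine sub_eq_zero.2 ((DFunLike.congr_fun hg (residue A a)).trans ?_)
  exact ((AdicCompletion.evalOneₐ (maximalIdeal A)).commutes a).symm

theorem exists_mem_nonZeroDivisors {A : Type u} [CommRing A] [IsLocalRing A] [IsNoetherianRing A] [IsReduced A]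
    (hA : ¬ IsField A) : ∃ z ∈ maximalIdeal A, ∀ s, z * s = 0 → s = 0 := by
  have h : ¬ ((maximalIdeal A : Set A) ⊆ ⋃ P ∈ minimalPrimes A, (P : Set A)) := by
    intro hsub
    obtain ⟨P, hP, hle⟩ := (Ideal.subset_union_prime_finite (minimalPrimes.finite_of_isNoetherianRing A)
      (f := id) ⊥ ⊥ (fun P hP _ _ => hP.1.1)).1 hsub
    obtain rfl : maximalIdeal A = P := (maximalIdeal.isMaximal A).eq_of_le hP.1.1.ne_top hle
    refine hA (IsLocalRing.isField_iff_maximalIdeal_eq.2 (eq_bot_iff.2 fun s hs => ?_))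
    refine (Submodule.mem_bot A).2 (IsReduced.eq_zero s ?_)
    rw [← mem_nilradical, nilradical_eq_sInf, Submodule.mem_sInf]
    exact fun Q hQ => hP.2 ⟨hQ, bot_le⟩ (IsLocalRing.le_maximalIdeal hQ.ne_top) hs
  obtain ⟨z, hz, hzn⟩ := Set.not_subset.1 h
  refine ⟨z, hz, fun s hs => IsReduced.eq_zero s ?_⟩
  rw [nilpotent_iff_mem_prime]
  intro Q hQ
  obtain ⟨P, hP, hPQ⟩ := Ideal.exists_minimalPrimes_le (bot_le : ⊥ ≤ Q)
  refine hPQ ((hP.1.1.mem_or_mem (hs.symm ▸ P.zero_mem : z * s ∈ P)).resolve_left fun h' => hzn ?_)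
  exact Set.mem_biUnion hP h'

/-- In a local ring with a nonzerodivisor and nonprincipal maximal ideal, the two leading monomials are independent. -/
theorem quad_independent {S : Type u} [CommRing S] [IsLocalRing S] [IsNoetherianRing S] (a b c x y : S)
    (ha : IsUnit a) (hgen : Ideal.span {x, y} = maximalIdeal S) (hq : qf a b c x y ∈ maximalIdeal S ^ 3)
    (z : S) (hz : z ∈ maximalIdeal S) (hreg : ∀ s, z * s = 0 → s = 0) (hnp : ¬ (maximalIdeal S).IsPrincipal)
    (P R : S) (N : ℕ) (h : P * (x * y ^ N) + R * y ^ (N + 1) ∈ maximalIdeal S ^ (N + 2)) :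
    P ∈ maximalIdeal S ∧ R ∈ maximalIdeal S := by
  set M := maximalIdeal S with hM
  have hxm : x ∈ M := hgen ▸ Ideal.subset_span (Or.inl rfl)
  have hym : y ∈ M := hgen ▸ Ideal.subset_span (Or.inr rfl)
  have hjac : M ≤ Ideal.jacobson ⊥ := IsLocalRing.maximalIdeal_le_jacobson ⊥
  have hle : ∀ n, M ^ (n + 1) ≤ Ideal.span {x * y ^ n, y ^ (n + 1)} := fun n => by
    rcases n with _ | n
    · simp [hgen]
    refine Submodule.le_of_le_smul_of_le_jacobson_bot (IsNoetherian.noetherian _) hjac ?_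
    rw [Ideal.smul_eq_mul, ← pow_succ', sup_comm]
    conv_lhs => rw [← hgen]
    refine (pow_le_sup' a b c x y ha n).trans (sup_le_sup ?_ le_rfl)
    rw [hgen, show n + 1 + 1 + 1 = 3 + n by omega, pow_add]
    exact Ideal.mul_mono_left ((Ideal.span_singleton_le_iff_mem _).2 hq)
  have hpowreg : ∀ (n : ℕ) (s : S), z ^ n * s = 0 → s = 0 := by
    intro n
    induction n with
    | zero => intro s hs; simpa using hs
    | succ n ih => intro s hs; exact hreg s (ih _ (by rw [← mul_assoc, ← pow_succ]; exact hs))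
  have hP : P ∈ M := by
    by_contra hP
    obtain ⟨P', hP'⟩ := (notMem_maximalIdeal.1 hP).exists_left_inv
    have hxy : x * y ^ N ∈ Ideal.span {y ^ (N + 1)} ⊔ M ^ (N + 2) := by
      rw [show x * y ^ N = (-(P' * R)) * y ^ (N + 1) + P' * (P * (x * y ^ N) + R * y ^ (N + 1)) by
        linear_combination (-(x * y ^ N)) * hP']
      exact Submodule.add_mem_sup (Ideal.mem_span_singleton'.2 ⟨_, rfl⟩) (Ideal.mul_mem_left _ _ h)
    have hN : M ^ (N + 1) ≤ Ideal.span {y ^ (N + 1)} := by
      refine Submodule.le_of_le_smul_of_le_jacobson_bot (IsNoetherian.noetherian _) hjac ?_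
      rw [Ideal.smul_eq_mul, ← pow_succ']
      refine (hle N).trans (Ideal.span_le.2 ?_)
      rintro _ (rfl | rfl)
      · exact hxy
      · exact Submodule.mem_sup_left (Ideal.mem_span_singleton_self _)
    obtain ⟨w, hw⟩ := Ideal.mem_span_singleton'.1 (hN (Ideal.pow_mem_pow hz (N + 1)))
    have hyreg : ∀ (n : ℕ), n ≤ N + 1 → ∀ s : S, y ^ n * s = 0 → s = 0 := fun n hn s hs => by
      refine hpowreg (N + 1) s ?_
      obtain ⟨j, hj⟩ := Nat.exists_eq_add_of_le hn
      rw [← hw, hj, pow_add]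
      linear_combination (w * y ^ j) * hs
    obtain ⟨v, hv⟩ := Ideal.mem_span_singleton'.1
      (hN (show x * y ^ N ∈ M ^ (N + 1) by rw [pow_succ']; exact Ideal.mul_mem_mul hxm (Ideal.pow_mem_pow hym N)))
    have hxv : x - v * y = 0 := hyreg N (Nat.le_succ N) _ (by linear_combination -hv)
    refine hnp ⟨y, ?_⟩
    rw [← hgen]
    refine le_antisymm (Ideal.span_le.2 ?_) (Ideal.span_mono (by simp))
    rintro _ (rfl | rfl)
    · exact Ideal.mem_span_singleton'.2 ⟨v, by linear_combination -hxv⟩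
    · exact Ideal.mem_span_singleton_self _
  refine ⟨hP, ?_⟩
  by_contra hR
  obtain ⟨R', hR'⟩ := (notMem_maximalIdeal.1 hR).exists_left_inv
  have hy : y ^ (N + 1) ∈ M ^ (N + 2) := by
    rw [show y ^ (N + 1) = R' * ((P * (x * y ^ N) + R * y ^ (N + 1)) - P * (x * y ^ N)) by
      linear_combination (-(y ^ (N + 1))) * hR']
    refine Ideal.mul_mem_left _ _ (sub_mem h ?_)
    rw [pow_succ' M (N + 1)]
    refine Ideal.mul_mem_mul hP ?_
    rw [pow_succ']
    exact Ideal.mul_mem_mul hxm (Ideal.pow_mem_pow hym N)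
  have h0 : M ^ (N + 2) ≤ (⊥ : Ideal S) := by
    refine Submodule.le_of_le_smul_of_le_jacobson_bot (IsNoetherian.noetherian _) hjac ?_
    rw [bot_sup_eq, Ideal.smul_eq_mul]
    refine (hle (N + 1)).trans (Ideal.span_le.2 ?_)
    rintro _ (rfl | rfl)
    · exact Ideal.mul_mem_mul hxm hy
    · rw [SetLike.mem_coe, pow_succ' y (N + 1)]
      exact Ideal.mul_mem_mul hym hy
  exact one_ne_zero (hpowreg (N + 2) 1 (by
    rw [mul_one]; exact (Submodule.mem_bot S).1 (h0 (Ideal.pow_mem_pow hz _))))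

/-- The kernel of a map from the power series ring onto a ring with such leading monomials. -/
theorem quad_ker {κ S : Type u} [Field κ] [CommRing S] [IsLocalRing S] [IsNoetherianRing S] (a b c : κ) (ha : a ≠ 0)
    (φ : MvPowerSeries (Fin 2) κ →+* S) (hφ : Function.Surjective φ)
    (hq : φ (qf (MvPowerSeries.C a) (MvPowerSeries.C b) (MvPowerSeries.C c) (MvPowerSeries.X 0) (MvPowerSeries.X 1)) = 0)
    (z : S) (hz : z ∈ maximalIdeal S) (hreg : ∀ s, z * s = 0 → s = 0) (hnp : ¬ (maximalIdeal S).IsPrincipal) :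
    RingHom.ker φ = Ideal.span
      {qf (MvPowerSeries.C a) (MvPowerSeries.C b) (MvPowerSeries.C c) (MvPowerSeries.X 0) (MvPowerSeries.X 1)} := by
  let Q : MvPowerSeries (Fin 2) κ :=
    qf (MvPowerSeries.C a) (MvPowerSeries.C b) (MvPowerSeries.C c) (MvPowerSeries.X 0) (MvPowerSeries.X 1)
  let M := maximalIdeal (MvPowerSeries (Fin 2) κ)
  let J := Ideal.span {Q}
  have hgen : Ideal.span {φ (MvPowerSeries.X 0), φ (MvPowerSeries.X 1)} = maximalIdeal S := by
    rw [← Set.image_pair, ← Ideal.map_span, span_X_eq_maximalIdeal, IsLocalRing.map_maximalIdeal_of_surjective φ hφ]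
  have hmem : ∀ n f, f ∈ M ^ n → φ f ∈ maximalIdeal S ^ n := fun n f hf => by
    rw [← IsLocalRing.map_maximalIdeal_of_surjective φ hφ, ← Ideal.map_pow]
    exact Ideal.mem_map_of_mem φ hf
  have hmax : ∀ f, φ f ∈ maximalIdeal S → f ∈ M := fun f hf => by
    by_contra h
    exact (mem_maximalIdeal _).1 hf ((notMem_maximalIdeal.1 h).map φ)
  have hker : ∀ n f, φ f = 0 → f ∈ J ⊔ M ^ n := by
    intro n
    induction n with
    | zero => intro f _; rw [pow_zero, Ideal.one_eq_top, sup_top_eq]; trivial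
    | succ n ih =>
      intro f hf
      cases n with
      | zero =>
        rw [zero_add, pow_one]
        exact Submodule.mem_sup_right (hmax f (hf ▸ zero_mem _))
      | succ N =>
        obtain ⟨p, hp, r, hr, rfl⟩ := Submodule.mem_sup.1 (ih f hf)
        obtain ⟨p', hp', s, hs, rfl⟩ : ∃ p' ∈ J, ∃ s ∈ Ideal.span
            {(MvPowerSeries.X 0 : MvPowerSeries (Fin 2) κ) * MvPowerSeries.X 1 ^ N, MvPowerSeries.X 1 ^ (N + 1)},
            p' + s = r :=
          Submodule.mem_sup.1 (pow_le_sup _ _ _ _ _ ((IsUnit.mk0 _ ha).map MvPowerSeries.C) N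
            (by rw [span_X_eq_maximalIdeal]; exact hr))
        obtain ⟨P, R, rfl⟩ := Ideal.mem_span_pair.1 hs
        have hJ : ∀ t ∈ J, φ t = 0 := fun t ht => by
          obtain ⟨w, rfl⟩ := Ideal.mem_span_singleton'.1 ht
          rw [map_mul, show φ Q = 0 from hq, mul_zero]
        rw [map_add, map_add, hJ p hp, hJ p' hp', zero_add, zero_add] at hf
        have hf' := hf
        rw [map_add, map_mul, map_mul, map_mul, map_pow, map_pow] at hf'
        obtain ⟨hP, hR⟩ := quad_independent (φ (MvPowerSeries.C a)) (φ (MvPowerSeries.C b)) (φ (MvPowerSeries.C c))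
          _ _ (((IsUnit.mk0 _ ha).map MvPowerSeries.C).map φ) hgen (by rw [← map_qf, hq]; exact zero_mem _) z hz hreg hnp
          (φ P) (φ R) N (by rw [hf']; exact zero_mem _)
        have hX : ∀ i : Fin 2, (MvPowerSeries.X i : MvPowerSeries (Fin 2) κ) ∈ M := fun i => by
          show _ ∈ maximalIdeal _
          rw [← span_X_eq_maximalIdeal]
          exact Ideal.subset_span (by fin_cases i <;> simp)
        refine add_mem (Submodule.mem_sup_left hp) (add_mem (Submodule.mem_sup_left hp')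
          (Submodule.mem_sup_right (add_mem ?_ ?_)))
        · rw [pow_succ']
          exact Ideal.mul_mem_mul (hmax P hP) (by rw [pow_succ']; exact Ideal.mul_mem_mul (hX 0) (Ideal.pow_mem_pow (hX 1) N))
        · rw [pow_succ' M]
          exact Ideal.mul_mem_mul (hmax R hR) (Ideal.pow_mem_pow (hX 1) (N + 1))
  refine le_antisymm (fun f hf => mem_of_forall_mem_sup_pow ?_ fun n => hker n f hf)
    ((Ideal.span_singleton_le_iff_mem _).2 hq)
  rw [Ideal.span_singleton_le_iff_mem]
  exact hmax _ (hq ▸ zero_mem _)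

/-- Two branches with distinct tangents detect everything in a quadric cone. -/
theorem quad_branches {S F : Type u} [CommRing S] [IsLocalRing S] [IsNoetherianRing S] [Field F] (a b c x y : S)
    (ha : IsUnit a) (hgen : Ideal.span {x, y} = maximalIdeal S) (hq : qf a b c x y = 0)
    (χ : Fin 2 → S →+* PowerSeries F) (r : Fin 2 → F) (τ : S →+* F) (hr : r 0 ≠ r 1)
    (hx : ∀ i, χ i x = PowerSeries.C (r i) * PowerSeries.X) (hy : ∀ i, χ i y = PowerSeries.X)
    (hτ : ∀ i s, PowerSeries.constantCoeff (χ i s) = τ s) :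
    IsReduced S ∧ ¬ (maximalIdeal S).IsPrincipal := by
  have hτm : ∀ s, τ s = 0 → s ∈ maximalIdeal S := fun s hs =>
    IsLocalRing.le_maximalIdeal (RingHom.ker_ne_top τ) hs
  have hτxy : ∀ s ∈ maximalIdeal S, τ s = 0 := fun s hs => by
    rw [← hgen, Ideal.mem_span_pair] at hs
    obtain ⟨p, q, rfl⟩ := hs
    rw [map_add, map_mul, map_mul, ← hτ 0 x, ← hτ 0 y, hx, hy, map_mul, PowerSeries.constantCoeff_X]
    simp
  have hxm : x ∈ maximalIdeal S := hgen ▸ Ideal.subset_span (Or.inl rfl)
  have hym : y ∈ maximalIdeal S := hgen ▸ Ideal.subset_span (Or.inr rfl)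
  have key : ∀ n s, (∀ i, χ i s = 0) → s ∈ maximalIdeal S ^ n := by
    intro n
    induction n with
    | zero => intro s _; rw [pow_zero, Ideal.one_eq_top]; trivial
    | succ n ih =>
      intro s hs
      cases n with
      | zero =>
        rw [zero_add, pow_one]
        exact hτm s (by rw [← hτ 0, hs, map_zero])
      | succ N =>
        have h1 := ih s hs
        rw [← hgen] at h1
        obtain ⟨p, hp, t, ht, rfl⟩ := Submodule.mem_sup.1 (pow_le_sup a b c x y ha N h1)
        rw [hq, Ideal.span_singleton_eq_bot.2 rfl, Submodule.mem_bot] at hp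
        subst hp
        obtain ⟨P, R, rfl⟩ := Ideal.mem_span_pair.1 ht
        have hlin : ∀ i, τ P * r i + τ R = 0 := fun i => by
          have h2 := hs i
          rw [zero_add, map_add, map_mul, map_mul, map_mul, map_pow, map_pow, hx, hy,
            show χ i P * (PowerSeries.C (r i) * PowerSeries.X * PowerSeries.X ^ N) + χ i R * PowerSeries.X ^ (N + 1) =
              PowerSeries.X ^ (N + 1) * (χ i P * PowerSeries.C (r i) + χ i R) by ring,
            mul_eq_zero] at h2
          have h3 := congrArg PowerSeries.constantCoeff (h2.resolve_left (pow_ne_zero _ PowerSeries.X_ne_zero))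
          rw [map_add, map_mul, PowerSeries.constantCoeff_C, hτ, hτ, map_zero] at h3
          exact h3
        have hP : τ P = 0 := (mul_eq_zero.1 (show τ P * (r 0 - r 1) = 0 by
          linear_combination hlin 0 - hlin 1)).resolve_right (sub_ne_zero.2 hr)
        have hR : τ R = 0 := by simpa [hP] using hlin 0
        rw [zero_add]
        refine add_mem ?_ ?_
        · rw [pow_succ']
          refine Ideal.mul_mem_mul (hτm P hP) ?_
          rw [pow_succ', ← hgen]
          exact Ideal.mul_mem_mul (hgen ▸ hxm) (Ideal.pow_mem_pow (hgen ▸ hym) N)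
        · rw [pow_succ' (maximalIdeal S)]
          refine Ideal.mul_mem_mul (hτm R hR) ?_
          rw [← hgen]
          exact Ideal.pow_mem_pow (hgen ▸ hym) (N + 1)
  refine ⟨⟨fun s hs => ?_⟩, ?_⟩
  · rw [← Submodule.mem_bot S, ← Ideal.iInf_pow_eq_bot_of_isLocalRing (maximalIdeal S)
      (maximalIdeal.isMaximal _).ne_top, Submodule.mem_iInf]
    exact fun n => key n s fun i => (hs.map (χ i)).eq_zero
  · rintro ⟨g, hg⟩
    have hgm : g ∈ maximalIdeal S := hg ▸ Submodule.mem_span_singleton_self g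
    have hxm : x ∈ maximalIdeal S := hgen ▸ Ideal.subset_span (Or.inl rfl)
    have hym : y ∈ maximalIdeal S := hgen ▸ Ideal.subset_span (Or.inr rfl)
    rw [hg] at hxm hym
    obtain ⟨u, hu⟩ := Submodule.mem_span_singleton.1 hxm
    obtain ⟨v, hv⟩ := Submodule.mem_span_singleton.1 hym
    rw [smul_eq_mul] at hu hv
    have hlin : ∀ i, τ u = r i * τ v ∧ τ v ≠ 0 := fun i => by
      obtain ⟨G, hG⟩ := PowerSeries.X_dvd_iff.2 (show PowerSeries.constantCoeff (χ i g) = 0 by rw [hτ]; exact hτxy g hgm)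
      have hu' := congrArg (χ i) hu
      have hv' := congrArg (χ i) hv
      rw [map_mul, hx, hG, show χ i u * (PowerSeries.X * G) = (χ i u * G) * PowerSeries.X by ring] at hu'
      rw [map_mul, hy, hG, show χ i v * (PowerSeries.X * G) = (χ i v * G) * PowerSeries.X by ring] at hv'
      have hu2 := congrArg PowerSeries.constantCoeff (mul_right_cancel₀ PowerSeries.X_ne_zero hu')
      have hv2 := congrArg PowerSeries.constantCoeff
        (mul_right_cancel₀ PowerSeries.X_ne_zero (hv'.trans (one_mul PowerSeries.X).symm))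
      rw [map_mul, hτ, PowerSeries.constantCoeff_C] at hu2
      rw [map_mul, hτ, map_one] at hv2
      exact ⟨by linear_combination (τ v) * hu2 - (τ u) * hv2, left_ne_zero_of_mul (hv2 ▸ one_ne_zero)⟩
    exact hr (mul_right_cancel₀ (hlin 0).2 ((hlin 0).1.symm.trans (hlin 1).1))

theorem exists_branch {κ F : Type u} [Field κ] [Field F] (σ : κ →+* F) (p q : F) :
    ∃ ev : MvPowerSeries (Fin 2) κ →+* PowerSeries F,
      ev (MvPowerSeries.X 0) = PowerSeries.C p * PowerSeries.X ∧
      ev (MvPowerSeries.X 1) = PowerSeries.C q * PowerSeries.X ∧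
      (∀ z, ev (MvPowerSeries.C z) = PowerSeries.C (σ z)) ∧
      ∀ f, PowerSeries.constantCoeff (ev f) = σ (MvPowerSeries.constantCoeff f) := by
  letI : Algebra κ F := σ.toAlgebra
  let pt : Fin 2 → MvPowerSeries Unit F := ![PowerSeries.C p * PowerSeries.X, PowerSeries.C q * PowerSeries.X]
  have hpt : MvPowerSeries.HasSubst pt := MvPowerSeries.hasSubst_of_constantCoeff_zero fun i => by
    fin_cases i <;>
      · change PowerSeries.constantCoeff _ = 0
        simp [pt]
  let ev : MvPowerSeries (Fin 2) κ →ₐ[κ] PowerSeries F := MvPowerSeries.substAlgHom hpt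
  have hC : ∀ z, ev (MvPowerSeries.C z) = PowerSeries.C (σ z) := fun z =>
    (ev.commutes z).trans (by simp [PowerSeries.algebraMap_apply, RingHom.algebraMap_toAlgebra])
  refine ⟨ev.toRingHom, MvPowerSeries.substAlgHom_X hpt 0, MvPowerSeries.substAlgHom_X hpt 1, hC, fun f => ?_⟩
  have h : f - MvPowerSeries.C (MvPowerSeries.constantCoeff f) ∈
      Ideal.span {(MvPowerSeries.X 0 : MvPowerSeries (Fin 2) κ), MvPowerSeries.X 1} :=
    span_X_eq_maximalIdeal κ ▸ sub_C_mem_maximalIdeal f
  obtain ⟨g, g', hgg⟩ := Ideal.mem_span_pair.1 h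
  have h' := congrArg (fun t => PowerSeries.constantCoeff (ev t)) hgg
  simp only [map_add, map_mul, map_sub, hC, show ∀ i, ev (MvPowerSeries.X i) = pt i from MvPowerSeries.substAlgHom_X hpt] at h'
  change _ = _ at h'
  simp [pt] at h'
  exact sub_eq_zero.1 h'.symm

/-- The quadric cone ring of a nondegenerate form is reduced with nonprincipal maximal ideal. -/
theorem quad_ring_props' {κ F : Type u} [Field κ] [Field F] [IsAlgClosed F] (σ : κ →+* F)
    (a b c : κ) (hD : 4 * a * c - b ^ 2 ≠ 0) :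
    IsReduced (MvPowerSeries (Fin 2) κ ⧸ Ideal.span
      {qf (MvPowerSeries.C a) (MvPowerSeries.C b) (MvPowerSeries.C c) (MvPowerSeries.X 0) (MvPowerSeries.X 1 : MvPowerSeries (Fin 2) κ)}) ∧
    ¬ ((maximalIdeal (MvPowerSeries (Fin 2) κ)).map (Ideal.Quotient.mk (Ideal.span
      {qf (MvPowerSeries.C a) (MvPowerSeries.C b) (MvPowerSeries.C c) (MvPowerSeries.X 0)
        (MvPowerSeries.X 1 : MvPowerSeries (Fin 2) κ)}))).IsPrincipal := by
  set J := Ideal.span
    {qf (MvPowerSeries.C a) (MvPowerSeries.C b) (MvPowerSeries.C c) (MvPowerSeries.X 0) (MvPowerSeries.X 1 : MvPowerSeries (Fin 2) κ)}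
  obtain ⟨a', b', c', α, β, γ, δ, ha', hdisc', hαδ, hT⟩ := exists_normal_form.{u} a b c hD
  -- the roots
  have hA' : σ a' ≠ 0 := (map_ne_zero σ).2 ha'
  obtain ⟨r₁, hr₁⟩ := IsAlgClosed.exists_root
    (Polynomial.C (σ a') * Polynomial.X ^ 2 + Polynomial.C (σ b') * Polynomial.X + Polynomial.C (σ c'))
    (by rw [Polynomial.degree_quadratic hA']; decide)
  simp only [Polynomial.IsRoot, Polynomial.eval_add, Polynomial.eval_mul, Polynomial.eval_C, Polynomial.eval_pow,
    Polynomial.eval_X] at hr₁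
  let r₂ := -σ b' / σ a' - r₁
  have hsum : σ a' * (r₁ + r₂) = -σ b' := by simp only [r₂]; field_simp; ring
  have hprod : σ a' * (r₁ * r₂) = σ c' := by linear_combination r₁ * hsum - hr₁
  have hr₂ : σ a' * r₂ ^ 2 + σ b' * r₂ + σ c' = 0 := by linear_combination r₂ * hsum - hprod
  have hr12 : r₁ ≠ r₂ := fun heq => by
    refine (map_ne_zero σ).2 hdisc' ?_
    rw [← heq] at hsum hprod
    simp only [map_sub, map_mul, map_pow, map_ofNat]
    linear_combination (-4 * σ a') * hprod + (σ a' * (r₁ + r₁) - σ b') * (hsum)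
  let r : Fin 2 → F := ![r₁, r₂]
  have hroot : ∀ i, σ a' * r i ^ 2 + σ b' * r i + σ c' = 0 := fun i => by fin_cases i <;> assumption
  choose ev hevX hevY hevC hevcc using fun i => exists_branch σ (σ α * r i + σ β) (σ γ * r i + σ δ)
  have hJker : ∀ i, ∀ f ∈ J, ev i f = 0 := fun i f hf => by
    obtain ⟨w, rfl⟩ := Ideal.mem_span_singleton'.1 hf
    rw [map_mul, map_qf, hevC, hevC, hevC, hevX, hevY, qf_mul, ← map_qf]
    have h1 := hT F σ (r i) 1
    simp only [mul_one] at h1
    rw [h1, show qf (σ a') (σ b') (σ c') (r i) 1 = 0 by simp only [qf]; linear_combination hroot i, map_zero, zero_mul,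
      mul_zero]
  have hcc0 : ∀ f ∈ J, σ (MvPowerSeries.constantCoeff f) = 0 := fun f hf => by
    rw [← hevcc 0, hJker 0 f hf, map_zero]
  haveI : Nontrivial (MvPowerSeries (Fin 2) κ ⧸ J) := Ideal.Quotient.nontrivial_iff.2 fun h => by
    have := hcc0 1 (h ▸ Submodule.mem_top)
    simp at this
  haveI : IsLocalRing (MvPowerSeries (Fin 2) κ ⧸ J) := IsLocalRing.of_surjective' _ Ideal.Quotient.mk_surjective
  rw [IsLocalRing.map_maximalIdeal_of_surjective _ Ideal.Quotient.mk_surjective]
  let mk : MvPowerSeries (Fin 2) κ →+* MvPowerSeries (Fin 2) κ ⧸ J := Ideal.Quotient.mk J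
  let ι : κ →+* MvPowerSeries (Fin 2) κ ⧸ J := mk.comp MvPowerSeries.C
  let d := α * δ - β * γ
  let x₀ := mk (MvPowerSeries.X 0)
  let y₀ := mk (MvPowerSeries.X 1)
  let x := ι (δ / d) * x₀ - ι (β / d) * y₀
  let y := ι (α / d) * y₀ - ι (γ / d) * x₀
  have hxu : ι α * x + ι β * y = x₀ := by
    have h1 : ι α * ι (δ / d) - ι β * ι (γ / d) = 1 := by
      rw [← map_mul, ← map_mul, ← map_sub, ← map_one ι, mul_div_assoc', mul_div_assoc', ← sub_div, div_self hαδ]
    have h2 : ι β * ι (α / d) = ι α * ι (β / d) := by rw [← map_mul, ← map_mul]; congr 1; ring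
    linear_combination x₀ * h1 + y₀ * h2
  have hyv : ι γ * x + ι δ * y = y₀ := by
    have h1 : ι δ * ι (α / d) - ι γ * ι (β / d) = 1 := by
      rw [← map_mul, ← map_mul, ← map_sub, ← map_one ι, mul_div_assoc', mul_div_assoc', ← sub_div, mul_comm δ α,
        mul_comm γ β, div_self hαδ]
    have h2 : ι γ * ι (δ / d) = ι δ * ι (γ / d) := by rw [← map_mul, ← map_mul]; congr 1; ring
    linear_combination y₀ * h1 + x₀ * h2
  have hgen₀ : Ideal.span {x₀, y₀} = maximalIdeal (MvPowerSeries (Fin 2) κ ⧸ J) := by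
    rw [← IsLocalRing.map_maximalIdeal_of_surjective mk Ideal.Quotient.mk_surjective, ← span_X_eq_maximalIdeal,
      Ideal.map_span, Set.image_pair]
  have hgen : Ideal.span {x, y} = maximalIdeal (MvPowerSeries (Fin 2) κ ⧸ J) := by
    rw [← hgen₀]
    refine le_antisymm ?_ ?_
    · rw [Ideal.span_le]
      rintro _ (rfl | rfl)
      · exact Ideal.mem_span_pair.2 ⟨ι (δ / d), -ι (β / d), by ring⟩
      · exact Ideal.mem_span_pair.2 ⟨-ι (γ / d), ι (α / d), by ring⟩
    · rw [Ideal.span_le]
      rintro _ (rfl | rfl)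
      · exact Ideal.mem_span_pair.2 ⟨_, _, hxu⟩
      · exact Ideal.mem_span_pair.2 ⟨_, _, hyv⟩
  have hq : qf (ι a') (ι b') (ι c') x y = 0 := by
    have h1 := hT (MvPowerSeries (Fin 2) κ ⧸ J) ι x y
    rw [← h1, hxu, hyv]
    show qf (mk _) (mk _) (mk _) (mk _) (mk _) = 0
    rw [← map_qf]
    exact Ideal.Quotient.eq_zero_iff_mem.2 (Ideal.mem_span_singleton_self _)
  let χ : Fin 2 → (MvPowerSeries (Fin 2) κ ⧸ J) →+* PowerSeries F := fun i => Ideal.Quotient.lift J (ev i) (hJker i)
  have hχι : ∀ i z, χ i (ι z) = PowerSeries.C (σ z) := fun i z => hevC i z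
  have hdd : σ α * σ δ - σ β * σ γ = σ d := by simp [d]
  have hd0 : σ d ≠ 0 := (map_ne_zero σ).2 hαδ
  refine quad_branches (ι a') (ι b') (ι c') x y ((IsUnit.mk0 _ ha').map ι) hgen hq χ r
    (Ideal.Quotient.lift J (σ.comp MvPowerSeries.constantCoeff) hcc0) hr12 (fun i => ?_) (fun i => ?_) (fun i s => ?_)
  · rw [map_sub, map_mul, map_mul, hχι, hχι, show χ i x₀ = _ from hevX i, show χ i y₀ = _ from hevY i, ← mul_assoc,
      ← mul_assoc, ← sub_mul, ← map_mul, ← map_mul, ← map_sub]
    congr 2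
    simp only [map_div₀]
    field_simp
    linear_combination (r i) * hdd
  · rw [map_sub, map_mul, map_mul, hχι, hχι, show χ i x₀ = _ from hevX i, show χ i y₀ = _ from hevY i, ← mul_assoc,
      ← mul_assoc, ← sub_mul, ← map_mul, ← map_mul, ← map_sub]
    convert one_mul PowerSeries.X
    rw [← map_one PowerSeries.C]
    congr 1
    simp only [map_div₀]
    field_simp
    linear_combination hdd
  · obtain ⟨f, rfl⟩ := Ideal.Quotient.mk_surjective s
    exact hevcc i f

theorem quad_ring_props {κ : Type u} [Field κ] (a b c : κ) (hD : 4 * a * c - b ^ 2 ≠ 0) :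
    IsReduced (MvPowerSeries (Fin 2) κ ⧸ Ideal.span
      {qf (MvPowerSeries.C a) (MvPowerSeries.C b) (MvPowerSeries.C c) (MvPowerSeries.X 0) (MvPowerSeries.X 1 : MvPowerSeries (Fin 2) κ)}) ∧
    ¬ ((maximalIdeal (MvPowerSeries (Fin 2) κ)).map (Ideal.Quotient.mk (Ideal.span
      {qf (MvPowerSeries.C a) (MvPowerSeries.C b) (MvPowerSeries.C c) (MvPowerSeries.X 0)
        (MvPowerSeries.X 1 : MvPowerSeries (Fin 2) κ)}))).IsPrincipal :=
  quad_ring_props' (algebraMap κ (AlgebraicClosure κ)) a b c hD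

end Groth.L21.Nodal
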