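import Groth.Agent.L19.Topology
import Mathlib.AlgebraicGeometry.Morphisms.QuasiFinite
import Mathlib.AlgebraicGeometry.Morphisms.FiniteType

/-! "All irreducible components have dimension one" in terms of specialisations. -/

set_option autoImplicit false
universe u

open CategoryTheory AlgebraicGeometry TopologicalSpace Topology

namespace Groth.L21.Nodal

/-- No chains of three points, and no point which is both closed and maximal. -/
def CurveLike (T : Type*) [TopologicalSpace T] : Prop :=
  (∀ a b c : T, a ⤳ b → b ⤳ c → a = b ∨ b = c) ∧ ∀ x : T, IsClosed ({x} : Set T) → ∃ y, y ≠ x ∧ y ⤳ x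

theorem eq_of_isDiscrete {T : Type*} [TopologicalSpace T] {S : Set T} (hS : IsDiscrete S) {a b : T}
    (ha : a ∈ S) (hb : b ∈ S) (h : a ⤳ b) : a = b := by
  obtain ⟨U, hU, hUS⟩ := isDiscrete_iff_forall_mem_exists_isOpen.1 hS b hb
  have : a ∈ U ∩ S := ⟨h.mem_open hU (hUS ▸ rfl : b ∈ U ∩ S).1, ha⟩
  rw [hUS] at this
  exact this

theorem curveLike_iff (T : Type u) [TopologicalSpace T] [QuasiSober T] [T0Space T] :
    CurveLike T ↔ ∀ Z ∈ irreducibleComponents T, topologicalKrullDim Z = 1 := by
  constructor
  · rintro ⟨hA, hB⟩ Z hZ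
    have hcl := isClosed_of_mem_irreducibleComponents Z hZ
    haveI : QuasiSober Z := hcl.isClosedEmbedding_subtypeVal.quasiSober
    obtain ⟨η, hη⟩ := QuasiSober.sober hZ.1 hcl
    rw [Groth.L19.topologicalKrullDim_eq_krullDim]
    let _ := specializationOrder Z
    refine le_antisymm (iSup_le fun p => ?_) ?_
    · by_contra hp
      have hp2 : 2 ≤ p.length := by
        by_contra h2
        exact hp (by exact_mod_cast (show p.length ≤ 1 by omega))
      have h01 : p ⟨0, by omega⟩ < p ⟨1, by omega⟩ := p.strictMono (by simp [Fin.lt_def])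
      have h12 : p ⟨1, by omega⟩ < p ⟨2, by omega⟩ := p.strictMono (by simp [Fin.lt_def])
      rcases hA _ _ _ (h12.le.map continuous_subtype_val) (h01.le.map continuous_subtype_val) with e | e
      · exact h12.ne (Subtype.ext e).symm
      · exact h01.ne (Subtype.ext e).symm
    · have hmem : η ∈ Z := hη.mem
      obtain ⟨z, hz, hzne⟩ : ∃ z ∈ Z, z ≠ η := by
        by_contra hcon
        push Not at hcon
        have hZeq : Z = {η} := Set.Subset.antisymm (fun z hz => hcon z hz) (Set.singleton_subset_iff.2 hmem)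
        obtain ⟨y, hy, hyη⟩ := hB η (hZeq ▸ hcl)
        have hle : Z ⊆ closure {y} := by
          rw [hZeq, Set.singleton_subset_iff]
          exact hyη.mem_closure
        have := hZ.2 isIrreducible_singleton.closure hle (subset_closure rfl)
        exact hy (hcon y this)
      let zz : Z := ⟨z, hz⟩
      let ηη : Z := ⟨η, hmem⟩
      have hlt : zz < ηη := lt_of_le_of_ne
        (show ηη ⤳ zz from (subtype_specializes_iff ηη zz).2 (hη.specializes hz))
        (fun e => hzne (congrArg Subtype.val e : zz.1 = ηη.1))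
      let p : LTSeries Z := (RelSeries.singleton {q : Z × Z | q.1 < q.2} zz).snoc ηη hlt
      exact le_trans (by simp [p]) (Order.LTSeries.length_le_krullDim p)
  · intro hdim
    refine ⟨fun a b c hab hbc => ?_, fun x hx => ?_⟩
    · by_contra hne
      push Not at hne
      obtain ⟨Z, hZ, haZ⟩ := exists_mem_irreducibleComponents_subset_of_isIrreducible _
        (isIrreducible_singleton (x := a))
      have hcl := isClosed_of_mem_irreducibleComponents Z hZ
      haveI : QuasiSober Z := hcl.isClosedEmbedding_subtypeVal.quasiSober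
      have haZ' : a ∈ Z := haZ rfl
      have hbZ : b ∈ Z := hab.mem_closed hcl haZ'
      have hcZ : c ∈ Z := hbc.mem_closed hcl hbZ
      have h1 := hdim Z hZ
      rw [Groth.L19.topologicalKrullDim_eq_krullDim] at h1
      let _ := specializationOrder Z
      let aa : Z := ⟨a, haZ'⟩
      let bb : Z := ⟨b, hbZ⟩
      let cc : Z := ⟨c, hcZ⟩
      have l1 : cc < bb := lt_of_le_of_ne
        (show bb ⤳ cc from (subtype_specializes_iff bb cc).2 hbc)
        (fun e => hne.2 (congrArg Subtype.val e : cc.1 = bb.1).symm)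
      have l2 : bb < aa := lt_of_le_of_ne
        (show aa ⤳ bb from (subtype_specializes_iff aa bb).2 hab)
        (fun e => hne.1 (congrArg Subtype.val e : bb.1 = aa.1).symm)
      let p : LTSeries Z := ((RelSeries.singleton {q : Z × Z | q.1 < q.2} cc).snoc bb l1).snoc aa
        (by simpa using l2)
      have h2 := Order.LTSeries.length_le_krullDim p
      rw [h1] at h2
      simp [p] at h2
    · obtain ⟨Z, hZ, hxZ⟩ := exists_mem_irreducibleComponents_subset_of_isIrreducible _
        (isIrreducible_singleton (x := x))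
      have hcl := isClosed_of_mem_irreducibleComponents Z hZ
      obtain ⟨η, hη⟩ := QuasiSober.sober hZ.1 hcl
      refine ⟨η, fun e => ?_, hη.specializes (hxZ rfl)⟩
      subst e
      have hZeq : Z = {η} := by rw [← hη.def, hx.closure_eq]
      have h1 := hdim Z hZ
      haveI : Subsingleton Z := ⟨fun a b => Subtype.ext (by
        have ha := a.2; have hb := b.2
        simp only [hZeq, Set.mem_singleton_iff] at ha hb
        rw [ha, hb])⟩
      haveI : QuasiSober Z := hcl.isClosedEmbedding_subtypeVal.quasiSober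
      rw [Groth.L19.topologicalKrullDim_eq_krullDim] at h1
      let _ := specializationOrder Z
      haveI : Nonempty Z := ⟨⟨η, hxZ rfl⟩⟩
      rw [Order.krullDim_eq_zero] at h1
      exact zero_ne_one h1

variable {X Y : Scheme.{u}} (g : Y ⟶ X) [Flat g] [LocallyQuasiFinite g]

theorem eq_of_specializes {a b : Y} (h : a ⤳ b) (e : g a = g b) : a = b :=
  eq_of_isDiscrete (g.isDiscrete_preimage_singleton (g b)) e rfl h

theorem isClosed_singleton_of_image [JacobsonSpace Y] (y : Y) (hx : IsClosed ({g y} : Set X)) :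
    IsClosed ({y} : Set Y) := by
  have hcl : IsClosed (g ⁻¹' {g y}) := hx.preimage g.continuous
  rw [← closure_subset_iff_isClosed]
  intro z hz
  have hs : y ⤳ z := specializes_iff_mem_closure.2 hz
  exact (eq_of_specializes g hs (hs.mem_closed hcl rfl).symm).symm

theorem CurveLike.of_quasiFinite [LocallyOfFiniteType g] [JacobsonSpace X] (h : CurveLike X) : CurveLike Y := by
  refine ⟨fun a b c hab hbc => ?_, fun y hy => ?_⟩
  · rcases h.1 _ _ _ (hab.map g.continuous) (hbc.map g.continuous) with e | e
    · exact Or.inl (eq_of_specializes g hab e)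
    · exact Or.inr (eq_of_specializes g hbc e)
  · obtain ⟨x, hx, hxy⟩ := h.2 (g y) (g.closePoints_subset_preimage_closedPoints hy)
    obtain ⟨y', hy', rfl⟩ := Flat.generalizingMap g hxy
    exact ⟨y', fun e => hx (by rw [e]), hy'⟩

omit [Flat g] [LocallyQuasiFinite g] in
theorem CurveLike.of_cover {ι : Type*} (Z : ι → Scheme.{u}) (q : ∀ i, Z i ⟶ X) [∀ i, Flat (q i)]
    [∀ i, LocallyQuasiFinite (q i)] [∀ i, JacobsonSpace (Z i)]
    (hs : ∀ x : X, ∃ i, x ∈ Set.range (q i)) (h : ∀ i, CurveLike (Z i)) : CurveLike X := by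
  refine ⟨fun a b c hab hbc => ?_, fun x hx => ?_⟩
  · obtain ⟨i, z, rfl⟩ := hs c
    obtain ⟨y, hy, rfl⟩ := Flat.generalizingMap (q i) hbc
    obtain ⟨w, hw, rfl⟩ := Flat.generalizingMap (q i) hab
    rcases (h i).1 _ _ _ hw hy with e | e
    · exact Or.inl (congrArg (q i) e)
    · exact Or.inr (congrArg (q i) e)
  · obtain ⟨i, y, rfl⟩ := hs x
    obtain ⟨y', hne, hy'⟩ := (h i).2 y (isClosed_singleton_of_image (q i) y hx)
    exact ⟨q i y', fun e => hne (eq_of_specializes (q i) hy' e), hy'.map (q i).continuous⟩

end Groth.L21.Nodal
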