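import Groth.Agent.L21.Nodal.Node
import Groth.Agent.L21.Nodal.CurveLike
import Groth.Agent.L23.SourceDescent
import Groth.Agent.L23.QFDescent

/-! At-worst-nodal families are etale local on the source. -/

set_option autoImplicit false
universe u

open CategoryTheory CategoryTheory.Limits AlgebraicGeometry TopologicalSpace

namespace Groth.L21.Nodal

variable {k : Type u} [Field k] {X Y : Scheme.{u}} [X.Over (Spec (CommRingCat.of k))]
  [Y.Over (Spec (CommRingCat.of k))]
  [LocallyOfFiniteType (X ↘ Spec (CommRingCat.of k))] [LocallyOfFiniteType (Y ↘ Spec (CommRingCat.of k))]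

theorem atWorstNodal_of_etale (h : Y ⟶ X) [Etale h]
    (hh : h ≫ (X ↘ Spec (CommRingCat.of k)) = Y ↘ Spec (CommRingCat.of k))
    (hX : Curv2.AtWorstNodal k X) : Curv2.AtWorstNodal k Y := by
  intro y hy
  haveI : JacobsonSpace X := LocallyOfFiniteType.jacobsonSpace (X ↘ Spec (CommRingCat.of k))
  rcases hX (h y) (h.closePoints_subset_preimage_closedPoints hy) with ⟨U, hxU, hU⟩ | hn
  · refine Or.inl ⟨h ⁻¹ᵁ U, hxU, ?_⟩
    rw [← hh, ← morphismRestrict_ι_assoc]
    haveI := hU
    infer_instance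
  · exact Or.inr (isNode_of_etale h hh y hy hn)

/-- The image of an open under an etale morphism receives an etale surjection. -/
theorem exists_etale_surjective_image {V W : Scheme.{u}} (h : V ⟶ W) [Etale h] (U : V.Opens) :
    ∃ (O : W.Opens) (l : U.toScheme ⟶ O.toScheme),
      (O : Set W) = h '' U ∧ Etale l ∧ Surjective l ∧ l ≫ O.ι = U.ι ≫ h := by
  let O : W.Opens := ⟨h '' U, h.isOpenMap _ U.isOpen⟩
  have hr : Set.range (U.ι ≫ h) ⊆ Set.range O.ι := by
    rintro _ ⟨z, rfl⟩
    rw [Scheme.Opens.range_ι]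
    exact ⟨U.ι z, z.2, rfl⟩
  let l := IsOpenImmersion.lift O.ι (U.ι ≫ h) hr
  have hl : l ≫ O.ι = U.ι ≫ h := IsOpenImmersion.lift_fac _ _ _
  haveI : Etale (l ≫ O.ι) := by rw [hl]; infer_instance
  refine ⟨O, l, rfl, Etale.of_comp l O.ι, ⟨fun o => ?_⟩, hl⟩
  obtain ⟨v, hv, hv'⟩ : O.ι o ∈ h '' U := o.2
  obtain ⟨z, rfl⟩ : v ∈ Set.range U.ι := by rw [Scheme.Opens.range_ι]; exact hv
  refine ⟨z, O.ι.isOpenEmbedding.injective ?_⟩
  rw [← Scheme.Hom.comp_apply, hl, Scheme.Hom.comp_apply, hv']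

omit [LocallyOfFiniteType (Y ↘ Spec (CommRingCat.of k))] [Y.Over (Spec (CommRingCat.of k))] in
theorem atWorstNodal_of_cover {ι : Type*} (Z : ι → Scheme.{u}) [∀ i, (Z i).Over (Spec (CommRingCat.of k))]
    [∀ i, LocallyOfFiniteType (Z i ↘ Spec (CommRingCat.of k))] (q : ∀ i, Z i ⟶ X) [∀ i, Etale (q i)]
    (hq : ∀ i, q i ≫ (X ↘ Spec (CommRingCat.of k)) = Z i ↘ Spec (CommRingCat.of k))
    (hs : ∀ x : X, ∃ i, x ∈ Set.range (q i)) (h : ∀ i, Curv2.AtWorstNodal k (Z i)) :
    Curv2.AtWorstNodal k X := by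
  intro x hx
  obtain ⟨i, y, rfl⟩ := hs x
  haveI : JacobsonSpace (Z i) := LocallyOfFiniteType.jacobsonSpace (Z i ↘ Spec (CommRingCat.of k))
  rcases h i y (isClosed_singleton_of_image (q i) y hx) with ⟨U, hyU, hU⟩ | hn
  · obtain ⟨O, l, hO, hle, hls, hl⟩ := exists_etale_surjective_image (q i) U
    refine Or.inl ⟨O, ?_, ?_⟩
    · change q i y ∈ (O : Set X)
      rw [hO]
      exact ⟨y, hyU, rfl⟩
    · apply Groth.L23.smooth_of_etale_comp' l
      rw [← Category.assoc, hl, Category.assoc, hq]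
      exact hU
  · exact Or.inr (isNode_image_of_etale (q i) (hq i) y hn)

section Family

variable {X Y S : Scheme.{u}} (f : X ⟶ S) (g : Y ⟶ X)

/-- The map of fibres induced by `g`. -/
theorem exists_fiberMap (s : S) :
    ∃ φ : (g ≫ f).fiber s ⟶ f.fiber s,
      IsPullback φ ((g ≫ f).fiberι s) (f.fiberι s) g ∧
      φ ≫ f.fiberToSpecResidueField s = (g ≫ f).fiberToSpecResidueField s := by
  let φ : (g ≫ f).fiber s ⟶ f.fiber s :=
    pullback.lift ((g ≫ f).fiberι s ≫ g) ((g ≫ f).fiberToSpecResidueField s)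
      (by rw [Category.assoc]; exact (g ≫ f).fiber_fac s)
  have h1 : φ ≫ f.fiberι s = (g ≫ f).fiberι s ≫ g := pullback.lift_fst _ _ _
  have h2 : φ ≫ f.fiberToSpecResidueField s = (g ≫ f).fiberToSpecResidueField s := pullback.lift_snd _ _ _
  have big : IsPullback (φ ≫ f.fiberToSpecResidueField s) ((g ≫ f).fiberι s)
      (S.fromSpecResidueField s) (g ≫ f) := by
    rw [h2]
    exact (IsPullback.of_hasPullback _ _).flip
  exact ⟨φ, IsPullback.of_right big h1 (IsPullback.of_hasPullback _ _).flip, h2⟩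

theorem comp_etale [Etale g] (hf : Curv2.IsNodalFamily f) : Curv2.IsNodalFamily (g ≫ f) := by
  obtain ⟨hflat, hlfp, hfib⟩ := hf
  refine ⟨inferInstance, inferInstance, fun s => ?_⟩
  obtain ⟨φ, hpb, hφ⟩ := exists_fiberMap f g s
  haveI : Etale φ := MorphismProperty.of_isPullback hpb.flip ‹Etale g›
  letI : (f.fiber s).Over (Spec (S.residueField s)) := ⟨f.fiberToSpecResidueField s⟩
  letI : ((g ≫ f).fiber s).Over (Spec (S.residueField s)) := ⟨(g ≫ f).fiberToSpecResidueField s⟩
  haveI : LocallyOfFiniteType (f.fiber s ↘ Spec (S.residueField s)) :=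
    MorphismProperty.pullback_snd _ _ inferInstance
  haveI : LocallyOfFiniteType ((g ≫ f).fiber s ↘ Spec (S.residueField s)) :=
    MorphismProperty.pullback_snd _ _ inferInstance
  haveI : JacobsonSpace (f.fiber s) := LocallyOfFiniteType.jacobsonSpace (f.fiber s ↘ Spec (S.residueField s))
  exact ⟨(curveLike_iff _).1 (((curveLike_iff _).2 (hfib s).1).of_quasiFinite φ),
    atWorstNodal_of_etale (k := S.residueField s) φ hφ (hfib s).2⟩

omit g in
theorem of_etale_cover {ι : Type*} (U : ι → Scheme.{u}) (g : ∀ i, U i ⟶ X) [∀ i, Etale (g i)]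
    (hsurj : ∀ x : X, ∃ i, x ∈ Set.range (g i)) (h : ∀ i, Curv2.IsNodalFamily (g i ≫ f)) :
    Curv2.IsNodalFamily f := by
  choose O l hO hle hls hl using fun i => exists_etale_surjective_image (g i) ⊤
  have hcov : ⨆ i, O i = ⊤ := top_le_iff.mp fun x _ => by
    obtain ⟨i, y, rfl⟩ := hsurj x
    refine Opens.mem_iSup.mpr ⟨i, ?_⟩
    change g i y ∈ (O i : Set X)
    rw [hO]
    exact ⟨y, trivial, rfl⟩
  have heq : ∀ i, l i ≫ (O i).ι ≫ f = (⊤ : (U i).Opens).ι ≫ g i ≫ f := fun i => by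
    rw [← Category.assoc, hl, Category.assoc]
  refine ⟨?_, ?_, fun s => ?_⟩
  · rw [IsZariskiLocalAtSource.iff_of_iSup_eq_top (P := @Flat) O hcov]
    intro i
    haveI := hle i; haveI := hls i; haveI := (h i).1
    apply Groth.L23.flat_of_etale_comp' (l i)
    rw [heq]
    infer_instance
  · rw [IsZariskiLocalAtSource.iff_of_iSup_eq_top (P := @LocallyOfFinitePresentation) O hcov]
    intro i
    haveI := hle i; haveI := hls i; haveI := (h i).2.1
    apply Groth.L23.locallyOfFinitePresentation_of_etale_comp' (l i)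
    rw [heq]
    infer_instance
  haveI : LocallyOfFiniteType f := by
    rw [IsZariskiLocalAtSource.iff_of_iSup_eq_top (P := @LocallyOfFiniteType) O hcov]
    intro i
    haveI := hle i; haveI := hls i; haveI := (h i).2.1
    apply Groth.L23.locallyOfFiniteType_of_etale_comp' (l i)
    rw [heq]
    infer_instance
  choose φ hpb hφ using fun i => exists_fiberMap f (g i) s
  haveI : ∀ i, Etale (φ i) := fun i => MorphismProperty.of_isPullback (hpb i).flip inferInstance
  letI : (f.fiber s).Over (Spec (S.residueField s)) := ⟨f.fiberToSpecResidueField s⟩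
  letI : ∀ i, ((g i ≫ f).fiber s).Over (Spec (S.residueField s)) := fun i =>
    ⟨(g i ≫ f).fiberToSpecResidueField s⟩
  haveI : LocallyOfFiniteType (f.fiber s ↘ Spec (S.residueField s)) :=
    MorphismProperty.pullback_snd _ _ inferInstance
  haveI : ∀ i, LocallyOfFiniteType ((g i ≫ f).fiber s ↘ Spec (S.residueField s)) := fun i =>
    MorphismProperty.pullback_snd _ _ inferInstance
  haveI : ∀ i, JacobsonSpace ((g i ≫ f).fiber s) := fun i =>
    LocallyOfFiniteType.jacobsonSpace ((g i ≫ f).fiber s ↘ Spec (S.residueField s))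
  have hs : ∀ z : f.fiber s, ∃ i, z ∈ Set.range (φ i) := fun z => by
    obtain ⟨i, y, hy⟩ := hsurj (f.fiberι s z)
    obtain ⟨p, hp, -⟩ := Scheme.exists_preimage_of_isPullback (hpb i) z y hy.symm
    exact ⟨i, p, hp⟩
  exact ⟨(curveLike_iff _).1 (CurveLike.of_cover _ φ hs fun i => (curveLike_iff _).2 ((h i).2.2 s).1),
    atWorstNodal_of_cover (k := S.residueField s) _ φ hφ hs fun i => ((h i).2.2 s).2⟩

end Family

end Groth.L21.Nodal
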