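import Groth.Agent.L21.Nodal.QuadNode
import Groth.Agent.L21.Nodal.AlgNode
import Groth.Agent.L21.Nodal.EtaleLocal
import Groth.Agent.L21.Curve.SmoothDescent
import Groth.Agent.L18.CurveDimension
import Groth.Agent.S1631
import Groth.Agent.S9442
import Groth.Agent.L03.GeomReduced
import Mathlib.RingTheory.Etale.Field

/-! Reduced one-dimensional closed subschemes of nodal curves are nodal. -/

set_option autoImplicit false
universe u

open CategoryTheory CategoryTheory.Limits AlgebraicGeometry IsLocalRing TopologicalSpace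

attribute [local instance] Curv2.resAlgebra Curv2.stalkAlgebra

noncomputable section

namespace Groth.L21.Nodal

/-- A reduced quotient which is not a field of an algebraic node is regular or again an algebraic node. -/
theorem regular_or_quad_of_surjective (k : Type u) [Field k] {A B : Type u} [CommRing A] [IsLocalRing A]
    [IsNoetherianRing A] [CommRing B] [IsLocalRing B] [IsNoetherianRing B] [IsReduced B] [Algebra k A] [Algebra k B]
    (φ : A →ₐ[k] B) (hφ : Function.Surjective φ) (hB : ¬ IsField B) (hsep : Algebra.IsSeparable k (ResidueField A))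
    (hquad : ∃ x y a b c : A, x ∈ maximalIdeal A ∧ y ∈ maximalIdeal A ∧
        Ideal.span {x, y} ⊔ maximalIdeal A ^ 2 = maximalIdeal A ∧
        residue A (4 * a * c - b ^ 2) ≠ 0 ∧ a * x ^ 2 + b * x * y + c * y ^ 2 ∈ maximalIdeal A ^ 3) :
    Algebra.IsSeparable k (ResidueField B) ∧ (IsRegularLocalRing B ∨
      (Algebra.IsSeparable k (ResidueField B) ∧ IsReduced B ∧
        Module.finrank (ResidueField B) (CotangentSpace B) = 2 ∧
        ∃ x y a b c : B, x ∈ maximalIdeal B ∧ y ∈ maximalIdeal B ∧
          Ideal.span {x, y} ⊔ maximalIdeal B ^ 2 = maximalIdeal B ∧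
          residue B (4 * a * c - b ^ 2) ≠ 0 ∧ a * x ^ 2 + b * x * y + c * y ^ 2 ∈ maximalIdeal B ^ 3)) := by
  haveI : IsLocalHom φ.toRingHom := IsLocalHom.of_surjective _ hφ
  have hbij : Function.Bijective (ResidueField.map φ.toRingHom) := ⟨RingHom.injective _, fun z => by
    obtain ⟨b, rfl⟩ := residue_surjective z
    obtain ⟨a, rfl⟩ := hφ b
    exact ⟨residue A a, ResidueField.map_residue _ _⟩⟩
  let ψ : ResidueField A →ₐ[k] ResidueField B := { ResidueField.map φ.toRingHom with
    commutes' := fun t => by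
      change ResidueField.map φ.toRingHom (residue A (algebraMap k A t)) = residue B (algebraMap k B t)
      rw [ResidueField.map_residue]
      exact congrArg (residue B) (φ.commutes t) }
  have hsepB : Algebra.IsSeparable k (ResidueField B) :=
    Algebra.IsSeparable.of_algHom k (ResidueField A) (AlgEquiv.ofBijective ψ hbij).symm.toAlgHom
  refine ⟨hsepB, ?_⟩
  by_cases hp : (maximalIdeal B).IsPrincipal
  · refine Or.inl (IsRegularLocalRing.of_spanFinrank_maximalIdeal_le B ?_)
    have h1 : (maximalIdeal B).spanFinrank ≤ 1 := by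
      obtain ⟨g, hg⟩ := hp
      rw [hg]
      exact (Submodule.spanFinrank_span_le_ncard_of_finite (Set.finite_singleton g)).trans (by simp)
    have h2 : (1 : WithBot ℕ∞) ≤ ringKrullDim B := by
      by_contra hlt
      rw [not_le] at hlt
      haveI : Ring.KrullDimLE 0 B := by
        rw [Ring.krullDimLE_iff]
        generalize ringKrullDim B = d at hlt ⊢
        cases d with
        | bot => exact bot_le
        | coe n => exact_mod_cast (ENat.lt_one_iff_eq_zero.1 (WithBot.coe_lt_coe.1 hlt)).le
      exact hB Ring.KrullDimLE.isField_of_isReduced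
    exact le_trans (by exact_mod_cast h1) h2
  · refine Or.inr ⟨hsepB, inferInstance, ?_⟩
    obtain ⟨x, y, a, b, c, hx, hy, hgen, hD, hq⟩ := hquad
    have hm : (maximalIdeal A).map φ.toRingHom = maximalIdeal B := IsLocalRing.map_maximalIdeal_of_surjective _ hφ
    have hgenB : Ideal.span {φ x, φ y} ⊔ maximalIdeal B ^ 2 = maximalIdeal B := by
      have h := congrArg (Ideal.map φ.toRingHom) hgen
      rw [Ideal.map_sup, Ideal.map_span, Set.image_pair, Ideal.map_pow, hm] at h
      exact h
    have hxB : φ x ∈ maximalIdeal B := hm ▸ Ideal.mem_map_of_mem φ.toRingHom hx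
    have hyB : φ y ∈ maximalIdeal B := hm ▸ Ideal.mem_map_of_mem φ.toRingHom hy
    refine ⟨?_, φ x, φ y, φ a, φ b, φ c, hxB, hyB, hgenB, ?_, ?_⟩
    · refine le_antisymm ?_ ?_
      · rw [← IsLocalRing.spanFinrank_maximalIdeal_eq_finrank_cotangentSpace]
        have h1 : Ideal.span {φ x, φ y} = maximalIdeal B := by
          refine le_antisymm (Ideal.span_le.2 ?_) (Submodule.le_of_le_smul_of_le_jacobson_bot (IsNoetherian.noetherian _)
            (IsLocalRing.maximalIdeal_le_jacobson ⊥) (by rw [Ideal.smul_eq_mul, ← pow_two, hgenB]))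
          rintro _ (rfl | rfl) <;> assumption
        rw [← h1]
        refine (Submodule.spanFinrank_span_le_ncard_of_finite (Set.toFinite _)).trans ?_
        exact (Set.ncard_insert_le _ _).trans (by simp)
      · by_contra h
        exact hp (IsLocalRing.finrank_cotangentSpace_le_one_iff.1 (by omega))
    · rw [residue_ne_zero_iff_isUnit] at hD ⊢
      have := hD.map φ
      simpa only [map_sub, map_mul, map_pow, map_ofNat] using this
    · have := Ideal.mem_map_of_mem φ.toRingHom hq
      rw [Ideal.map_pow, hm] at this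
      simpa using this

variable {k : Type u} [Field k] {X Y : Scheme.{u}} [X.Over (Spec (CommRingCat.of k))] [Y.Over (Spec (CommRingCat.of k))]

/-- A regular closed point with separable residue field is smooth. -/
theorem mem_smoothLocus_of_regular [LocallyOfFinitePresentation (Y ↘ Spec (CommRingCat.of k))] (y : Y)
    (hyc : IsClosed ({y} : Set Y)) [IsRegularLocalRing (Y.presheaf.stalk y)]
    (hs : Algebra.IsSeparable k (Y.residueField y)) : y ∈ (Y ↘ Spec (CommRingCat.of k)).smoothLocus := by
  obtain ⟨V, hV, hyV, -⟩ := exists_isAffineOpen_mem_and_subset (X := Y) (U := ⊤) (x := y) trivial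
  set f := Y ↘ Spec (CommRingCat.of k) with hf
  let e : k ≃+* Γ(Spec (CommRingCat.of k), ⊤) := (Scheme.ΓSpecIso (CommRingCat.of k)).symm.commRingCatIsoToRingEquiv
  rw [Scheme.Hom.mem_smoothLocus, formallySmooth_stalkMap_iff ⊤ (isAffineOpen_top _) V hV le_top hyV]
  have hft := f.finiteType_appLE (isAffineOpen_top _) hV (le_top : V ≤ f ⁻¹ᵁ ⊤)
  letI := (f.appLE ⊤ V le_top).hom.toAlgebra
  haveI : Algebra.FiniteType Γ(Spec (CommRingCat.of k), ⊤) Γ(Y, V) := hft
  letI : Field Γ(Spec (CommRingCat.of k), ⊤) := (e.symm.toMulEquiv.isField (Field.toIsField k)).toField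
  set q := (hV.primeIdealOf ⟨y, hyV⟩).asIdeal
  letI := Y.presheaf.algebra_section_stalk ⟨y, hyV⟩
  haveI := hV.isLocalization_stalk ⟨y, hyV⟩
  let ψ := IsLocalization.algEquiv q.primeCompl (Y.presheaf.stalk y) (Localization.AtPrime q)
  haveI : IsRegularLocalRing (Localization.AtPrime q) := IsRegularLocalRing.of_ringEquiv ψ.toRingEquiv
  haveI : Algebra.IsSeparable k (ResidueField (Y.presheaf.stalk y)) := hs
  haveI : Algebra.IsSeparable Γ(Spec (CommRingCat.of k), ⊤) q.ResidueField := by
    haveI : IsLocalHom ψ.toRingEquiv.toRingHom := IsLocalHom.of_surjective _ ψ.surjective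
    refine Algebra.IsSeparable.of_equiv_equiv e (ResidueField.mapEquiv ψ.toRingEquiv) (RingHom.ext fun t => ?_)
    change algebraMap Γ(Spec (CommRingCat.of k), ⊤) q.ResidueField (e t) =
      ResidueField.map ψ.toRingEquiv.toRingHom (residue (Y.presheaf.stalk y) (Curv2.stalkMap k Y y t))
    rw [IsScalarTower.algebraMap_apply Γ(Spec (CommRingCat.of k), ⊤) Γ(Y, V) q.ResidueField, ResidueField.map_residue]
    change residue (Localization.AtPrime q) (algebraMap Γ(Y, V) (Localization.AtPrime q) _) = _
    congr 1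
    rw [← ψ.commutes]
    refine congrArg ψ ?_
    change Y.presheaf.germ V y hyV ((f.appLE ⊤ V le_top) (e t)) = Y.presheaf.germ ⊤ y trivial (f.appTop (e t))
    rw [Scheme.Hom.appLE, CommRingCat.comp_apply, TopCat.Presheaf.germ_res_apply]
    rfl
  haveI : Algebra.FormallyEtale Γ(Spec (CommRingCat.of k), ⊤) q.ResidueField := Algebra.FormallyEtale.of_isSeparable _ _
  haveI : Algebra.IsGeometricallyReduced Γ(Spec (CommRingCat.of k), ⊤) q.ResidueField :=
    (Groth.L03.GeomReduced.formallySmooth_iff _ _).1 inferInstance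
  exact (Groth.Agent.S9442.result _ Γ(Y, V) q).2 inferInstance

theorem not_isField_stalk_of_curveLike (hcl : CurveLike Y) (y : Y) (hy : IsClosed ({y} : Set Y)) :
    ¬ IsField (Y.presheaf.stalk y) := by
  intro h
  obtain ⟨z, hz, hzy⟩ := hcl.2 y hy
  letI := h.toField
  obtain ⟨c, hc⟩ : z ∈ Set.range (Y.fromSpecStalk y) := by rw [Scheme.range_fromSpecStalk]; exact hzy
  obtain ⟨d, hd⟩ : y ∈ Set.range (Y.fromSpecStalk y) := by rw [Scheme.range_fromSpecStalk]; exact specializes_rfl
  have : Subsingleton (PrimeSpectrum (Y.presheaf.stalk y)) := inferInstance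
  exact hz (hc.symm.trans ((congrArg _ (Subsingleton.elim (α := PrimeSpectrum (Y.presheaf.stalk y)) c d)).trans hd))

theorem regular_of_mem_smoothLocus (x : X) {U : X.Opens} (hxU : x ∈ U)
    [Smooth (U.ι ≫ (X ↘ Spec (CommRingCat.of k)))] : IsRegularLocalRing (X.presheaf.stalk x) :=
  haveI := Groth.L21.Smooth.regular_stalk (U.ι ≫ (X ↘ Spec (CommRingCat.of k))) ⟨x, hxU⟩
  IsRegularLocalRing.of_ringEquiv (U.stalkIso ⟨x, hxU⟩).commRingCatIsoToRingEquiv

theorem ringKrullDim_stalk_le_one (hcl : CurveLike X) (x : X) : ringKrullDim (X.presheaf.stalk x) ≤ 1 :=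
  (Groth.L18.CurveDim.dim_stalk_le_one_iff x).2 fun a b => hcl.1 a b x

/-- A reduced closed subscheme of a nodal curve without isolated points is nodal. -/
theorem atWorstNodal_of_closedImmersion [LocallyOfFiniteType (X ↘ Spec (CommRingCat.of k))] [IsReduced Y]
    (i : Y ⟶ X) [IsClosedImmersion i] (hi : i ≫ (X ↘ Spec (CommRingCat.of k)) = Y ↘ Spec (CommRingCat.of k))
    (hclX : CurveLike X) (hX : Curv2.AtWorstNodal k X) (hclY : CurveLike Y) : Curv2.AtWorstNodal k Y := by
  haveI : LocallyOfFiniteType (Y ↘ Spec (CommRingCat.of k)) := hi ▸ inferInstance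
  haveI : IsLocallyNoetherian X := LocallyOfFiniteType.isLocallyNoetherian (X ↘ Spec (CommRingCat.of k))
  haveI : IsLocallyNoetherian Y := LocallyOfFiniteType.isLocallyNoetherian (Y ↘ Spec (CommRingCat.of k))
  haveI : LocallyOfFinitePresentation (X ↘ Spec (CommRingCat.of k)) := inferInstance
  haveI : LocallyOfFinitePresentation (Y ↘ Spec (CommRingCat.of k)) := inferInstance
  intro y hy
  have hxc : IsClosed ({i y} : Set X) := by
    rw [← Set.image_singleton]; exact i.isClosedEmbedding.isClosedMap _ hy
  have hnf := not_isField_stalk_of_curveLike hclY y hy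
  suffices h : y ∈ (Y ↘ Spec (CommRingCat.of k)).smoothLocus ∨ Curv2.IsNode k Y y by
    refine h.imp (fun h => ⟨_, h, ?_⟩) id
    rw [← Scheme.Hom.smoothLocus_eq_top_iff, ← Scheme.Hom.preimage_smoothLocus_eq]
    exact top_le_iff.1 fun w _ => w.2
  rcases hX (i y) hxc with ⟨U, hU, hsm⟩ | hn
  · haveI := hsm
    haveI := regular_of_mem_smoothLocus (k := k) (i y) hU
    haveI := Groth.L01.isDomain_of_regular (X.presheaf.stalk (i y))
    haveI hpid : IsPrincipalIdealRing (X.presheaf.stalk (i y)) := by
      have h1 : (maximalIdeal (X.presheaf.stalk (i y))).IsPrincipal := by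
        rw [← IsLocalRing.finrank_cotangentSpace_le_one_iff, ← IsLocalRing.spanFinrank_maximalIdeal_eq_finrank_cotangentSpace]
        have := (IsRegularLocalRing.spanFinrank_maximalIdeal (R := X.presheaf.stalk (i y))).le.trans
          (ringKrullDim_stalk_le_one hclX (i y))
        exact_mod_cast this
      exact ((tfae_of_isNoetherianRing_of_isLocalRing_of_isDomain (X.presheaf.stalk (i y))).out 0 4).2 h1
    have hsurj : Function.Surjective (i.stalkMap y).hom := i.stalkMap_surjective y
    have hinj : Function.Injective (i.stalkMap y).hom := by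
      rw [RingHom.injective_iff_ker_eq_bot]
      by_contra hne
      have hrad : (RingHom.ker (i.stalkMap y).hom).IsRadical := RingHom.ker_isRadical_iff_reduced_of_surjective hsurj |>.2 inferInstance
      have hle : maximalIdeal (X.presheaf.stalk (i y)) ≤ RingHom.ker (i.stalkMap y).hom := by
        rw [← hrad.radical, Ideal.radical_eq_sInf]
        refine le_sInf fun P hP => ?_
        obtain ⟨hKP, hPp⟩ := hP
        haveI : P.IsPrime := hPp
        haveI : P.IsMaximal := IsPrime.to_maximal_ideal (ne_bot_of_le_ne_bot hne hKP)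
        exact (IsLocalRing.eq_maximalIdeal ‹P.IsMaximal›).ge
      refine hnf (IsLocalRing.isField_iff_maximalIdeal_eq.2 ?_)
      rw [← IsLocalRing.map_maximalIdeal_of_surjective _ hsurj, Ideal.map_eq_bot_iff_le_ker]
      exact hle
    refine Or.inl ?_
    rw [Scheme.Hom.mem_smoothLocus]
    have hxs : i y ∈ (X ↘ Spec (CommRingCat.of k)).smoothLocus := by
      have h : (⟨i y, hU⟩ : U) ∈ (U.ι ≫ (X ↘ Spec (CommRingCat.of k))).smoothLocus := by
        rw [Scheme.Hom.smoothLocus_eq_top]; trivial
      rw [← Scheme.Hom.preimage_smoothLocus_eq] at h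
      exact h
    rw [Scheme.Hom.mem_smoothLocus] at hxs
    generalize (Y ↘ Spec (CommRingCat.of k)) = p at hi ⊢
    subst hi
    rw [Scheme.Hom.stalkMap_comp]
    show RingHom.FormallySmooth ((i.stalkMap y).hom.comp ((X ↘ Spec (CommRingCat.of k)).stalkMap (i y)).hom)
    exact RingHom.FormallySmooth.respectsIso.1 _ (RingEquiv.ofBijective (i.stalkMap y).hom ⟨hinj, hsurj⟩) hxs
  · obtain ⟨hsep, a, b, c, hD, e, he⟩ := (isNode_iff_quad (i y) hxc).1 hn
    obtain ⟨-, -, -, hquad⟩ := (Groth.Agent.S1631.result k (X.presheaf.stalk (i y))).2 ⟨hsep, a, b, c, hD, e, he⟩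
    haveI : _root_.IsReduced (Y.presheaf.stalk y) := inferInstance
    let φ : X.presheaf.stalk (i y) →ₐ[k] Y.presheaf.stalk y :=
      { (i.stalkMap y).hom with commutes' := fun t => stalkMap_comp_stalkMap i hi y t }
    obtain ⟨hsepY, hreg | hB⟩ := regular_or_quad_of_surjective k φ (i.stalkMap_surjective y) hnf hsep hquad
    · haveI := hreg
      exact Or.inl (mem_smoothLocus_of_regular y hy hsepY)
    · exact Or.inr ((isNode_iff_quad y hy).2 ((Groth.Agent.S1631.result k (Y.presheaf.stalk y)).1 hB))

end Groth.L21.Nodal
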