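import Mathlib.RingTheory.AdicCompletion.Algebra
import Mathlib.RingTheory.Flat.FaithfullyFlat.Algebra
import Mathlib.RingTheory.LocalRing.ResidueField.Basic

/-! A flat local homomorphism with `mB = n` and trivial residue extension induces an isomorphism of completions. -/

set_option autoImplicit false
universe u v

open IsLocalRing

namespace Groth.L21.Nodal

variable (A : Type u) (B : Type v) [CommRing A] [CommRing B] [IsLocalRing A] [IsLocalRing B] [Algebra A B]
  [Module.Flat A B] [IsLocalHom (algebraMap A B)]

theorem quotientMap_bijective (hm : (maximalIdeal A).map (algebraMap A B) = maximalIdeal B)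
    (hres : ∀ b : B, ∃ a : A, b - algebraMap A B a ∈ maximalIdeal B) (j : ℕ) :
    Function.Bijective (Ideal.quotientMap (maximalIdeal B ^ j) (algebraMap A B)
      (show maximalIdeal A ^ j ≤ (maximalIdeal B ^ j).comap (algebraMap A B) by
        rw [← hm, ← Ideal.map_pow]; exact Ideal.le_comap_map)) := by
  constructor
  · refine Ideal.quotientMap_injective' ?_
    rw [← hm, ← Ideal.map_pow]
    haveI : Module.FaithfullyFlat A B := Module.FaithfullyFlat.of_flat_of_isLocalHom
    exact (Ideal.comap_map_eq_self_of_faithfullyFlat _).le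
  · have key : ∀ n : ℕ, ∀ b : B, ∃ a : A, b - algebraMap A B a ∈ maximalIdeal B ^ n := by
      intro n
      induction n with
      | zero => exact fun b => ⟨0, by rw [pow_zero, Ideal.one_eq_top]; trivial⟩
      | succ n ih =>
        intro b
        have hz : ∀ z ∈ maximalIdeal B ^ n, ∃ a : A, z - algebraMap A B a ∈ maximalIdeal B ^ (n + 1) := by
          intro z hz
          rw [← hm, ← Ideal.map_pow, Ideal.map] at hz
          induction hz using Submodule.span_induction with
          | mem x hx => obtain ⟨a, -, rfl⟩ := hx; exact ⟨a, by rw [sub_self]; exact zero_mem _⟩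
          | zero => exact ⟨0, by rw [map_zero, sub_zero]; exact zero_mem _⟩
          | add x y _ _ hx hy =>
            obtain ⟨a, ha⟩ := hx
            obtain ⟨c, hc⟩ := hy
            refine ⟨a + c, ?_⟩
            rw [map_add, add_sub_add_comm]
            exact add_mem ha hc
          | smul r x hx hx' =>
            obtain ⟨a, ha⟩ := hx'
            obtain ⟨c, hc⟩ := hres r
            refine ⟨c * a, ?_⟩
            have hxm : x ∈ maximalIdeal B ^ n := by rw [← hm, ← Ideal.map_pow]; exact hx
            have h1 : (r - algebraMap A B c) * x ∈ maximalIdeal B ^ (n + 1) := by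
              rw [pow_succ']; exact Ideal.mul_mem_mul hc hxm
            have h2 : algebraMap A B c * (x - algebraMap A B a) ∈ maximalIdeal B ^ (n + 1) :=
              Ideal.mul_mem_left _ _ ha
            have h3 := add_mem h1 h2
            convert h3 using 1
            rw [smul_eq_mul, map_mul]
            ring
        obtain ⟨a, ha⟩ := ih b
        obtain ⟨c, hc⟩ := hz _ ha
        exact ⟨a + c, by rw [map_add, ← sub_sub]; exact hc⟩
    intro y
    obtain ⟨b, rfl⟩ := Ideal.Quotient.mk_surjective y
    obtain ⟨a, ha⟩ := key j b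
    refine ⟨Ideal.Quotient.mk _ a, ?_⟩
    rw [Ideal.quotientMap_mk, Ideal.Quotient.eq, ← neg_sub]
    exact neg_mem ha

/-- The completions are isomorphic, compatibly with `A → B`. -/
theorem exists_completion_equiv (hm : (maximalIdeal A).map (algebraMap A B) = maximalIdeal B)
    (hres : ∀ b : B, ∃ a : A, b - algebraMap A B a ∈ maximalIdeal B) :
    ∃ e : AdicCompletion (maximalIdeal A) A ≃+* AdicCompletion (maximalIdeal B) B,
      ∀ a : A, e (algebraMap A (AdicCompletion (maximalIdeal A) A) a) =
        algebraMap B (AdicCompletion (maximalIdeal B) B) (algebraMap A B a) := by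
  let ψ : ∀ j : ℕ, A ⧸ maximalIdeal A ^ j ≃+* B ⧸ maximalIdeal B ^ j := fun j =>
    RingEquiv.ofBijective _ (quotientMap_bijective A B hm hres j)
  have hψ : ∀ j (a : A), ψ j (Ideal.Quotient.mk _ a) = Ideal.Quotient.mk _ (algebraMap A B a) := fun j a => rfl
  have compA : ∀ {m n : ℕ} (hle : m ≤ n) (x : AdicCompletion (maximalIdeal A) A),
      Ideal.Quotient.factorPow (maximalIdeal A) hle (AdicCompletion.evalₐ _ n x) = AdicCompletion.evalₐ _ m x := by
    intro m n hle x
    obtain ⟨c, rfl⟩ := AdicCompletion.mk_surjective (maximalIdeal A) A x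
    simp only [AdicCompletion.evalₐ_mk, Ideal.Quotient.factor_mk]
    exact (Ideal.Quotient.eq.2 (by simpa using SModEq.sub_mem.1 (c.2 hle))).symm
  have compB : ∀ {m n : ℕ} (hle : m ≤ n) (x : AdicCompletion (maximalIdeal B) B),
      Ideal.Quotient.factorPow (maximalIdeal B) hle (AdicCompletion.evalₐ _ n x) = AdicCompletion.evalₐ _ m x := by
    intro m n hle x
    obtain ⟨c, rfl⟩ := AdicCompletion.mk_surjective (maximalIdeal B) B x
    simp only [AdicCompletion.evalₐ_mk, Ideal.Quotient.factor_mk]
    exact (Ideal.Quotient.eq.2 (by simpa using SModEq.sub_mem.1 (c.2 hle))).symm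
  have comm : ∀ {m n : ℕ} (hle : m ≤ n) (z : A ⧸ maximalIdeal A ^ n),
      Ideal.Quotient.factorPow (maximalIdeal B) hle (ψ n z) = ψ m (Ideal.Quotient.factorPow (maximalIdeal A) hle z) := by
    intro m n hle z
    obtain ⟨a, rfl⟩ := Ideal.Quotient.mk_surjective z
    rw [hψ, Ideal.Quotient.factor_mk, Ideal.Quotient.factor_mk, hψ]
  let F := AdicCompletion.liftRingHom (maximalIdeal B)
    (fun n => (ψ n).toRingHom.comp (AdicCompletion.evalₐ (maximalIdeal A) n).toRingHom)
    (fun {m n} hle => RingHom.ext fun x => (comm hle _).trans (congrArg (ψ m) (compA hle x)))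
  let G := AdicCompletion.liftRingHom (maximalIdeal A)
    (fun n => (ψ n).symm.toRingHom.comp (AdicCompletion.evalₐ (maximalIdeal B) n).toRingHom)
    (fun {m n} hle => RingHom.ext fun x => by
      apply (ψ m).injective
      change ψ m (Ideal.Quotient.factorPow (maximalIdeal A) hle ((ψ n).symm (AdicCompletion.evalₐ _ n x))) =
        ψ m ((ψ m).symm (AdicCompletion.evalₐ _ m x))
      rw [← comm hle, RingEquiv.apply_symm_apply, RingEquiv.apply_symm_apply, compB hle])
  have hF : ∀ n x, AdicCompletion.evalₐ (maximalIdeal B) n (F x) = ψ n (AdicCompletion.evalₐ _ n x) := fun n x =>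
    AdicCompletion.evalₐ_liftRingHom _ _ _ n x
  have hG : ∀ n x, AdicCompletion.evalₐ (maximalIdeal A) n (G x) = (ψ n).symm (AdicCompletion.evalₐ _ n x) := fun n x =>
    AdicCompletion.evalₐ_liftRingHom _ _ _ n x
  refine ⟨RingEquiv.ofRingHom F G
    (RingHom.ext fun x => AdicCompletion.ext_evalₐ fun n => by
      rw [RingHom.comp_apply, hF, hG, RingEquiv.apply_symm_apply]; rfl)
    (RingHom.ext fun x => AdicCompletion.ext_evalₐ fun n => by
      rw [RingHom.comp_apply, hG, hF, RingEquiv.symm_apply_apply]; rfl), fun a => ?_⟩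
  refine AdicCompletion.ext_evalₐ fun n => ?_
  refine (hF n _).trans ?_
  rw [AlgHom.commutes, AlgHom.commutes]
  exact hψ n a

end Groth.L21.Nodal
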