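import Groth.Prelude.Def_CurvBase
import Groth.Agent.L21.Nodal.Completion
import Groth.Agent.L21.CurvFib.EtaleField
import Groth.Agent.L21.CurvFib.SmoothLocus
import Groth.Agent.L22.FibreDim
import Mathlib.AlgebraicGeometry.AlgClosed.Basic

/-! Nodes and etale morphisms of schemes over a field. -/

set_option autoImplicit false
universe u

open CategoryTheory CategoryTheory.Limits AlgebraicGeometry IsLocalRing TopologicalSpace

noncomputable section

namespace Groth.L21.Nodal

variable {k : Type u} [Field k]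

theorem stalkMap_comp_stalkMap {X Y : Scheme.{u}} [X.Over (Spec (CommRingCat.of k))] [Y.Over (Spec (CommRingCat.of k))]
    (h : Y ⟶ X) (hh : h ≫ (X ↘ Spec (CommRingCat.of k)) = Y ↘ Spec (CommRingCat.of k)) (y : Y) (c : k) :
    (h.stalkMap y).hom (Curv2.stalkMap k X (h y) c) = Curv2.stalkMap k Y y c := by
  have e : (Y ↘ Spec (CommRingCat.of k)).appTop = (X ↘ Spec (CommRingCat.of k)).appTop ≫ h.appTop := by
    rw [← hh, Scheme.Hom.comp_appTop]
  simp only [Curv2.stalkMap, RingHom.comp_apply, Coh.toGlobal]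
  rw [e]
  exact Scheme.Hom.germ_stalkMap_apply h ⊤ y trivial _

theorem resMap_surjective [IsAlgClosed k] {X : Scheme.{u}} [X.Over (Spec (CommRingCat.of k))]
    [LocallyOfFiniteType (X ↘ Spec (CommRingCat.of k))] (x : X) (hx : IsClosed ({x} : Set X)) :
    Function.Surjective (Curv2.resMap k X x) := by
  have e : CommRingCat.ofHom (Curv2.resMap k X x) = (residueFieldIsoBase (X ↘ Spec (CommRingCat.of k)) x hx).inv :=
    Spec.map_injective (by rw [SpecMap_residueFieldIsoBase_inv, Groth.L22.FibreDim.SpecMap_resMap])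
  intro z
  refine ⟨(residueFieldIsoBase (X ↘ Spec (CommRingCat.of k)) x hx).hom z, ?_⟩
  change (CommRingCat.ofHom (Curv2.resMap k X x)).hom _ = z
  rw [e]
  exact ((residueFieldIsoBase (X ↘ Spec (CommRingCat.of k)) x hx).commRingCatIsoToRingEquiv).symm_apply_apply z

/-- Etale morphisms over an algebraically closed field preserve and reflect ordinary double points. -/
theorem isOrdDoublePt_iff [IsAlgClosed k] {X Y : Scheme.{u}} [X.Over (Spec (CommRingCat.of k))]
    [Y.Over (Spec (CommRingCat.of k))] [LocallyOfFiniteType (X ↘ Spec (CommRingCat.of k))]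
    [LocallyOfFiniteType (Y ↘ Spec (CommRingCat.of k))]
    (h : Y ⟶ X) [Etale h] (hh : h ≫ (X ↘ Spec (CommRingCat.of k)) = Y ↘ Spec (CommRingCat.of k))
    (y : Y) (hy : IsClosed ({y} : Set Y)) :
    (letI := Curv2.stalkAlgebra k X (h y); Curv2.IsOrdDoublePt k (X.presheaf.stalk (h y))) ↔
      (letI := Curv2.stalkAlgebra k Y y; Curv2.IsOrdDoublePt k (Y.presheaf.stalk y)) := by
  letI := (h.stalkMap y).hom.toAlgebra
  haveI : Module.Flat (X.presheaf.stalk (h y)) (Y.presheaf.stalk y) := Flat.stalkMap h y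
  haveI : IsLocalHom (algebraMap (X.presheaf.stalk (h y)) (Y.presheaf.stalk y)) :=
    inferInstanceAs <| IsLocalHom (h.stalkMap y).hom
  obtain ⟨e, he⟩ := exists_completion_equiv (X.presheaf.stalk (h y)) (Y.presheaf.stalk y)
    (Groth.L21.CurvFib.map_maximalIdeal_stalkMap_of_etale h y) (fun b => by
      obtain ⟨c, hc⟩ := resMap_surjective (k := k) y hy (Y.residue y b)
      refine ⟨Curv2.stalkMap k X (h y) c, ?_⟩
      rw [show algebraMap (X.presheaf.stalk (h y)) (Y.presheaf.stalk y) (Curv2.stalkMap k X (h y) c) =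
        Curv2.stalkMap k Y y c from stalkMap_comp_stalkMap h hh y c]
      rw [← IsLocalRing.ker_residue, RingHom.mem_ker, map_sub, sub_eq_zero]
      exact hc.symm)
  letI := Curv2.stalkAlgebra k X (h y)
  letI := Curv2.stalkAlgebra k Y y
  have hec : ∀ c : k, e (algebraMap _ _ (algebraMap k (X.presheaf.stalk (h y)) c)) =
      algebraMap _ _ (algebraMap k (Y.presheaf.stalk y) c) := fun c => by
    rw [he]
    exact congrArg _ (stalkMap_comp_stalkMap h hh y c)
  constructor
  · rintro ⟨f, hf⟩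
    exact ⟨e.symm.trans f, fun c => by rw [RingEquiv.trans_apply, ← hec, RingEquiv.symm_apply_apply, hf]⟩
  · rintro ⟨f, hf⟩
    exact ⟨e.trans f, fun c => by rw [RingEquiv.trans_apply, hec, hf]⟩

/-- Points of the base change to an algebraic closure above closed points are closed. -/
theorem isClosed_of_bcFst {X : Scheme.{u}} [X.Over (Spec (CommRingCat.of k))]
    [LocallyOfFiniteType (X ↘ Spec (CommRingCat.of k))] (xb : Curv2.bc k X (AlgebraicClosure k))
    (hx : IsClosed ({Curv2.bcFst k X (AlgebraicClosure k) xb} : Set X)) :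
    IsClosed ({xb} : Set (Curv2.bc k X (AlgebraicClosure k))) := by
  set i := Curv2.bcFst k X (AlgebraicClosure k) with hi
  set x := i xb
  haveI : IsClosedImmersion (X.fromSpecResidueField x) := by
    refine IsClosedImmersion.of_isPreimmersion _ ?_
    rwa [Scheme.range_fromSpecResidueField]
  haveI : LocallyQuasiFinite (X.fromSpecResidueField x ≫ (X ↘ Spec (CommRingCat.of k))) :=
    LocallyQuasiFinite.of_injective fun a b _ => Subsingleton.elim a b
  have hpb : IsPullback (pullback.snd i (X.fromSpecResidueField x))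
      (pullback.fst i (X.fromSpecResidueField x) ≫ Curv2.bcSnd k X (AlgebraicClosure k))
      (X.fromSpecResidueField x ≫ (X ↘ Spec (CommRingCat.of k)))
      (Spec.map (CommRingCat.ofHom (algebraMap k (AlgebraicClosure k)))) :=
    (IsPullback.of_hasPullback i (X.fromSpecResidueField x)).flip.paste_vert (IsPullback.of_hasPullback _ _)
  haveI : LocallyQuasiFinite (pullback.fst i (X.fromSpecResidueField x) ≫ Curv2.bcSnd k X (AlgebraicClosure k)) :=
    MorphismProperty.of_isPullback hpb inferInstance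
  haveI : QuasiCompact (pullback.fst i (X.fromSpecResidueField x) ≫ Curv2.bcSnd k X (AlgebraicClosure k)) :=
    MorphismProperty.of_isPullback hpb inferInstance
  have hu : (Set.univ : Set ↥(i.fiber x)).Finite :=
    ((pullback.fst i (X.fromSpecResidueField x) ≫
      Curv2.bcSnd k X (AlgebraicClosure k)).finite_preimage_singleton default).subset
      fun z _ => Subsingleton.elim _ _
  haveI : Finite ↥(i.fiber x) := Set.finite_univ_iff.mp hu
  haveI : Finite ↥(i ⁻¹' {x}) := Finite.of_equiv _ (i.fiberHomeo x).toEquiv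
  have hfin : (i ⁻¹' {x} : Set _).Finite := Set.toFinite _
  have hcl : IsClosed (i ⁻¹' {x} : Set (Curv2.bc k X (AlgebraicClosure k))) := hx.preimage i.continuous
  haveI : JacobsonSpace (Curv2.bc k X (AlgebraicClosure k)) :=
    LocallyOfFiniteType.jacobsonSpace (Curv2.bcSnd k X (AlgebraicClosure k))
  have heq : (i ⁻¹' {x} : Set _) = i ⁻¹' {x} ∩ closedPoints _ := by
    refine (closure_inter_closedPoints hcl).symm.trans (IsClosed.closure_eq ?_)
    rw [← Set.biUnion_of_singleton (i ⁻¹' {x} ∩ closedPoints _)]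
    exact (hfin.inter_of_left _).isClosed_biUnion fun z hz => hz.2
  exact (heq ▸ (show xb ∈ i ⁻¹' {x} from rfl) : xb ∈ i ⁻¹' {x} ∩ closedPoints _).2

variable {X Y : Scheme.{u}} [X.Over (Spec (CommRingCat.of k))] [Y.Over (Spec (CommRingCat.of k))]
  [LocallyOfFiniteType (X ↘ Spec (CommRingCat.of k))] [LocallyOfFiniteType (Y ↘ Spec (CommRingCat.of k))]
  (h : Y ⟶ X) [Etale h] (hh : h ≫ (X ↘ Spec (CommRingCat.of k)) = Y ↘ Spec (CommRingCat.of k))

include hh in
/-- The base change of `h` to the algebraic closure. -/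
theorem exists_bcMap :
    ∃ (hb : Curv2.bc k Y (AlgebraicClosure k) ⟶ Curv2.bc k X (AlgebraicClosure k)),
      Etale hb ∧ hb ≫ Curv2.bcSnd k X (AlgebraicClosure k) = Curv2.bcSnd k Y (AlgebraicClosure k) ∧
      IsPullback hb (Curv2.bcFst k Y (AlgebraicClosure k)) (Curv2.bcFst k X (AlgebraicClosure k)) h := by
  let hb : Curv2.bc k Y (AlgebraicClosure k) ⟶ Curv2.bc k X (AlgebraicClosure k) :=
    pullback.lift (Curv2.bcFst k Y _ ≫ h) (Curv2.bcSnd k Y _)
      (by rw [Category.assoc, hh]; exact pullback.condition)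
  have hb1 : hb ≫ Curv2.bcFst k X _ = Curv2.bcFst k Y _ ≫ h := pullback.lift_fst _ _ _
  have hb2 : hb ≫ Curv2.bcSnd k X _ = Curv2.bcSnd k Y _ := pullback.lift_snd _ _ _
  have big : IsPullback (hb ≫ Curv2.bcSnd k X _) (Curv2.bcFst k Y (AlgebraicClosure k))
      (Spec.map (CommRingCat.ofHom (algebraMap k (AlgebraicClosure k)))) (h ≫ (X ↘ Spec (CommRingCat.of k))) := by
    rw [hb2, hh]
    exact (IsPullback.of_hasPullback _ _).flip
  have sq : IsPullback hb (Curv2.bcFst k Y (AlgebraicClosure k)) (Curv2.bcFst k X (AlgebraicClosure k)) h :=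
    IsPullback.of_right big hb1 (IsPullback.of_hasPullback _ _).flip
  exact ⟨hb, MorphismProperty.of_isPullback sq.flip ‹Etale h›, hb2, sq⟩

include hh in
theorem isNode_of_etale (y : Y) (hy : IsClosed ({y} : Set Y)) (hx : Curv2.IsNode k X (h y)) :
    Curv2.IsNode k Y y := by
  obtain ⟨hxc, xb, hxb, hodp⟩ := hx
  obtain ⟨hb, het, hb2, sq⟩ := exists_bcMap h hh
  obtain ⟨yb, hyb1, hyb2⟩ := Scheme.exists_preimage_of_isPullback sq xb y hxb
  subst hyb1
  refine ⟨hy, yb, hyb2, ?_⟩
  letI : (Curv2.bc k X (AlgebraicClosure k)).Over (Spec (CommRingCat.of (AlgebraicClosure k))) :=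
    ⟨Curv2.bcSnd k X (AlgebraicClosure k)⟩
  letI : (Curv2.bc k Y (AlgebraicClosure k)).Over (Spec (CommRingCat.of (AlgebraicClosure k))) :=
    ⟨Curv2.bcSnd k Y (AlgebraicClosure k)⟩
  haveI : LocallyOfFiniteType (Curv2.bc k X (AlgebraicClosure k) ↘ Spec (CommRingCat.of (AlgebraicClosure k))) :=
    inferInstanceAs (LocallyOfFiniteType (Curv2.bcSnd k X (AlgebraicClosure k)))
  haveI : LocallyOfFiniteType (Curv2.bc k Y (AlgebraicClosure k) ↘ Spec (CommRingCat.of (AlgebraicClosure k))) :=
    inferInstanceAs (LocallyOfFiniteType (Curv2.bcSnd k Y (AlgebraicClosure k)))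
  exact (isOrdDoublePt_iff (k := AlgebraicClosure k) hb hb2 yb (isClosed_of_bcFst yb (hyb2.symm ▸ hy))).1 hodp

include hh in
theorem isNode_image_of_etale (y : Y) (hy : Curv2.IsNode k Y y) : Curv2.IsNode k X (h y) := by
  obtain ⟨hyc, yb, hyb, hodp⟩ := hy
  obtain ⟨hb, het, hb2, sq⟩ := exists_bcMap h hh
  haveI : JacobsonSpace X := LocallyOfFiniteType.jacobsonSpace (X ↘ Spec (CommRingCat.of k))
  refine ⟨h.closePoints_subset_preimage_closedPoints hyc, hb yb, ?_, ?_⟩
  · rw [← Scheme.Hom.comp_apply, sq.w, Scheme.Hom.comp_apply, hyb]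
  letI : (Curv2.bc k X (AlgebraicClosure k)).Over (Spec (CommRingCat.of (AlgebraicClosure k))) :=
    ⟨Curv2.bcSnd k X (AlgebraicClosure k)⟩
  letI : (Curv2.bc k Y (AlgebraicClosure k)).Over (Spec (CommRingCat.of (AlgebraicClosure k))) :=
    ⟨Curv2.bcSnd k Y (AlgebraicClosure k)⟩
  haveI : LocallyOfFiniteType (Curv2.bc k X (AlgebraicClosure k) ↘ Spec (CommRingCat.of (AlgebraicClosure k))) :=
    inferInstanceAs (LocallyOfFiniteType (Curv2.bcSnd k X (AlgebraicClosure k)))
  haveI : LocallyOfFiniteType (Curv2.bc k Y (AlgebraicClosure k) ↘ Spec (CommRingCat.of (AlgebraicClosure k))) :=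
    inferInstanceAs (LocallyOfFiniteType (Curv2.bcSnd k Y (AlgebraicClosure k)))
  exact (isOrdDoublePt_iff (k := AlgebraicClosure k) hb hb2 yb (isClosed_of_bcFst yb (hyb.symm ▸ hyc))).2 hodp

end Groth.L21.Nodal
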