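import Groth.Agent.L21.Nodal.GeomExt
import Groth.Agent.L21.Smooth.Scheme
import Groth.Agent.L01.Regular
import Groth.Agent.L01.CompletionReg
import Groth.Agent.L19.Topology
import Mathlib.AlgebraicGeometry.Morphisms.Smooth
import Mathlib.RingTheory.Smooth.Field

/-! Ordinary double points are reduced and not smooth; reduced maximal points over perfect fields are smooth. -/

set_option autoImplicit false
universe u

open CategoryTheory CategoryTheory.Limits AlgebraicGeometry IsLocalRing TopologicalSpace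

noncomputable section

namespace Groth.L21.Nodal

variable {K : Type u} [Field K] {A : Type u} [CommRing A] [IsLocalRing A] [IsNoetherianRing A] [Algebra K A]

theorem isReduced_of_isOrdDoublePt (h : Curv2.IsOrdDoublePt K A) : _root_.IsReduced A := by
  obtain ⟨e, -⟩ := h
  refine ⟨fun a ha => ?_⟩
  have h1 : e (algebraMap A _ a) = 0 :=
    branch_injective _ fun i => ((ha.map (algebraMap A (AdicCompletion (maximalIdeal A) A))).map e).map (branch K i) |>.eq_zero
  have h2 : algebraMap A (AdicCompletion (maximalIdeal A) A) a = 0 := e.injective (by rw [h1, map_zero])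
  have h3 : ∀ n, a ∈ maximalIdeal A ^ n := fun n => mem_pow_of_algebraMap_mem (by rw [h2]; exact zero_mem _)
  exact IsHausdorff.haus (inferInstance : IsHausdorff (maximalIdeal A) A) a fun n => by
    rw [SModEq.zero, smul_eq_mul, Ideal.mul_top]
    exact h3 n

theorem not_isRegularLocalRing_of_isOrdDoublePt (h : Curv2.IsOrdDoublePt K A) : ¬ IsRegularLocalRing A := by
  intro hA
  obtain ⟨e, -⟩ := h
  haveI := (Groth.L01.CompletionReg.isRegularLocalRing_iff_completion A).1 hA
  haveI := Groth.L01.isDomain_of_regular (AdicCompletion (maximalIdeal A) A)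
  haveI : IsDomain (R2 K) := e.symm.toMulEquiv.isDomain
  have hne : ∀ i : Fin 2, Ideal.Quotient.mk (Ideal.span
      {(MvPowerSeries.X 0 * MvPowerSeries.X 1 : MvPowerSeries (Fin 2) K)}) (MvPowerSeries.X (1 - i)) ≠ 0 := fun i h0 => by
    have := congrArg (branch K i) h0
    rw [branch_mk, Groth.L14.Node.q_X_other, map_zero] at this
    exact PowerSeries.X_ne_zero this
  refine mul_ne_zero (hne 1) (hne 0) ?_
  rw [← map_mul]
  exact Ideal.Quotient.eq_zero_iff_mem.2 (Ideal.mem_span_singleton_self _)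

/-- Smoothness near a point of an algebraically closed ground field excludes ordinary double points. -/
theorem not_odpAt_of_mem_smooth {Z : Scheme.{u}} (q : Z ⟶ Spec (CommRingCat.of K)) [LocallyOfFiniteType q] (z : Z)
    {U : Z.Opens} (hz : z ∈ U) [Smooth (U.ι ≫ q)] : ¬ OdpAt K q z := by
  intro h
  haveI : IsLocallyNoetherian Z := LocallyOfFiniteType.isLocallyNoetherian q
  letI : Z.Over (Spec (CommRingCat.of K)) := ⟨q⟩
  letI := Curv2.stalkAlgebra K Z z
  haveI := Groth.L21.Smooth.regular_stalk (U.ι ≫ q) ⟨z, hz⟩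
  exact not_isRegularLocalRing_of_isOrdDoublePt h
    (IsRegularLocalRing.of_ringEquiv (U.stalkIso ⟨z, hz⟩).commRingCatIsoToRingEquiv)

theorem isReduced_of_odpAt {Z : Scheme.{u}} (q : Z ⟶ Spec (CommRingCat.of K)) [LocallyOfFiniteType q] (z : Z)
    (h : OdpAt K q z) : _root_.IsReduced (Z.presheaf.stalk z) := by
  haveI : IsLocallyNoetherian Z := LocallyOfFiniteType.isLocallyNoetherian q
  letI : Z.Over (Spec (CommRingCat.of K)) := ⟨q⟩
  letI := Curv2.stalkAlgebra K Z z
  exact isReduced_of_isOrdDoublePt h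

theorem isReduced_stalk_of_specializes {Z : Scheme.{u}} {z w : Z} (h : z ⤳ w)
    [hw : _root_.IsReduced (Z.presheaf.stalk w)] : _root_.IsReduced (Z.presheaf.stalk z) := by
  obtain ⟨V, hV, hwV, -⟩ := exists_isAffineOpen_mem_and_subset (X := Z) (U := ⊤) (Opens.mem_top w)
  have hzV : z ∈ V := h.mem_open V.2 hwV
  letI := Z.presheaf.algebra_section_stalk ⟨z, hzV⟩
  letI := Z.presheaf.algebra_section_stalk ⟨w, hwV⟩
  haveI := hV.isLocalization_stalk ⟨z, hzV⟩
  haveI := hV.isLocalization_stalk ⟨w, hwV⟩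
  set p := (hV.primeIdealOf ⟨w, hwV⟩).asIdeal
  set r := (hV.primeIdealOf ⟨z, hzV⟩).asIdeal
  have hle : r ≤ p := by
    refine (PrimeSpectrum.le_iff_specializes (hV.primeIdealOf ⟨z, hzV⟩) (hV.primeIdealOf ⟨w, hwV⟩)).2 ?_
    refine (hV.fromSpec.isOpenEmbedding.isInducing.specializes_iff).1 ?_
    convert h <;> exact hV.fromSpec_primeIdealOf _
  refine ⟨fun a ⟨n, hn⟩ => ?_⟩
  obtain ⟨x, s, rfl⟩ := IsLocalization.exists_mk'_eq r.primeCompl a
  rw [← IsLocalization.mk'_pow, IsLocalization.mk'_eq_zero_iff] at hn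
  obtain ⟨t, ht⟩ := hn
  have hnil : IsNilpotent (algebraMap Γ(Z, V) (Z.presheaf.stalk w) ((t : Γ(Z, V)) * x)) :=
    ⟨n + 1, by rw [← map_pow, mul_pow, pow_succ (t : Γ(Z, V)), pow_succ x,
      show (t : Γ(Z, V)) ^ n * t * (x ^ n * x) = t ^ n * x * (t * x ^ n) by ring, ht, mul_zero, map_zero]⟩
  obtain ⟨u, hu⟩ := (IsLocalization.map_eq_zero_iff p.primeCompl _ _).1 hnil.eq_zero
  rw [IsLocalization.mk'_eq_zero_iff]
  refine ⟨⟨(u : Γ(Z, V)) * t, r.primeCompl.mul_mem (fun hmem => u.2 (hle hmem)) t.2⟩, ?_⟩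
  rw [← hu]
  exact mul_assoc _ _ _

theorem isField_stalk_of_maximal {Z : Scheme.{u}} (z : Z) (hmax : ∀ y : Z, y ⤳ z → y = z)
    [_root_.IsReduced (Z.presheaf.stalk z)] : IsField (Z.presheaf.stalk z) := by
  haveI : Subsingleton (PrimeSpectrum (Z.presheaf.stalk z)) := ⟨fun a b => by
    have hr : ∀ c : Spec (Z.presheaf.stalk z), Z.fromSpecStalk z c = z := fun c => by
      refine hmax _ ?_
      have := Set.mem_range_self (f := Z.fromSpecStalk z) c
      rwa [Scheme.range_fromSpecStalk] at this
    exact (Z.fromSpecStalk z).isEmbedding.injective ((hr a).trans (hr b).symm)⟩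
  exact PrimeSpectrum.subsingleton_iff_isField_of_isReduced.1 inferInstance

set_option backward.isDefEq.respectTransparency false in
/-- Reduced maximal points over a perfect field lie in the smooth locus. -/
theorem exists_smooth_nhd_of_maximal [PerfectField K] {Z : Scheme.{u}} (q : Z ⟶ Spec (CommRingCat.of K))
    [LocallyOfFinitePresentation q] (z : Z) (hmax : ∀ y : Z, y ⤳ z → y = z)
    [_root_.IsReduced (Z.presheaf.stalk z)] : ∃ U : Z.Opens, z ∈ U ∧ Smooth (U.ι ≫ q) := by
  refine ⟨q.smoothLocus, ?_, ?_⟩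
  · have := LocallyOfFiniteType.stalkMap q z
    rw [Scheme.Hom.mem_smoothLocus]
    let : Field (Z.presheaf.stalk z) := (isField_stalk_of_maximal z hmax).toField
    algebraize [(q.stalkMap z).hom]
    let K' := (Spec.structureSheaf K).presheaf.stalk (q z)
    let e : K ≃ₐ[K] K' := IsLocalization.atUnits _ (q z).asIdeal.primeCompl
        (fun x hx ↦ by aesop (add simp IsUnit.mem_submonoid_iff))
    have : Algebra.IsAlgebraic K K' := .of_injective e.symm.toAlgHom e.symm.injective
    let : Field K' := (e.toRingEquiv.symm.isField (Field.toIsField K)).toField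
    let : Field ((Spec (.of K)).presheaf.stalk (q z)) := this
    have : PerfectField ((Spec (.of K)).presheaf.stalk (q z)) :=
      Algebra.IsAlgebraic.perfectField (K := K) (L := (Spec.structureSheaf K).presheaf.stalk (q z))
    exact Algebra.FormallySmooth.of_perfectField
  · rw [← Scheme.Hom.smoothLocus_eq_top_iff, ← Scheme.Hom.preimage_smoothLocus_eq]
    exact top_le_iff.1 fun w _ => w.2

theorem eq_or_eq_of_topologicalKrullDim_le_one {T : Type u} [TopologicalSpace T] [QuasiSober T] [T0Space T]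
    (hdim : topologicalKrullDim T ≤ 1) {a b c : T} (hab : a ⤳ b) (hbc : b ⤳ c) : a = b ∨ b = c := by
  by_contra hne
  push Not at hne
  rw [Groth.L19.topologicalKrullDim_eq_krullDim] at hdim
  let _ := specializationOrder T
  have l1 : c < b := lt_of_le_of_ne hbc fun e => hne.2 e.symm
  have l2 : b < a := lt_of_le_of_ne hab fun e => hne.1 e.symm
  let p : LTSeries T := ((RelSeries.singleton {q : T × T | q.1 < q.2} c).snoc b l1).snoc a (by simpa using l2)
  have h2 := (Order.LTSeries.length_le_krullDim p).trans hdim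
  simp [p] at h2

theorem exists_closed_specialization {Z : Scheme.{u}} [JacobsonSpace Z] (z : Z) :
    ∃ w, z ⤳ w ∧ IsClosed ({w} : Set Z) := by
  have hne : (closure ({z} : Set Z)).Nonempty := ⟨z, subset_closure rfl⟩
  rw [← closure_inter_closedPoints isClosed_closure] at hne
  obtain ⟨w, hw1, hw2⟩ := closure_nonempty_iff.1 hne
  exact ⟨w, specializes_iff_mem_closure.2 hw1, hw2⟩

end Groth.L21.Nodal
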