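import Groth.Agent.L21.Nodal.Node
import Mathlib.FieldTheory.Normal.Basic
import Mathlib.FieldTheory.IsAlgClosed.AlgebraicClosure
import Mathlib.RingTheory.Etale.Field
import Mathlib.RingTheory.MvPowerSeries.Basic

/-!
Nodes: independence of the chosen algebraic closure and of the chosen point over a node; separable
finite extensions of the base field.
-/

set_option autoImplicit false
universe u

open CategoryTheory CategoryTheory.Limits AlgebraicGeometry IsLocalRing TopologicalSpace

noncomputable section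

namespace Groth.L21.Nodal

/-- The local ring at `z` is an ordinary double point over `L`. -/
def OdpAt (L : Type u) [Field L] {Z : Scheme.{u}} (q : Z ⟶ Spec (CommRingCat.of L)) (z : Z) : Prop :=
  letI : Z.Over (Spec (CommRingCat.of L)) := ⟨q⟩
  letI := Curv2.stalkAlgebra L Z z
  Curv2.IsOrdDoublePt L (Z.presheaf.stalk z)

theorem isNode_def (k : Type u) [Field k] (X : Scheme.{u}) [X.Over (Spec (CommRingCat.of k))] (x : X) :
    Curv2.IsNode k X x ↔ IsClosed ({x} : Set X) ∧ ∃ xb : Curv2.bc k X (AlgebraicClosure k),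
      Curv2.bcFst k X (AlgebraicClosure k) xb = x ∧
        OdpAt (AlgebraicClosure k) (Curv2.bcSnd k X (AlgebraicClosure k)) xb := Iff.rfl

theorem stalkMap_semilinear {k k' : Type u} [Field k] [Field k'] {X Y : Scheme.{u}}
    [X.Over (Spec (CommRingCat.of k))] [Y.Over (Spec (CommRingCat.of k'))] (h : Y ⟶ X) (σ : k →+* k')
    (hh : h ≫ (X ↘ Spec (CommRingCat.of k)) =
      (Y ↘ Spec (CommRingCat.of k')) ≫ Spec.map (CommRingCat.ofHom σ)) (y : Y) (c : k) :
    (h.stalkMap y).hom (Curv2.stalkMap k X (h y) c) = Curv2.stalkMap k' Y y (σ c) := by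
  have e : (X ↘ Spec (CommRingCat.of k)).appTop ≫ h.appTop =
      (Spec.map (CommRingCat.ofHom σ)).appTop ≫ (Y ↘ Spec (CommRingCat.of k')).appTop := by
    rw [← Scheme.Hom.comp_appTop, hh, Scheme.Hom.comp_appTop]
  have e2 : (Scheme.ΓSpecIso (CommRingCat.of k')).inv (σ c) =
      (Spec.map (CommRingCat.ofHom σ)).appTop ((Scheme.ΓSpecIso (CommRingCat.of k)).inv c) :=
    ConcreteCategory.congr_hom (Scheme.ΓSpecIso_inv_naturality (CommRingCat.ofHom σ)) c
  simp only [Curv2.stalkMap, RingHom.comp_apply, Coh.toGlobal]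
  rw [e2]
  refine (Scheme.Hom.germ_stalkMap_apply h ⊤ y trivial _).trans (congrArg (Y.presheaf.germ ⊤ y trivial) ?_)
  exact ConcreteCategory.congr_hom e ((Scheme.ΓSpecIso (CommRingCat.of k)).inv c)

/-- Transport of ordinary double points along compatible isomorphisms. -/
theorem isOrdDoublePt_of_equiv {K K' : Type u} [Field K] [Field K'] (σ : K ≃+* K') {A A' : Type u}
    [CommRing A] [CommRing A'] [Algebra K A] [Algebra K' A'] [IsLocalRing A] [IsLocalRing A'] (e : A ≃+* A')
    (hec : ∀ c, e (algebraMap K A c) = algebraMap K' A' (σ c)) (h : Curv2.IsOrdDoublePt K A) :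
    Curv2.IsOrdDoublePt K' A' := by
  obtain ⟨f, hf⟩ := h
  letI := e.toRingHom.toAlgebra
  haveI : Module.Flat A A' := Module.Flat.of_linearEquiv
    (LinearEquiv.ofBijective (Algebra.linearMap A A') e.bijective).symm
  haveI : IsLocalHom (algebraMap A A') := ⟨fun a ha => (isUnit_map_iff e a).1 ha⟩
  obtain ⟨ε, hε⟩ := exists_completion_equiv A A'
    (IsLocalRing.map_maximalIdeal_of_surjective (algebraMap A A') e.surjective)
    fun b => ⟨e.symm b, by rw [show algebraMap A A' (e.symm b) = b from e.apply_symm_apply b, sub_self]; exact zero_mem _⟩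
  let μ : MvPowerSeries (Fin 2) K ≃+* MvPowerSeries (Fin 2) K' :=
    RingEquiv.ofRingHom (MvPowerSeries.map σ.toRingHom) (MvPowerSeries.map σ.symm.toRingHom)
      (RingHom.ext fun φ => MvPowerSeries.ext fun d => by simp)
      (RingHom.ext fun φ => MvPowerSeries.ext fun d => by simp)
  have hμ : Ideal.span {(MvPowerSeries.X 0 * MvPowerSeries.X 1 : MvPowerSeries (Fin 2) K')} =
      (Ideal.span {(MvPowerSeries.X 0 * MvPowerSeries.X 1 : MvPowerSeries (Fin 2) K)}).map (μ : _ →+* _) := by
    rw [Ideal.map_span, Set.image_singleton]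
    congr 1
    simp [μ]
  refine ⟨ε.symm.trans (f.trans (Ideal.quotientEquiv _ _ μ hμ)), fun c => ?_⟩
  obtain ⟨c, rfl⟩ := σ.surjective c
  rw [← hec, show e (algebraMap K A c) = algebraMap A A' (algebraMap K A c) from rfl, ← hε,
    RingEquiv.trans_apply, RingEquiv.symm_apply_apply, RingEquiv.trans_apply, hf, Ideal.quotientEquiv_mk]
  congr 1
  simp [μ]

variable {k : Type u} [Field k] {X : Scheme.{u}} [X.Over (Spec (CommRingCat.of k))]

/-- Changing the field extension along a `k`-isomorphism. -/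
theorem exists_bc_iso (K K' : Type u) [Field K] [Field K'] [Algebra k K] [Algebra k K'] (σ : K ≃ₐ[k] K') :
    ∃ h : Curv2.bc k X K' ⟶ Curv2.bc k X K, IsIso h ∧ h ≫ Curv2.bcFst k X K = Curv2.bcFst k X K' ∧
      h ≫ Curv2.bcSnd k X K = Curv2.bcSnd k X K' ≫ Spec.map (CommRingCat.ofHom σ.toRingEquiv.toRingHom) ∧
      ∀ z, OdpAt K (Curv2.bcSnd k X K) (h z) → OdpAt K' (Curv2.bcSnd k X K') z := by
  let s := Spec.map (CommRingCat.ofHom σ.toRingEquiv.toRingHom)
  let t := Spec.map (CommRingCat.ofHom σ.symm.toRingEquiv.toRingHom)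
  have hs : s ≫ Spec.map (CommRingCat.ofHom (algebraMap k K)) = Spec.map (CommRingCat.ofHom (algebraMap k K')) := by
    rw [← Spec.map_comp, ← CommRingCat.ofHom_comp]
    congr 2
    ext c
    exact σ.commutes c
  have ht : t ≫ Spec.map (CommRingCat.ofHom (algebraMap k K')) = Spec.map (CommRingCat.ofHom (algebraMap k K)) := by
    rw [← Spec.map_comp, ← CommRingCat.ofHom_comp]
    congr 2
    ext c
    exact σ.symm.commutes c
  have hst : s ≫ t = 𝟙 _ := by
    rw [← Spec.map_comp, ← CommRingCat.ofHom_comp, ← Spec.map_id]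
    congr 1
    ext c
    exact σ.apply_symm_apply c
  have hts : t ≫ s = 𝟙 _ := by
    rw [← Spec.map_comp, ← CommRingCat.ofHom_comp, ← Spec.map_id]
    congr 1
    ext c
    exact σ.symm_apply_apply c
  let h : Curv2.bc k X K' ⟶ Curv2.bc k X K :=
    pullback.lift (Curv2.bcFst k X K') (Curv2.bcSnd k X K' ≫ s) (by rw [Category.assoc, hs]; exact pullback.condition)
  let h' : Curv2.bc k X K ⟶ Curv2.bc k X K' :=
    pullback.lift (Curv2.bcFst k X K) (Curv2.bcSnd k X K ≫ t) (by rw [Category.assoc, ht]; exact pullback.condition)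
  have h1 : h ≫ Curv2.bcFst k X K = Curv2.bcFst k X K' := pullback.lift_fst _ _ _
  have h2 : h ≫ Curv2.bcSnd k X K = Curv2.bcSnd k X K' ≫ s := pullback.lift_snd _ _ _
  have h1' : h' ≫ Curv2.bcFst k X K' = Curv2.bcFst k X K := pullback.lift_fst _ _ _
  have h2' : h' ≫ Curv2.bcSnd k X K' = Curv2.bcSnd k X K ≫ t := pullback.lift_snd _ _ _
  haveI : IsIso h := ⟨h', by
    apply pullback.hom_ext
    · rw [Category.assoc, h1', h1, Category.id_comp]
    · rw [Category.assoc, h2', ← Category.assoc, h2, Category.assoc, hst, Category.comp_id, Category.id_comp],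
    by
    apply pullback.hom_ext
    · rw [Category.assoc, h1, h1', Category.id_comp]
    · rw [Category.assoc, h2, ← Category.assoc, h2', Category.assoc, hts, Category.comp_id, Category.id_comp]⟩
  refine ⟨h, inferInstance, h1, h2, fun z hz => ?_⟩
  letI : (Curv2.bc k X K).Over (Spec (CommRingCat.of K)) := ⟨Curv2.bcSnd k X K⟩
  letI : (Curv2.bc k X K').Over (Spec (CommRingCat.of K')) := ⟨Curv2.bcSnd k X K'⟩
  letI := Curv2.stalkAlgebra K (Curv2.bc k X K) (h z)
  letI := Curv2.stalkAlgebra K' (Curv2.bc k X K') z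
  exact isOrdDoublePt_of_equiv σ.toRingEquiv (asIso (h.stalkMap z)).commRingCatIsoToRingEquiv
    (fun c => stalkMap_semilinear h σ.toRingEquiv.toRingHom h2 z c) hz

variable [LocallyOfFiniteType (X ↘ Spec (CommRingCat.of k))]

theorem isClosed_of_bcFst' (L : Type u) [Field L] [IsAlgClosed L] [Algebra k L] [Algebra.IsAlgebraic k L]
    (xb : Curv2.bc k X L) (hx : IsClosed ({Curv2.bcFst k X L xb} : Set X)) :
    IsClosed ({xb} : Set (Curv2.bc k X L)) := by
  haveI : IsAlgClosure k L := ⟨‹_›, ‹_›⟩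
  obtain ⟨h, hiso, h1, -, -⟩ :=
    exists_bc_iso (X := X) (AlgebraicClosure k) L (IsAlgClosure.equiv k (AlgebraicClosure k) L)
  have hc := isClosed_of_bcFst (h xb) (by rwa [← Scheme.Hom.comp_apply, h1])
  have := hc.preimage h.continuous
  convert this using 1
  ext z
  exact ⟨fun hz => congrArg h hz, fun hz => h.isOpenEmbedding.injective hz⟩

/-- The base change to an algebraic closure has all points over a closed point conjugate. -/
theorem exists_conj (L : Type u) [Field L] [IsAlgClosed L] [Algebra k L] [Algebra.IsAlgebraic k L]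
    (x : X) (hx : IsClosed ({x} : Set X)) (a b : Curv2.bc k X L)
    (ha : Curv2.bcFst k X L a = x) (hb : Curv2.bcFst k X L b = x) :
    ∃ (h : Curv2.bc k X L ⟶ Curv2.bc k X L), h b = a ∧
      ∀ z, OdpAt L (Curv2.bcSnd k X L) (h z) → OdpAt L (Curv2.bcSnd k X L) z := by
  haveI : IsAlgClosure k L := ⟨‹_›, ‹_›⟩
  haveI : Normal k L := IsAlgClosure.normal k L
  letI : Algebra k (X.residueField x) := Curv2.resAlgebra k X x
  have pt : ∀ a : Curv2.bc k X L, Curv2.bcFst k X L a = x →
      ∃ (ψ : X.residueField x →ₐ[k] L) (s : Spec (CommRingCat.of L) ⟶ Curv2.bc k X L),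
        s ≫ Curv2.bcSnd k X L = 𝟙 _ ∧
        s ≫ Curv2.bcFst k X L = Spec.map (CommRingCat.ofHom ψ.toRingHom) ≫ X.fromSpecResidueField x ∧
        ∀ w, s w = a := by
    intro a ha
    have hac := isClosed_of_bcFst' L a (by rw [ha]; exact hx)
    let s := pointOfClosedPoint (Curv2.bcSnd k X L) a hac
    let r : X.residueField x ⟶ CommRingCat.of L :=
      (X.residueFieldCongr ha.symm).hom ≫ (Curv2.bcFst k X L).residueFieldMap a ≫
        (residueFieldIsoBase (Curv2.bcSnd k X L) a hac).hom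
    have hr : s ≫ Curv2.bcFst k X L = Spec.map r ≫ X.fromSpecResidueField x := by
      subst ha
      simp [s, r, pointOfClosedPoint, Scheme.residueFieldCongr_refl, Spec.map_comp,
        Scheme.Hom.SpecMap_residueFieldMap_fromSpecResidueField]
    have hk : ∀ c, r.hom (algebraMap k (X.residueField x) c) = algebraMap k L c := by
      have e : Spec.map r ≫ Spec.map (CommRingCat.ofHom (Curv2.resMap k X x)) =
          Spec.map (CommRingCat.ofHom (algebraMap k L)) := by
        erw [Groth.L22.FibreDim.SpecMap_resMap]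
        rw [← Category.assoc, ← hr, Category.assoc,
          show Curv2.bcFst k X L ≫ (X ↘ Spec (CommRingCat.of k)) = _ from pullback.condition, ← Category.assoc,
          pointOfClosedPoint_comp, Category.id_comp]
      rw [← Spec.map_comp] at e
      intro c
      exact ConcreteCategory.congr_hom (Spec.map_injective e) c
    exact ⟨⟨r.hom, hk⟩, s, pointOfClosedPoint_comp _ _ _, hr, fun w => pointOfClosedPoint_apply _ _ _ w⟩
  obtain ⟨ψ, s, hs2, hs1, hsa⟩ := pt a ha
  obtain ⟨ψ', s', hs2', hs1', hsb⟩ := pt b hb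
  let χ : ψ.fieldRange ≃ₐ[k] ψ'.fieldRange := ψ.equivFieldRange.symm.trans ψ'.equivFieldRange
  let σ : L ≃ₐ[k] L := χ.liftNormal L
  have hσ : ∀ w, σ (ψ w) = ψ' w := by
    intro w
    have h1 := χ.liftNormal_commutes L (ψ.equivFieldRange w)
    rw [show χ (ψ.equivFieldRange w) = ψ'.equivFieldRange w by simp [χ]] at h1
    exact h1
  obtain ⟨h, -, h1, h2, hodp⟩ := exists_bc_iso (X := X) L L σ
  refine ⟨h, ?_, hodp⟩
  have hpt : s' ≫ h = Spec.map (CommRingCat.ofHom σ.toRingEquiv.toRingHom) ≫ s := by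
    apply pullback.hom_ext
    · rw [Category.assoc, Category.assoc, h1, hs1', hs1, ← Category.assoc, ← Spec.map_comp, ← CommRingCat.ofHom_comp]
      congr 3
      ext w
      exact (hσ w).symm
    · rw [Category.assoc, Category.assoc, h2, ← Category.assoc, hs2', Category.id_comp, hs2, Category.comp_id]
  let w : Spec (CommRingCat.of L) := IsLocalRing.closedPoint L
  rw [← hsb w, ← Scheme.Hom.comp_apply, hpt, Scheme.Hom.comp_apply, hsa]

theorem odpAt_of_isNode (L : Type u) [Field L] [IsAlgClosed L] [Algebra k L] [Algebra.IsAlgebraic k L]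
    (x : X) (hx : Curv2.IsNode k X x) (xb : Curv2.bc k X L) (hxb : Curv2.bcFst k X L xb = x) :
    OdpAt L (Curv2.bcSnd k X L) xb := by
  obtain ⟨hxc, a, ha, hodp⟩ := (isNode_def k X x).1 hx
  haveI : IsAlgClosure k L := ⟨‹_›, ‹_›⟩
  obtain ⟨g, -, g1, -, godp⟩ :=
    exists_bc_iso (X := X) (AlgebraicClosure k) L (IsAlgClosure.equiv k (AlgebraicClosure k) L)
  obtain ⟨h, hh, hhodp⟩ := exists_conj (AlgebraicClosure k) x hxc a (g xb) ha
    (by rw [← Scheme.Hom.comp_apply, g1, hxb])
  exact godp xb (hhodp _ (hh ▸ hodp))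

theorem isNode_of_odpAt (L : Type u) [Field L] [IsAlgClosed L] [Algebra k L] [Algebra.IsAlgebraic k L]
    (x : X) (hx : IsClosed ({x} : Set X)) (xb : Curv2.bc k X L) (hxb : Curv2.bcFst k X L xb = x)
    (h : OdpAt L (Curv2.bcSnd k X L) xb) : Curv2.IsNode k X x := by
  haveI : IsAlgClosure k L := ⟨‹_›, ‹_›⟩
  obtain ⟨g, hg, g1, -, godp⟩ :=
    exists_bc_iso (X := X) L (AlgebraicClosure k) (IsAlgClosure.equiv k L (AlgebraicClosure k))
  refine (isNode_def k X x).2 ⟨hx, inv g xb, ?_, godp _ ?_⟩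
  · rw [← Scheme.Hom.comp_apply, ← g1, IsIso.inv_hom_id_assoc, hxb]
  · rwa [← Scheme.Hom.comp_apply, IsIso.inv_hom_id]

omit [LocallyOfFiniteType (X ↘ Spec (CommRingCat.of k))] in
theorem bcFst_surjective (L : Type u) [Field L] [Algebra k L] (x : X) :
    ∃ z, Curv2.bcFst k X L z = x := by
  obtain ⟨z, hz, -⟩ := Scheme.exists_preimage_of_isPullback
    (IsPullback.of_hasPullback (X ↘ Spec (CommRingCat.of k)) (Spec.map (CommRingCat.ofHom (algebraMap k L))))
    x (IsLocalRing.closedPoint L) (Subsingleton.elim _ _)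
  exact ⟨z, hz⟩

theorem etale_SpecMap (k k' : Type u) [Field k] [Field k'] [Algebra k k'] [FiniteDimensional k k']
    [Algebra.IsSeparable k k'] : Etale (Spec.map (CommRingCat.ofHom (algebraMap k k'))) := by
  haveI : Algebra.FormallyEtale k k' := Algebra.FormallyEtale.of_isSeparable k k'
  haveI : Algebra.Etale k k' := ⟨inferInstance, Algebra.FinitePresentation.of_finiteType.1 inferInstance⟩
  rw [HasRingHomProperty.Spec_iff (P := @Etale), CommRingCat.hom_ofHom, RingHom.etale_algebraMap]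
  infer_instance

section Separable

variable {k' : Type u} [Field k'] [Algebra k k'] [FiniteDimensional k k'] [Algebra.IsSeparable k k']
  {Z : Scheme.{u}} [Z.Over (Spec (CommRingCat.of k'))] [Z.Over (Spec (CommRingCat.of k))]
  [LocallyOfFiniteType (Z ↘ Spec (CommRingCat.of k'))] [LocallyOfFiniteType (Z ↘ Spec (CommRingCat.of k))]

theorem isNode_iff_subfield
    (hZ : (Z ↘ Spec (CommRingCat.of k')) ≫ Spec.map (CommRingCat.ofHom (algebraMap k k')) =
      Z ↘ Spec (CommRingCat.of k)) (x : Z) :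
    Curv2.IsNode k' Z x ↔ Curv2.IsNode k Z x := by
  let σ := Spec.map (CommRingCat.ofHom (algebraMap k k'))
  haveI : Etale σ := etale_SpecMap k k'
  -- a point over `x` in the base change over `k'` gives one over `k`, with the same local ring
  suffices key : ∀ (L : Type u) [Field L] [IsAlgClosed L] [Algebra k L] [Algebra k' L] [IsScalarTower k k' L]
      [Algebra.IsAlgebraic k L] [Algebra.IsAlgebraic k' L] (z : Curv2.bc k' Z L),
      Curv2.bcFst k' Z L z = x → IsClosed ({x} : Set Z) →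
      ∃ w : Curv2.bc k Z L, Curv2.bcFst k Z L w = x ∧
        (OdpAt L (Curv2.bcSnd k Z L) w ↔ OdpAt L (Curv2.bcSnd k' Z L) z) by
    haveI : Algebra.IsAlgebraic k (AlgebraicClosure k') :=
      Algebra.IsAlgebraic.trans k k' (AlgebraicClosure k')
    constructor
    · intro h
      obtain ⟨hxc, z, hz, hodp⟩ := (isNode_def k' Z x).1 h
      obtain ⟨w, hw, hiff⟩ := key (AlgebraicClosure k') z hz hxc
      exact isNode_of_odpAt (AlgebraicClosure k') x hxc w hw (hiff.2 hodp)
    · intro h
      obtain ⟨z, hz⟩ := bcFst_surjective (k := k') (X := Z) (AlgebraicClosure k') x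
      obtain ⟨w, hw, hiff⟩ := key (AlgebraicClosure k') z hz h.1
      exact (isNode_def k' Z x).2 ⟨h.1, z, hz, hiff.1 (odpAt_of_isNode (AlgebraicClosure k') x h w hw)⟩
  intro L _ _ _ _ _ _ _ z hz hxc
  let τ := Spec.map (CommRingCat.ofHom (algebraMap k L))
  let τ' := Spec.map (CommRingCat.ofHom (algebraMap k' L))
  have hτ : τ' ≫ σ = τ := by
    rw [← Spec.map_comp, ← CommRingCat.ofHom_comp, ← IsScalarTower.algebraMap_eq]
  let sec : Spec (CommRingCat.of L) ⟶ pullback σ τ := pullback.lift τ' (𝟙 _) (by rw [Category.id_comp]; exact hτ)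
  haveI : Etale (pullback.snd σ τ) := MorphismProperty.pullback_snd σ τ inferInstance
  haveI : Etale sec := by
    haveI : Etale (sec ≫ pullback.snd σ τ) := by rw [pullback.lift_snd]; infer_instance
    exact Etale.of_comp sec (pullback.snd σ τ)
  let q : Curv2.bc k Z L ⟶ pullback σ τ :=
    pullback.lift (Curv2.bcFst k Z L ≫ (Z ↘ Spec (CommRingCat.of k'))) (Curv2.bcSnd k Z L)
      (by rw [Category.assoc, hZ]; exact pullback.condition)
  let h : Curv2.bc k' Z L ⟶ Curv2.bc k Z L :=
    pullback.lift (Curv2.bcFst k' Z L) (Curv2.bcSnd k' Z L) (by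
      change _ = Curv2.bcSnd k' Z L ≫ τ
      rw [← hτ, ← hZ, ← Category.assoc,
        show Curv2.bcFst k' Z L ≫ (Z ↘ Spec (CommRingCat.of k')) = Curv2.bcSnd k' Z L ≫ τ' from pullback.condition,
        Category.assoc])
  have h1 : h ≫ Curv2.bcFst k Z L = Curv2.bcFst k' Z L := pullback.lift_fst _ _ _
  have h2 : h ≫ Curv2.bcSnd k Z L = Curv2.bcSnd k' Z L := pullback.lift_snd _ _ _
  have q1 : q ≫ pullback.fst σ τ = Curv2.bcFst k Z L ≫ (Z ↘ Spec (CommRingCat.of k')) := pullback.lift_fst _ _ _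
  have q2 : q ≫ pullback.snd σ τ = Curv2.bcSnd k Z L := pullback.lift_snd _ _ _
  have sqA : IsPullback (Curv2.bcFst k Z L) q (Z ↘ Spec (CommRingCat.of k')) (pullback.fst σ τ) := by
    refine IsPullback.of_bot ?_ q1.symm (IsPullback.of_hasPullback σ τ)
    rw [q2, hZ]
    exact IsPullback.of_hasPullback _ _
  have hsec : sec ≫ pullback.fst σ τ = τ' := pullback.lift_fst _ _ _
  have hq : h ≫ q = Curv2.bcSnd k' Z L ≫ sec := by
    apply pullback.hom_ext
    · rw [Category.assoc, q1, ← Category.assoc, h1, Category.assoc, hsec]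
      exact pullback.condition
    · rw [Category.assoc, q2, h2, Category.assoc, pullback.lift_snd, Category.comp_id]
  have sqB : IsPullback h (Curv2.bcSnd k' Z L) q sec := by
    refine IsPullback.of_right ?_ hq sqA
    rw [h1, hsec]
    exact IsPullback.of_hasPullback _ _
  haveI : Etale h := MorphismProperty.of_isPullback sqB.flip ‹Etale sec›
  refine ⟨h z, by rw [← Scheme.Hom.comp_apply, h1, hz], ?_⟩
  letI : (Curv2.bc k Z L).Over (Spec (CommRingCat.of L)) := ⟨Curv2.bcSnd k Z L⟩
  letI : (Curv2.bc k' Z L).Over (Spec (CommRingCat.of L)) := ⟨Curv2.bcSnd k' Z L⟩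
  haveI : LocallyOfFiniteType (Curv2.bc k Z L ↘ Spec (CommRingCat.of L)) :=
    inferInstanceAs (LocallyOfFiniteType (Curv2.bcSnd k Z L))
  haveI : LocallyOfFiniteType (Curv2.bc k' Z L ↘ Spec (CommRingCat.of L)) :=
    inferInstanceAs (LocallyOfFiniteType (Curv2.bcSnd k' Z L))
  exact isOrdDoublePt_iff (k := L) h h2 z (isClosed_of_bcFst' L z (by rw [hz]; exact hxc))

end Separable

end Groth.L21.Nodal
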