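import Groth.Agent.L21.Nodal.NodeRegular
import Groth.Agent.L21.GorensteinFlat
import Groth.Agent.S0342
import Groth.Agent.L01.PowSerReg
import Groth.Agent.L01.Regular
import Mathlib.AlgebraicGeometry.Geometrically.Reduced

/-! Nodal curves are Gorenstein and geometrically reduced. -/

set_option autoImplicit false
universe u

open CategoryTheory CategoryTheory.Limits AlgebraicGeometry IsLocalRing TopologicalSpace

noncomputable section

namespace Groth.L21.Nodal

theorem isGorensteinLocalRing_R2 (L : Type u) [Field L] : LocCoh.IsGorensteinLocalRing (R2 L) := by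
  haveI : LocCoh.IsGorensteinLocalRing (MvPowerSeries (Fin 2) L) := Groth.Agent.S0342.result _
  refine (GorensteinQuotient.isGorensteinLocalRing_quotient_iff (MvPowerSeries (Fin 2) L) _ ?_ ?_).1 ‹_›
  · rw [IsLocalRing.mem_maximalIdeal, mem_nonunits_iff, MvPowerSeries.isUnit_iff_constantCoeff]
    simp
  · refine mem_nonZeroDivisors_of_ne_zero (mul_ne_zero ?_ ?_)
    · intro h
      simpa using congrArg (MvPowerSeries.coeff (Finsupp.single (0 : Fin 2) 1)) h
    · intro h
      simpa using congrArg (MvPowerSeries.coeff (Finsupp.single (1 : Fin 2) 1)) h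

theorem isGorensteinLocalRing_of_isOrdDoublePt {L A : Type u} [Field L] [CommRing A] [IsLocalRing A]
    [IsNoetherianRing A] [Algebra L A] (h : Curv2.IsOrdDoublePt L A) : LocCoh.IsGorensteinLocalRing A := by
  obtain ⟨e, -⟩ := h
  haveI : LocCoh.IsGorensteinLocalRing (AdicCompletion (maximalIdeal A) A) :=
    GorensteinAscend.isGorensteinLocalRing_of_ringEquiv e.symm (isGorensteinLocalRing_R2 L)
  haveI : Module.FaithfullyFlat A (AdicCompletion (maximalIdeal A) A) := Module.FaithfullyFlat.of_flat_of_isLocalHom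
  exact GorensteinFlat.isGorensteinLocalRing_descend (AdicCompletion (maximalIdeal A) A)

variable {k : Type u} [Field k] {X : Scheme.{u}} [X.Over (Spec (CommRingCat.of k))]
  [LocallyOfFiniteType (X ↘ Spec (CommRingCat.of k))]

theorem isGorensteinLocalRing_and_isReduced_of_isNode (x : X) (hx : Curv2.IsNode k X x) :
    LocCoh.IsGorensteinLocalRing (X.presheaf.stalk x) ∧ _root_.IsReduced (X.presheaf.stalk x) := by
  obtain ⟨hxc, z, rfl, hz⟩ := (isNode_def k X x).1 hx
  set i := Curv2.bcFst k X (AlgebraicClosure k)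
  set q := Curv2.bcSnd k X (AlgebraicClosure k)
  haveI : IsLocallyNoetherian X := LocallyOfFiniteType.isLocallyNoetherian (X ↘ Spec (CommRingCat.of k))
  haveI : IsLocallyNoetherian (Curv2.bc k X (AlgebraicClosure k)) := LocallyOfFiniteType.isLocallyNoetherian q
  haveI : Flat i := flat_bcFst (k := k) (X := X) (AlgebraicClosure k)
  haveI hred := isReduced_of_odpAt q z hz
  letI := (i.stalkMap z).hom.toAlgebra
  haveI : Module.Flat (X.presheaf.stalk (i z)) ((Curv2.bc k X (AlgebraicClosure k)).presheaf.stalk z) :=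
    Flat.stalkMap i z
  haveI : IsLocalHom (algebraMap (X.presheaf.stalk (i z)) ((Curv2.bc k X (AlgebraicClosure k)).presheaf.stalk z)) :=
    inferInstanceAs (IsLocalHom (i.stalkMap z).hom)
  haveI : Module.FaithfullyFlat (X.presheaf.stalk (i z)) ((Curv2.bc k X (AlgebraicClosure k)).presheaf.stalk z) :=
    Module.FaithfullyFlat.of_flat_of_isLocalHom
  letI : (Curv2.bc k X (AlgebraicClosure k)).Over (Spec (CommRingCat.of (AlgebraicClosure k))) := ⟨q⟩
  letI := Curv2.stalkAlgebra (AlgebraicClosure k) (Curv2.bc k X (AlgebraicClosure k)) z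
  haveI := isGorensteinLocalRing_of_isOrdDoublePt hz
  exact ⟨GorensteinFlat.isGorensteinLocalRing_descend ((Curv2.bc k X (AlgebraicClosure k)).presheaf.stalk z),
    isReduced_of_injective (algebraMap (X.presheaf.stalk (i z)) ((Curv2.bc k X (AlgebraicClosure k)).presheaf.stalk z))
      (FaithfulSMul.algebraMap_injective _ _)⟩

theorem isGorensteinLocalRing_and_isReduced_stalk (hcl : CurveLike X) (hnod : Curv2.AtWorstNodal k X) (x : X) :
    LocCoh.IsGorensteinLocalRing (X.presheaf.stalk x) ∧ _root_.IsReduced (X.presheaf.stalk x) := by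
  haveI : IsLocallyNoetherian X := LocallyOfFiniteType.isLocallyNoetherian (X ↘ Spec (CommRingCat.of k))
  have smooth_case : ∀ U : X.Opens, x ∈ U → Smooth (U.ι ≫ (X ↘ Spec (CommRingCat.of k))) →
      LocCoh.IsGorensteinLocalRing (X.presheaf.stalk x) ∧ _root_.IsReduced (X.presheaf.stalk x) := by
    intro U hxU _
    haveI := Groth.L21.Smooth.regular_stalk (U.ι ≫ (X ↘ Spec (CommRingCat.of k))) ⟨x, hxU⟩
    haveI : IsRegularLocalRing (X.presheaf.stalk x) :=
      IsRegularLocalRing.of_ringEquiv (U.stalkIso ⟨x, hxU⟩).commRingCatIsoToRingEquiv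
    haveI : IsDomain (X.presheaf.stalk x) := Groth.L01.isDomain_of_regular _
    exact ⟨Groth.Agent.S0342.result _, inferInstance⟩
  by_cases hx : IsClosed ({x} : Set X)
  · rcases hnod x hx with ⟨U, hxU, hU⟩ | hn
    · exact smooth_case U hxU hU
    · exact isGorensteinLocalRing_and_isReduced_of_isNode x hn
  · obtain ⟨U, hxU, hU⟩ := exists_smooth_nhd_of_not_isClosed hcl hnod x hx
    exact smooth_case U hxU hU

theorem geometricallyReduced_of_atWorstNodal (hcl : CurveLike X) (hnod : Curv2.AtWorstNodal k X) :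
    GeometricallyReduced (X ↘ Spec (CommRingCat.of k)) := by
  rw [geometricallyReduced_iff]
  intro K _ y Z fst snd h
  obtain ⟨φ, rfl⟩ := Spec.map_surjective y
  letI : Algebra k K := φ.hom.toAlgebra
  haveI : LocallyOfFiniteType snd := MorphismProperty.of_isPullback h inferInstance
  letI : Z.Over (Spec (CommRingCat.of K)) := ⟨snd⟩
  have h' : IsPullback fst (Z ↘ Spec (CommRingCat.of K)) (X ↘ Spec (CommRingCat.of k))
      (Spec.map (CommRingCat.ofHom (algebraMap k K))) := h
  haveI : LocallyOfFiniteType (Z ↘ Spec (CommRingCat.of K)) := ‹_›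
  haveI : ∀ z : Z, _root_.IsReduced (Z.presheaf.stalk z) := fun z =>
    (isGorensteinLocalRing_and_isReduced_stalk (k := K) (X := Z) (curveLike_of_isPullback fst h' hcl)
      (atWorstNodal_of_isPullback fst h' hcl hnod) z).2
  exact isReduced_of_isReduced_stalk Z

end Groth.L21.Nodal
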