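import Groth.Agent.L21.Nodal.BaseChange
import Groth.Agent.L21.Nodal.EtaleLocal

/-! Nodal families are stable under base change. -/

set_option autoImplicit false
universe u

open CategoryTheory CategoryTheory.Limits AlgebraicGeometry TopologicalSpace

noncomputable section

namespace Groth.L21.Nodal

theorem isNodalFamily_of_isPullback {P X S S' : Scheme.{u}} {fst : P ⟶ X} {snd : P ⟶ S'} {f : X ⟶ S} {g : S' ⟶ S}
    (h : IsPullback fst snd f g) (hf : Curv2.IsNodalFamily f) : Curv2.IsNodalFamily snd := by
  obtain ⟨hflat, hlfp, hfib⟩ := hf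
  refine ⟨MorphismProperty.of_isPullback h hflat, MorphismProperty.of_isPullback h hlfp, fun s' => ?_⟩
  have sq := isPullback_fiberToSpecResidueField_of_isPullback h s'
  letI : Algebra (S.residueField (g s')) (S'.residueField s') := (g.residueFieldMap s').hom.toAlgebra
  letI : (f.fiber (g s')).Over (Spec (CommRingCat.of (S.residueField (g s')))) :=
    ⟨f.fiberToSpecResidueField (g s')⟩
  letI : (snd.fiber s').Over (Spec (CommRingCat.of (S'.residueField s'))) := ⟨snd.fiberToSpecResidueField s'⟩
  haveI : LocallyOfFiniteType (f.fiber (g s') ↘ Spec (CommRingCat.of (S.residueField (g s')))) :=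
    MorphismProperty.pullback_snd f (S.fromSpecResidueField (g s')) (haveI := hlfp; inferInstance)
  obtain ⟨hirr, hnod⟩ := hfib (g s')
  have hcl := (curveLike_iff _).2 hirr
  exact ⟨(curveLike_iff _).1 (curveLike_of_isPullback (k := S.residueField (g s')) (K := S'.residueField s') _ sq hcl),
    atWorstNodal_of_isPullback (k := S.residueField (g s')) (K := S'.residueField s') _ sq hcl hnod⟩

end Groth.L21.Nodal
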