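import Groth.Agent.L21.Nodal.NodeRegular
import Groth.Agent.L21.Nodal.FamilyBaseChange
import Groth.Agent.L23.QFDescent
import Mathlib.Topology.NoetherianSpace

/-! At-worst-nodal curves and nodal families descend along flat surjective base change. -/

set_option autoImplicit false
universe u

open CategoryTheory CategoryTheory.Limits AlgebraicGeometry TopologicalSpace

noncomputable section

namespace Groth.L21.Nodal

/-- In a Noetherian space a closed set of closed points is finite. -/
theorem finite_of_isClosed_of_forall_isClosed {T : Type*} [TopologicalSpace T] [NoetherianSpace T] [QuasiSober T]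
    {S : Set T} (hS : IsClosed S) (h : ∀ x ∈ S, IsClosed ({x} : Set T)) : S.Finite := by
  have hfin := NoetherianSpace.finite_irreducibleComponents (α := S)
  haveI : QuasiSober S := hS.isClosedEmbedding_subtypeVal.quasiSober
  have hsing : ∀ Z ∈ irreducibleComponents S, Z.Finite := by
    intro Z hZ
    obtain ⟨η, hη⟩ := QuasiSober.sober hZ.1 (isClosed_of_mem_irreducibleComponents Z hZ)
    have hc : IsClosed ({η} : Set S) := by
      have := (h η.1 η.2).preimage (continuous_subtype_val : Continuous (Subtype.val : S → T))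
      convert this using 1
      ext z
      simp [Subtype.ext_iff]
    rw [← hη.def, hc.closure_eq]
    exact Set.finite_singleton η
  have : (Set.univ : Set S).Finite := by
    rw [← sUnion_irreducibleComponents]
    exact hfin.sUnion hsing
  haveI := Set.finite_univ_iff.mp this
  exact Set.toFinite S

variable {k : Type u} [Field k] {X : Scheme.{u}} [X.Over (Spec (CommRingCat.of k))]
  [LocallyOfFiniteType (X ↘ Spec (CommRingCat.of k))]
  {K : Type u} [Field K] [Algebra k K] {Y : Scheme.{u}} [Y.Over (Spec (CommRingCat.of K))] (g : Y ⟶ X)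
  (hY : IsPullback g (Y ↘ Spec (CommRingCat.of K)) (X ↘ Spec (CommRingCat.of k))
    (Spec.map (CommRingCat.ofHom (algebraMap k K))))

include hY in
theorem surjective_of_isPullback (x : X) : ∃ y : Y, g y = x := by
  obtain ⟨y, hy, -⟩ := Scheme.exists_preimage_of_isPullback hY x (IsLocalRing.closedPoint K) (Subsingleton.elim _ _)
  exact ⟨y, hy⟩

include hY in
theorem curveLike_descend (hcl : CurveLike Y) : CurveLike X := by
  have hdim : topologicalKrullDim X ≤ 1 :=
    (Groth.L21.CurvFib.topologicalKrullDim_eq_of_isPullback k K (X ↘ Spec (CommRingCat.of k))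
      _ _ g hY).ge.trans (topologicalKrullDim_le_one_of_curveLike hcl)
  refine ⟨fun a b c hab hbc => eq_or_eq_of_topologicalKrullDim_le_one hdim hab hbc, fun x hx => ?_⟩
  by_contra hcon
  push Not at hcon
  obtain ⟨y, rfl⟩ := surjective_of_isPullback g hY x
  obtain ⟨t, hne, ht⟩ := hcl.2 y (isClosed_of_isPullback g hY y hx)
  have e : g t = g y := by_contra fun hne' => hcon (g t) hne' (ht.map g.continuous)
  exact hne (Set.mem_singleton_iff.1 (ht.mem_closed (isClosed_of_isPullback g hY t (e ▸ hx)) rfl)).symm

include hY in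
theorem atWorstNodal_descend (hcl : CurveLike Y) (hnod : Curv2.AtWorstNodal K Y) : Curv2.AtWorstNodal k X := by
  intro x hx
  by_contra hcon
  rw [not_or] at hcon
  obtain ⟨hns, hnn⟩ := hcon
  refine hns ?_
  haveI := locallyOfFiniteType_of_isPullback g hY
  have hdim : topologicalKrullDim X ≤ 1 := topologicalKrullDim_le_one_of_curveLike (curveLike_descend g hY hcl)
  let q := Y ↘ Spec (CommRingCat.of K)
  have hsing : ∀ y ∈ Groth.L21.CurvFib.singSet q, IsClosed ({y} : Set Y) ∧ Curv2.IsNode K Y y := by
    intro y hy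
    have hc : IsClosed ({y} : Set Y) := by_contra fun hc => hy (exists_smooth_nhd_of_not_isClosed hcl hnod y hc)
    exact ⟨hc, (hnod y hc).resolve_left hy⟩
  obtain ⟨U, hU, hxU, -⟩ := exists_isAffineOpen_mem_and_subset (X := X) (U := ⊤) (Opens.mem_top x)
  haveI : IsAffineHom g := by
    haveI : IsAffineHom (Spec.map (CommRingCat.ofHom (algebraMap k K))) := inferInstance
    exact MorphismProperty.of_isPullback hY.flip ‹_›
  haveI : IsLocallyNoetherian Y := LocallyOfFiniteType.isLocallyNoetherian q
  let V : Y.Opens := g ⁻¹ᵁ U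
  haveI : IsNoetherianRing Γ(Y, V) := IsLocallyNoetherian.component_noetherian ⟨V, hU.preimage g⟩
  haveI : NoetherianSpace V.toScheme := noetherianSpace_of_isAffineOpen V (hU.preimage g)
  let S : Set V.toScheme := V.ι ⁻¹' Groth.L21.CurvFib.singSet q
  have hSfin : S.Finite := by
    refine finite_of_isClosed_of_forall_isClosed ((Groth.L21.CurvFib.isClosed_singSet q).preimage V.ι.continuous)
      fun v hv => ?_
    have := (hsing (V.ι v) hv).1.preimage V.ι.continuous
    convert this using 1
    ext w
    exact ⟨fun hw => congrArg V.ι hw, fun hw => V.ι.isOpenEmbedding.injective hw⟩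
  let N : Set X := (fun v : V.toScheme => g (V.ι v)) '' S
  have hNfin : N.Finite := hSfin.image _
  have hNcl : IsClosed N := by
    rw [← Set.biUnion_of_singleton N]
    refine hNfin.isClosed_biUnion fun t ht => ?_
    obtain ⟨v, hv, rfl⟩ := ht
    exact isClosed_image_of_isNode g hY hdim (V.ι v) (hsing (V.ι v) hv).2
  have hxN : x ∉ N := by
    rintro ⟨v, hv, rfl⟩
    exact hnn ((isNode_iff_of_isPullback g hY (V.ι v) hx).2 (hsing (V.ι v) hv).2)
  let W : X.Opens := ⟨(U : Set X) \ N, U.2.sdiff hNcl⟩
  refine ⟨W, ⟨hxU, hxN⟩, ?_⟩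
  have h1 : Smooth ((g ⁻¹ᵁ W).ι ≫ q) := Groth.L21.CurvFib.smooth_of_forall_notMem_singSet q _
    fun y hy hy' => hy.2 ⟨⟨y, hy.1⟩, hy', rfl⟩
  haveI : Surjective (Spec.map (CommRingCat.ofHom (algebraMap k K))) :=
    ⟨fun z => ⟨default, Subsingleton.elim _ _⟩⟩
  haveI : Flat (Spec.map (CommRingCat.ofHom (algebraMap k K))) := by
    rw [Flat.SpecMap_iff]
    exact RingHom.flat_algebraMap_iff.mpr inferInstance
  exact MorphismProperty.of_isPullback_of_descendsAlong (P := @Smooth)
      (Q := @Surjective ⊓ @Flat ⊓ @QuasiCompact) ((isPullback_morphismRestrict g W).paste_vert hY).flip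
      ⟨⟨inferInstance, inferInstance⟩, inferInstance⟩ h1

theorem isNodalFamily_descend {P X S S' : Scheme.{u}} {fst : P ⟶ X} {snd : P ⟶ S'} {f : X ⟶ S} {g : S' ⟶ S}
    (h : IsPullback fst snd f g) [Flat g] [QuasiCompact g] [Surjective g] (hf : Curv2.IsNodalFamily snd) :
    Curv2.IsNodalFamily f := by
  obtain ⟨hflat, hlfp, hfib⟩ := hf
  have hQ : (@Surjective ⊓ @Flat ⊓ @QuasiCompact : MorphismProperty Scheme.{u}) g :=
    ⟨⟨inferInstance, inferInstance⟩, inferInstance⟩
  have hlfp' : LocallyOfFinitePresentation f :=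
    MorphismProperty.of_isPullback_of_descendsAlong (P := @LocallyOfFinitePresentation)
      (Q := @Surjective ⊓ @Flat ⊓ @QuasiCompact) h.flip hQ hlfp
  refine ⟨MorphismProperty.of_isPullback_of_descendsAlong (P := @Flat)
      (Q := @Surjective ⊓ @Flat ⊓ @QuasiCompact) h.flip hQ hflat, hlfp', fun s => ?_⟩
  obtain ⟨s', rfl⟩ := g.surjective s
  have sq := isPullback_fiberToSpecResidueField_of_isPullback h s'
  letI : Algebra (S.residueField (g s')) (S'.residueField s') := (g.residueFieldMap s').hom.toAlgebra
  letI : (f.fiber (g s')).Over (Spec (CommRingCat.of (S.residueField (g s')))) :=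
    ⟨f.fiberToSpecResidueField (g s')⟩
  letI : (snd.fiber s').Over (Spec (CommRingCat.of (S'.residueField s'))) := ⟨snd.fiberToSpecResidueField s'⟩
  haveI : LocallyOfFiniteType (f.fiber (g s') ↘ Spec (CommRingCat.of (S.residueField (g s')))) :=
    MorphismProperty.pullback_snd f (S.fromSpecResidueField (g s')) inferInstance
  obtain ⟨hirr, hnod⟩ := hfib s'
  have hcl := (curveLike_iff _).2 hirr
  exact ⟨(curveLike_iff _).1 (curveLike_descend (k := S.residueField (g s')) (K := S'.residueField s') _ sq hcl),
    atWorstNodal_descend (k := S.residueField (g s')) (K := S'.residueField s') _ sq hcl hnod⟩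

end Groth.L21.Nodal
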