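import Groth.Agent.L21.Nodal.SmoothOne
import Groth.Agent.L21.Nodal.Descent
import Groth.Agent.L05.Point.BaseChange
import Groth.Agent.L16.ProjSpace.StdSmooth

/-! The largest open on which a family is nodal, and its compatibility with base change. -/

set_option autoImplicit false
universe u

open CategoryTheory CategoryTheory.Limits AlgebraicGeometry TopologicalSpace

noncomputable section

namespace Groth.L21.Nodal

theorem isPullback_of_comp_mono {P A B C D : Scheme.{u}} {a : P ⟶ A} {b : P ⟶ B} {p : A ⟶ C} {q : B ⟶ C}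
    (i : C ⟶ D) [Mono i] (h : IsPullback a b (p ≫ i) (q ≫ i)) : IsPullback a b p q :=
  ⟨⟨(cancel_mono i).1 (by rw [Category.assoc, Category.assoc, h.w])⟩,
    ⟨PullbackCone.IsLimit.mk _ (fun s => h.lift s.fst s.snd (by rw [← Category.assoc, s.condition, Category.assoc]))
      (fun s => h.lift_fst _ _ _) (fun s => h.lift_snd _ _ _)
      (fun s m h1 h2 => h.hom_ext (by rw [h.lift_fst]; exact h1) (by rw [h.lift_snd]; exact h2))⟩⟩

variable {X S : Scheme.{u}} (f : X ⟶ S) {S' : Scheme.{u}} (g : S' ⟶ S)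

/-- A smooth point of a family which is nodal after base change has a nodal neighbourhood. -/
theorem exists_open_isNodalFamily_of_smooth (V : (pullback f g).Opens)
    (hV : Curv2.IsNodalFamily (V.ι ≫ pullback.snd f g)) (v : (pullback f g : Scheme.{u})) (hv : v ∈ V)
    (U : X.Opens) (hxU : pullback.fst f g v ∈ U) (hU : Smooth (U.ι ≫ f)) :
    ∃ O : X.Opens, pullback.fst f g v ∈ O ∧ Curv2.IsNodalFamily (O.ι ≫ f) ∧
      SmoothOfRelativeDimension 1 (O.ι ≫ f) := by
  obtain ⟨U0, hU0, V0, hV0, hxV0, e0, hstd⟩ := Smooth.exists_isStandardSmooth (U.ι ≫ f) ⟨_, hxU⟩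
  obtain ⟨n, ρ, hρC, hρ⟩ := hstd.exists_etale_mvPolynomial
  let j : Spec Γ(U, V0) ⟶ X := hV0.fromSpec ≫ U.ι
  let σ : Spec Γ(U, V0) ⟶ Spec (CommRingCat.of (MvPolynomial (Fin n) Γ(S, U0))) := Spec.map (CommRingCat.ofHom ρ)
  haveI : Etale σ := (HasRingHomProperty.Spec_iff (P := @Etale)).2 hρ
  let W := affProj n (Γ(S, U0) : Type u) ≫ hU0.fromSpec
  have hjf : j ≫ f = σ ≫ W := by
    rw [Category.assoc, ← IsAffineOpen.SpecMap_appLE_fromSpec (U.ι ≫ f) hU0 hV0 e0]
    show _ = σ ≫ affProj n (Γ(S, U0) : Type u) ≫ hU0.fromSpec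
    have h : Scheme.Hom.appLE (U.ι ≫ f) U0 V0 e0 =
        CommRingCat.ofHom (MvPolynomial.C (σ := Fin n) (R := Γ(S, U0))) ≫ CommRingCat.ofHom ρ :=
      CommRingCat.hom_ext hρC.symm
    rw [h, Spec.map_comp, Category.assoc]
    rfl
  obtain ⟨u0, hu0⟩ : (⟨_, hxU⟩ : U.toScheme) ∈ Set.range hV0.fromSpec := by rw [hV0.range_fromSpec]; exact hxV0
  have hju : j u0 = pullback.fst f g v := by rw [Scheme.Hom.comp_apply, hu0]; rfl
  -- the nodal family over `S'` inside the chart
  obtain ⟨p₀, hp₀, -⟩ := Scheme.exists_preimage_of_isPullback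
    (IsPullback.of_hasPullback (pullback.fst f g) j) v u0 hju.symm
  let M : (pullback (pullback.fst f g) j).Opens := pullback.fst (pullback.fst f g) j ⁻¹ᵁ V
  let φ := pullback.fst (pullback.fst f g) j
  have hMnod : Curv2.IsNodalFamily (M.ι ≫ φ ≫ pullback.snd f g) := by
    rw [← morphismRestrict_ι_assoc]
    exact comp_etale _ (φ ∣_ V) hV
  let ψ : pullback (pullback.fst f g) j ⟶ pullback W g :=
    pullback.lift (pullback.snd (pullback.fst f g) j ≫ σ) (φ ≫ pullback.snd f g) (by
      rw [Category.assoc, ← hjf, ← Category.assoc, ← pullback.condition, Category.assoc, pullback.condition,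
        Category.assoc])
  haveI : Etale ψ := by
    have h1 : IsPullback (pullback.snd (pullback.fst f g) j) (φ ≫ pullback.snd f g) (σ ≫ W) g := by
      rw [← hjf]
      exact (IsPullback.of_hasPullback (pullback.fst f g) j).flip.paste_vert (IsPullback.of_hasPullback f g)
    have h2 : IsPullback (pullback.snd (pullback.fst f g) j) ψ σ (pullback.fst W g) := by
      refine IsPullback.of_bot ?_ (pullback.lift_fst _ _ _).symm (IsPullback.of_hasPullback W g)
      rw [show ψ ≫ pullback.snd W g = φ ≫ pullback.snd f g from pullback.lift_snd _ _ _]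
      exact h1
    exact MorphismProperty.of_isPullback h2 inferInstance
  let s' := pullback.snd f g v
  have hMq : M.ι ≫ φ ≫ pullback.snd f g = (M.ι ≫ ψ) ≫ pullback.snd W g := by
    rw [Category.assoc, show ψ ≫ pullback.snd W g = φ ≫ pullback.snd f g from pullback.lift_snd _ _ _]
  rw [hMq] at hMnod
  obtain ⟨φ', hpb, -⟩ := exists_fiberMap (pullback.snd W g) (M.ι ≫ ψ) s'
  haveI : Etale φ' := MorphismProperty.of_isPullback hpb.flip inferInstance
  -- the fibre of affine space
  let K := S'.residueField s'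
  have hgs : g s' ∈ U0 := by
    have h := e0 hxV0
    show g (pullback.snd f g v) ∈ U0
    rw [← Scheme.Hom.comp_apply, ← pullback.condition, Scheme.Hom.comp_apply]
    exact h
  have hr : Set.range (S'.fromSpecResidueField s' ≫ g) ⊆ Set.range hU0.fromSpec := by
    rintro _ ⟨t, rfl⟩
    rw [hU0.range_fromSpec, Scheme.Hom.comp_apply, Scheme.fromSpecResidueField_apply]
    exact hgs
  let χ := IsOpenImmersion.lift hU0.fromSpec (S'.fromSpecResidueField s' ≫ g) hr
  have hχ : χ ≫ hU0.fromSpec = S'.fromSpecResidueField s' ≫ g := IsOpenImmersion.lift_fac _ _ _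
  have hfib : IsPullback ((pullback.snd W g).fiberι s' ≫ pullback.fst W g)
      ((pullback.snd W g).fiberToSpecResidueField s') (affProj n (Γ(S, U0) : Type u)) χ := by
    refine isPullback_of_comp_mono hU0.fromSpec ?_
    rw [hχ]
    exact (IsPullback.of_hasPullback _ _).paste_horiz (IsPullback.of_hasPullback W g)
  have hψ := isPullback_affProj n (Spec.preimage χ).hom
  rw [show Spec.map (CommRingCat.ofHom (Spec.preimage χ).hom) = χ from Spec.map_preimage χ] at hψ
  let ι := hfib.isoIsPullback _ _ hψ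
  have hvs : φ p₀ = v := hp₀
  have hmem : p₀ ∈ M := by show φ p₀ ∈ V; rw [hvs]; exact hv
  obtain ⟨a, -⟩ : ∃ a : ((M.ι ≫ ψ) ≫ pullback.snd W g).fiber s', True := by
    have h1 : ((M.ι ≫ ψ) ≫ pullback.snd W g) ⟨p₀, hmem⟩ = s' := by
      rw [← hMq, Scheme.Hom.comp_apply, Scheme.Hom.comp_apply]
      show pullback.snd f g (φ p₀) = s'
      rw [hvs]
    exact ⟨h1 ▸ ((M.ι ≫ ψ) ≫ pullback.snd W g).asFiber ⟨p₀, hmem⟩, trivial⟩
  haveI : Nonempty (((M.ι ≫ ψ) ≫ pullback.snd W g).fiber s') := ⟨a⟩
  obtain rfl : n = 1 := eq_one_of_curveLike n K (φ' ≫ ι.hom) ((curveLike_iff _).2 (hMnod.2.2 s').1)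
  have hfam : Curv2.IsNodalFamily (j ≫ f) := by
    rw [hjf, ← Category.assoc]
    exact postcomp_etale hU0.fromSpec _ (comp_etale _ σ (isNodalFamily_affineLine _))
  haveI : SmoothOfRelativeDimension 1 (affProj 1 (Γ(S, U0) : Type u)) := by
    rw [HasRingHomProperty.Spec_iff (P := @SmoothOfRelativeDimension 1)]
    have h := Groth.L16.isStandardSmoothOfRelativeDimension_C (Γ(S, U0) : Type u) (Fin 1)
    rw [Nat.card_fin] at h
    exact RingHom.locally_of RingHom.isStandardSmoothOfRelativeDimension_respectsIso _ h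
  haveI : SmoothOfRelativeDimension 1 (affProj 1 (Γ(S, U0) : Type u) ≫ hU0.fromSpec) :=
    inferInstanceAs (SmoothOfRelativeDimension (1 + 0) _)
  haveI h1 : SmoothOfRelativeDimension 1 (j ≫ f) := by
    rw [hjf]
    exact inferInstanceAs (SmoothOfRelativeDimension (0 + 1) (σ ≫ W))
  refine ⟨j.opensRange, ⟨u0, hju⟩, ?_, ?_⟩
  · rw [← Scheme.Hom.isoOpensRange_inv_comp j, Category.assoc]
    exact comp_etale _ j.isoOpensRange.inv hfam
  · rw [← Scheme.Hom.isoOpensRange_inv_comp j, Category.assoc]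
    exact inferInstanceAs (SmoothOfRelativeDimension (0 + 1) (j.isoOpensRange.inv ≫ j ≫ f))

omit g in
theorem eq_asFiber {x : X} {s : S} (hs : f x = s) (y : f.fiber s) (hy : f.fiberι s y = x)
    (Q : ∀ s : S, f.fiber s → Prop) (h : Q s y) : Q (f x) (f.asFiber x) := by
  subst hs
  rwa [show f.asFiber x = y from (f.fiberι _).isEmbedding.injective ((f.fiberι_asFiber x).trans hy.symm)]

theorem topologicalKrullDim_le_one_of_chains {T : Type u} [TopologicalSpace T] [QuasiSober T] [T0Space T]
    (h : ∀ a b c : T, a ⤳ b → b ⤳ c → a = b ∨ b = c) : topologicalKrullDim T ≤ 1 := by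
  rw [Groth.L19.topologicalKrullDim_eq_krullDim]
  let _ := specializationOrder T
  refine iSup_le fun p => ?_
  by_contra hp
  have hp2 : 2 ≤ p.length := by
    by_contra h2
    exact hp (by exact_mod_cast (show p.length ≤ 1 by omega))
  have h01 : p ⟨0, by omega⟩ < p ⟨1, by omega⟩ := p.strictMono (by simp [Fin.lt_def])
  have h12 : p ⟨1, by omega⟩ < p ⟨2, by omega⟩ := p.strictMono (by simp [Fin.lt_def])
  rcases h _ _ _ h12.le h01.le with e | e
  · exact h12.ne e.symm
  · exact h01.ne e.symm

/-- A point with a nodal neighbourhood after base change has a nodal neighbourhood. -/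
theorem exists_open_isNodalFamily_descend [Flat f] [LocallyOfFinitePresentation f] (V : (pullback f g).Opens)
    (hV : Curv2.IsNodalFamily (V.ι ≫ pullback.snd f g)) (v : (pullback f g : Scheme.{u})) (hv : v ∈ V) :
    ∃ O : X.Opens, pullback.fst f g v ∈ O ∧ Curv2.IsNodalFamily (O.ι ≫ f) := by
  haveI : Flat (pullback.snd f g) := MorphismProperty.pullback_snd _ _ inferInstance
  haveI : LocallyOfFinitePresentation (pullback.snd f g) := MorphismProperty.pullback_snd _ _ inferInstance
  let s' := pullback.snd f g v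
  let T := (pullback.snd f g).fiber s'
  let p : T ⟶ f.fiber (g s') := pullback.map (pullback.snd f g) (S'.fromSpecResidueField s') f
    (S.fromSpecResidueField (g s')) (pullback.fst f g) (Spec.map (g.residueFieldMap s')) g
    pullback.condition.symm (by simp)
  have sq : IsPullback p ((pullback.snd f g).fiberToSpecResidueField s') (f.fiberToSpecResidueField (g s'))
      (Spec.map (g.residueFieldMap s')) :=
    isPullback_fiberToSpecResidueField_of_isPullback (IsPullback.of_hasPullback f g) s'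
  have hp : p ≫ f.fiberι (g s') = (pullback.snd f g).fiberι s' ≫ pullback.fst f g := pullback.lift_fst _ _ _
  letI : Algebra (S.residueField (g s')) (S'.residueField s') := (g.residueFieldMap s').hom.toAlgebra
  letI : (f.fiber (g s')).Over (Spec (CommRingCat.of (S.residueField (g s')))) :=
    ⟨f.fiberToSpecResidueField (g s')⟩
  letI : T.Over (Spec (CommRingCat.of (S'.residueField s'))) :=
    ⟨(pullback.snd f g).fiberToSpecResidueField s'⟩
  haveI : LocallyOfFiniteType (f.fiber (g s') ↘ Spec (CommRingCat.of (S.residueField (g s')))) :=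
    MorphismProperty.pullback_snd f (S.fromSpecResidueField (g s')) inferInstance
  haveI : LocallyOfFiniteType (T ↘ Spec (CommRingCat.of (S'.residueField s'))) :=
    MorphismProperty.pullback_snd (pullback.snd f g) (S'.fromSpecResidueField s') inferInstance
  haveI : Flat (Spec.map (g.residueFieldMap s')) := by
    rw [Flat.SpecMap_iff]
    exact RingHom.flat_algebraMap_iff.mpr inferInstance
  let v' : T := (pullback.snd f g).asFiber v
  have hv' : (pullback.snd f g).fiberι s' v' = v := (pullback.snd f g).fiberι_asFiber v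
  have hpv : f.fiberι (g s') (p v') = pullback.fst f g v := by
    rw [← Scheme.Hom.comp_apply, hp, Scheme.Hom.comp_apply, hv']
  have hfx : f (pullback.fst f g v) = g s' := by
    show (pullback.fst f g ≫ f) v = (pullback.snd f g ≫ g) v
    rw [pullback.condition]
  rcases smooth_or_isNode (pullback.snd f g) V hV v hv with ⟨U, hvU, hU⟩ | hn
  · -- smooth after base change
    obtain ⟨U₁, hxU, hU₁⟩ : ∃ U₁ : X.Opens, pullback.fst f g v ∈ U₁ ∧ Smooth (U₁.ι ≫ f) := by
      refine Groth.L05.Point.nhd_smooth_of_fiber f _ (Flat.stalkMap f _) ?_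
      refine eq_asFiber f hfx (p v') hpv (fun s y => Groth.L05.Point.Nhd @Smooth (f.fiberToSpecResidueField s) y) ?_
      haveI : LocallyOfFinitePresentation (f.fiberToSpecResidueField (g s')) :=
        MorphismProperty.pullback_snd f (S.fromSpecResidueField (g s')) inferInstance
      refine Groth.L05.Point.nhd_smooth_of_isPullback sq (z := v') ?_
      refine Groth.L05.Point.nhd_of_isPullback (IsPullback.of_hasPullback (pullback.snd f g) _) v' ?_
      exact hv'.symm ▸ ⟨U, hvU, hU⟩
    obtain ⟨O, hO, hn, -⟩ := exists_open_isNodalFamily_of_smooth f g V hV v hv U₁ hxU hU₁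
    exact ⟨O, hO, hn⟩
  · -- node after base change
    obtain ⟨φV, hpb, hφV⟩ := exists_fiberMap (pullback.snd f g) V.ι s'
    haveI : IsOpenImmersion φV := MorphismProperty.of_isPullback hpb.flip inferInstance
    haveI : LocallyOfFinitePresentation (V.ι ≫ pullback.snd f g) := inferInstance
    have hcl : CurveLike ((V.ι ≫ pullback.snd f g).fiber s') := (curveLike_iff _).2 (hV.2.2 s').1
    obtain ⟨t₀, ht₀, -⟩ := Scheme.exists_preimage_of_isPullback hpb v' ⟨v, hv⟩ hv'
    haveI : UniversallyOpen (Spec.map (g.residueFieldMap s')) := inferInstance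
    haveI : UniversallyOpen p := MorphismProperty.of_isPullback sq.flip inferInstance
    haveI : Flat p := MorphismProperty.of_isPullback sq.flip inferInstance
    let Os : (f.fiber (g s')).Opens := ⟨p '' (φV.opensRange : Set T), p.isOpenMap _ φV.opensRange.2⟩
    letI : Os.toScheme.Over (Spec (CommRingCat.of (S.residueField (g s')))) :=
      ⟨Os.ι ≫ f.fiberToSpecResidueField (g s')⟩
    letI : (p ⁻¹ᵁ Os).toScheme.Over (Spec (CommRingCat.of (S'.residueField s'))) :=
      ⟨(p ⁻¹ᵁ Os).ι ≫ (pullback.snd f g).fiberToSpecResidueField s'⟩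
    haveI : LocallyOfFiniteType (Os.toScheme ↘ Spec (CommRingCat.of (S.residueField (g s')))) := by
      haveI : LocallyOfFiniteType (f.fiberToSpecResidueField (g s')) :=
        ‹LocallyOfFiniteType (f.fiber (g s') ↘ Spec (CommRingCat.of (S.residueField (g s'))))›
      exact inferInstanceAs (LocallyOfFiniteType (Os.ι ≫ f.fiberToSpecResidueField (g s')))
    haveI : LocallyOfFiniteType ((p ⁻¹ᵁ Os).toScheme ↘ Spec (CommRingCat.of (S'.residueField s'))) := by
      haveI : LocallyOfFiniteType ((pullback.snd f g).fiberToSpecResidueField s') :=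
        ‹LocallyOfFiniteType (T ↘ Spec (CommRingCat.of (S'.residueField s')))›
      exact inferInstanceAs (LocallyOfFiniteType ((p ⁻¹ᵁ Os).ι ≫ (pullback.snd f g).fiberToSpecResidueField s'))
    have hdim : topologicalKrullDim Os.toScheme ≤ 1 := by
      refine topologicalKrullDim_le_one_of_chains fun a b c hab hbc => ?_
      obtain ⟨_, ⟨c₀, rfl⟩, hc₀⟩ : Os.ι c ∈ p '' (φV.opensRange : Set T) := c.2
      have hbc' : Os.ι b ⤳ p (φV c₀) := by rw [hc₀]; exact hbc.map Os.ι.continuous
      obtain ⟨b', hb, hb'⟩ := Flat.generalizingMap p hbc'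
      obtain ⟨a', ha, ha'⟩ := Flat.generalizingMap p
        (show Os.ι a ⤳ p b' by rw [hb']; exact hab.map Os.ι.continuous)
      obtain ⟨b₀, rfl⟩ := hb.mem_open φV.opensRange.2 (by exact ⟨c₀, rfl⟩)
      obtain ⟨a₀, rfl⟩ := ha.mem_open φV.opensRange.2 (by exact ⟨b₀, rfl⟩)
      rcases hcl.1 a₀ b₀ c₀ (φV.isOpenEmbedding.isInducing.specializes_iff.1 ha)
          (φV.isOpenEmbedding.isInducing.specializes_iff.1 hb) with e | e
      · exact Or.inl (Os.ι.isOpenEmbedding.injective (by rw [← ha', ← hb', e]))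
      · exact Or.inr (Os.ι.isOpenEmbedding.injective (by rw [← hb', ← hc₀, e]))
    have hmem : v' ∈ p ⁻¹ᵁ Os := ⟨v', ⟨t₀, ht₀⟩, rfl⟩
    have hclz : IsClosed ({(⟨v', hmem⟩ : (p ⁻¹ᵁ Os).toScheme)} : Set (p ⁻¹ᵁ Os).toScheme) := by
      have := hn.1.preimage (p ⁻¹ᵁ Os).ι.continuous
      convert this using 1
      ext w
      exact ⟨fun hw => congrArg (p ⁻¹ᵁ Os).ι hw, fun hw => (p ⁻¹ᵁ Os).ι.isOpenEmbedding.injective hw⟩
    have hz := isClosed_image_of_isNode (k := S.residueField (g s')) (K := S'.residueField s') (p ∣_ Os)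
      ((isPullback_morphismRestrict p Os).paste_vert sq) hdim ⟨v', hmem⟩
      (isNode_of_etale (k := S'.residueField s') (p ⁻¹ᵁ Os).ι rfl ⟨v', hmem⟩ hclz hn)
    haveI : JacobsonSpace (f.fiber (g s')) :=
      LocallyOfFiniteType.jacobsonSpace (f.fiber (g s') ↘ Spec (CommRingCat.of (S.residueField (g s'))))
    have hx : IsClosed ({p v'} : Set (f.fiber (g s'))) := by
      have h := Os.ι.closePoints_subset_preimage_closedPoints hz
      have e : Os.ι ((p ∣_ Os) ⟨v', hmem⟩) = p v' := by
        rw [← Scheme.Hom.comp_apply (p ∣_ Os) Os.ι, morphismRestrict_ι]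
        rfl
      rw [Set.mem_preimage, e] at h
      exact h
    refine exists_open_isNodalFamily f _ ?_
    refine eq_asFiber f hfx (p v') hpv (fun s y => @Curv2.IsNode (S.residueField s) _ (f.fiber s)
      ⟨f.fiberToSpecResidueField s⟩ y) ?_
    exact (isNode_iff_of_isPullback (k := S.residueField (g s')) (K := S'.residueField s') p sq v' hx).2 hn

omit g in
/-- The largest nodal open of a family. -/
def nodalLocus : X.Opens := ⨆ (O : X.Opens) (_ : Curv2.IsNodalFamily (O.ι ≫ f)), O

omit g in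
theorem le_nodalLocus {V : X.Opens} (hV : Curv2.IsNodalFamily (V.ι ≫ f)) : V ≤ nodalLocus f :=
  le_iSup₂ (f := fun (O : X.Opens) (_ : Curv2.IsNodalFamily (O.ι ≫ f)) => O) V hV

omit g in
theorem isNodalFamily_nodalLocus : Curv2.IsNodalFamily ((nodalLocus f).ι ≫ f) := by
  let U : {O : X.Opens // Curv2.IsNodalFamily (O.ι ≫ f)} → Scheme.{u} := fun O => O.1.toScheme
  let q : ∀ O, U O ⟶ (nodalLocus f).toScheme := fun O => X.homOfLE (le_nodalLocus f O.2)
  haveI : ∀ O, Etale (q O) := fun O => by dsimp only [q, U]; infer_instance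
  refine of_etale_cover ((nodalLocus f).ι ≫ f) U q (fun z => ?_) fun O => ?_
  · obtain ⟨O, hO⟩ := Opens.mem_iSup.1 z.2
    obtain ⟨hn, hz⟩ := Opens.mem_iSup.1 hO
    refine ⟨⟨O, hn⟩, ⟨z.1, hz⟩, Subtype.ext ?_⟩
    simp [q, U]
  · dsimp only [q, U]
    rw [← Category.assoc, Scheme.homOfLE_ι]
    exact O.2

end Groth.L21.Nodal
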