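import Groth.Agent.L21.Nodal.Extend
import Groth.Agent.L21.Nodal.FieldChange
import Groth.Agent.L18.FiberStalk
import Mathlib.AlgebraicGeometry.Noetherian

/-! Nodes and arbitrary extensions of the base field. -/

set_option autoImplicit false
universe u

open CategoryTheory CategoryTheory.Limits AlgebraicGeometry IsLocalRing TopologicalSpace

noncomputable section

namespace Groth.L21.Nodal

variable {k : Type u} [Field k]

/-- Points of a base change above closed points are closed. -/
theorem isClosed_of_bcFst_field (K : Type u) [Field K] [Algebra k K] {X : Scheme.{u}} [X.Over (Spec (CommRingCat.of k))]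
    [LocallyOfFiniteType (X ↘ Spec (CommRingCat.of k))] (xb : Curv2.bc k X K)
    (hx : IsClosed ({Curv2.bcFst k X K xb} : Set X)) :
    IsClosed ({xb} : Set (Curv2.bc k X K)) := by
  set i := Curv2.bcFst k X K with hi
  set x := i xb
  haveI : IsClosedImmersion (X.fromSpecResidueField x) := by
    refine IsClosedImmersion.of_isPreimmersion _ ?_
    rwa [Scheme.range_fromSpecResidueField]
  haveI : LocallyQuasiFinite (X.fromSpecResidueField x ≫ (X ↘ Spec (CommRingCat.of k))) :=
    LocallyQuasiFinite.of_injective fun a b _ => Subsingleton.elim a b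
  have hpb : IsPullback (pullback.snd i (X.fromSpecResidueField x))
      (pullback.fst i (X.fromSpecResidueField x) ≫ Curv2.bcSnd k X K)
      (X.fromSpecResidueField x ≫ (X ↘ Spec (CommRingCat.of k)))
      (Spec.map (CommRingCat.ofHom (algebraMap k K))) :=
    (IsPullback.of_hasPullback i (X.fromSpecResidueField x)).flip.paste_vert (IsPullback.of_hasPullback _ _)
  haveI : LocallyQuasiFinite (pullback.fst i (X.fromSpecResidueField x) ≫ Curv2.bcSnd k X K) :=
    MorphismProperty.of_isPullback hpb inferInstance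
  haveI : QuasiCompact (pullback.fst i (X.fromSpecResidueField x) ≫ Curv2.bcSnd k X K) :=
    MorphismProperty.of_isPullback hpb inferInstance
  have hu : (Set.univ : Set ↥(i.fiber x)).Finite :=
    ((pullback.fst i (X.fromSpecResidueField x) ≫
      Curv2.bcSnd k X K).finite_preimage_singleton default).subset
      fun z _ => Subsingleton.elim _ _
  haveI : Finite ↥(i.fiber x) := Set.finite_univ_iff.mp hu
  haveI : Finite ↥(i ⁻¹' {x}) := Finite.of_equiv _ (i.fiberHomeo x).toEquiv
  have hfin : (i ⁻¹' {x} : Set _).Finite := Set.toFinite _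
  have hcl : IsClosed (i ⁻¹' {x} : Set (Curv2.bc k X K)) := hx.preimage i.continuous
  haveI : JacobsonSpace (Curv2.bc k X K) :=
    LocallyOfFiniteType.jacobsonSpace (Curv2.bcSnd k X K)
  have heq : (i ⁻¹' {x} : Set _) = i ⁻¹' {x} ∩ closedPoints _ := by
    refine (closure_inter_closedPoints hcl).symm.trans (IsClosed.closure_eq ?_)
    rw [← Set.biUnion_of_singleton (i ⁻¹' {x} ∩ closedPoints _)]
    exact (hfin.inter_of_left _).isClosed_biUnion fun z hz => hz.2
  exact (heq ▸ (show xb ∈ i ⁻¹' {x} from rfl) : xb ∈ i ⁻¹' {x} ∩ closedPoints _).2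

/-- Ordinary double points and extensions of algebraically closed fields. -/
theorem odpAt_iff_ext {F Ω : Type u} [Field F] [Field Ω] [IsAlgClosed F] [IsAlgClosed Ω] [Algebra F Ω]
    {Z Z' : Scheme.{u}} (q : Z ⟶ Spec (CommRingCat.of F)) (q' : Z' ⟶ Spec (CommRingCat.of Ω))
    [LocallyOfFiniteType q] (h : Z' ⟶ Z)
    (hpb : IsPullback h q' q (Spec.map (CommRingCat.ofHom (algebraMap F Ω))))
    (z : Z') (hz' : IsClosed ({z} : Set Z')) (hz : IsClosed ({h z} : Set Z)) :
    OdpAt F q (h z) ↔ OdpAt Ω q' z := by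
  haveI : LocallyOfFiniteType q' := MorphismProperty.of_isPullback hpb inferInstance
  let σ := Spec.map (CommRingCat.ofHom (algebraMap F Ω))
  haveI : Flat σ := by
    rw [Flat.SpecMap_iff]
    exact RingHom.flat_algebraMap_iff.mpr inferInstance
  haveI : Flat h := MorphismProperty.of_isPullback hpb.flip (inferInstanceAs (Flat σ))
  haveI : IsLocallyNoetherian Z := LocallyOfFiniteType.isLocallyNoetherian q
  haveI : IsLocallyNoetherian Z' := LocallyOfFiniteType.isLocallyNoetherian q'
  letI : Z.Over (Spec (CommRingCat.of F)) := ⟨q⟩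
  letI : Z'.Over (Spec (CommRingCat.of Ω)) := ⟨q'⟩
  haveI : LocallyOfFiniteType (Z ↘ Spec (CommRingCat.of F)) := ‹LocallyOfFiniteType q›
  haveI : LocallyOfFiniteType (Z' ↘ Spec (CommRingCat.of Ω)) := ‹LocallyOfFiniteType q'›
  have hpt : pointOfClosedPoint q (h z) hz ≫ q = 𝟙 _ := pointOfClosedPoint_comp q (h z) hz
  haveI hiso : IsIso (Z.fromSpecResidueField (h z) ≫ q) := by
    rw [← SpecMap_residueFieldIsoBase_inv q (h z) hz]
    infer_instance
  have sq : IsPullback (h.fiberToSpecResidueField (h z)) (h.fiberι (h z) ≫ q')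
      (Z.fromSpecResidueField (h z) ≫ q) σ :=
    (IsPullback.of_hasPullback h (Z.fromSpecResidueField (h z))).flip.paste_vert hpb
  haveI : IsIso (h.fiberι (h z) ≫ q') :=
    MorphismProperty.of_isPullback (P := MorphismProperty.isomorphisms Scheme.{u}) sq hiso
  have hfield : maximalIdeal ((h.fiber (h z)).presheaf.stalk (h.asFiber z)) = ⊥ :=
    Groth.L21.CurvFib.maximalIdeal_stalk_of_etale (h.fiberι (h z) ≫ q') _
  obtain ⟨hsurj, hker⟩ := Groth.L18.stalkMap_fiberι h (h z) (h.asFiber z)
  have hm0 : (maximalIdeal (Z.presheaf.stalk (h (h.fiberι (h z) (h.asFiber z))))).map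
      (h.stalkMap (h.fiberι (h z) (h.asFiber z))).hom =
      maximalIdeal (Z'.presheaf.stalk (h.fiberι (h z) (h.asFiber z))) := by
    rw [← hker]
    refine IsLocalRing.eq_maximalIdeal ?_
    have hf : IsField ((h.fiber (h z)).presheaf.stalk (h.asFiber z)) :=
      IsLocalRing.isField_iff_maximalIdeal_eq.mpr hfield
    letI := hf.toField
    exact RingHom.ker_isMaximal_of_surjective _ hsurj
  have hm : (maximalIdeal (Z.presheaf.stalk (h z))).map (h.stalkMap z).hom =
      maximalIdeal (Z'.presheaf.stalk z) := by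
    have e : h.fiberι (h z) (h.asFiber z) = z := h.fiberι_asFiber z
    generalize h.fiberι (h z) (h.asFiber z) = w at e hm0
    subst e
    exact hm0
  letI := (h.stalkMap z).hom.toAlgebra
  haveI : Module.Flat (Z.presheaf.stalk (h z)) (Z'.presheaf.stalk z) := Flat.stalkMap h z
  haveI : IsLocalHom (algebraMap (Z.presheaf.stalk (h z)) (Z'.presheaf.stalk z)) :=
    inferInstanceAs <| IsLocalHom (h.stalkMap z).hom
  letI := Curv2.stalkAlgebra F Z (h z)
  letI := Curv2.stalkAlgebra Ω Z' z
  have hresA : ∀ a : Z.presheaf.stalk (h z), ∃ c : F,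
      a - algebraMap F _ c ∈ maximalIdeal (Z.presheaf.stalk (h z)) := fun a => by
    obtain ⟨c, hc⟩ := resMap_surjective (k := F) (h z) hz (Z.residue (h z) a)
    refine ⟨c, ?_⟩
    rw [← IsLocalRing.ker_residue, RingHom.mem_ker, map_sub, sub_eq_zero]
    exact hc.symm
  have hresB : ∀ b : Z'.presheaf.stalk z, ∃ c : Ω,
      b - algebraMap Ω _ c ∈ maximalIdeal (Z'.presheaf.stalk z) := fun b => by
    obtain ⟨c, hc⟩ := resMap_surjective (k := Ω) z hz' (Z'.residue z b)
    refine ⟨c, ?_⟩
    rw [← IsLocalRing.ker_residue, RingHom.mem_ker, map_sub, sub_eq_zero]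
    exact hc.symm
  exact ⟨fun H => isOrdDoublePt_of_flat hm hresB H,
    fun H => isOrdDoublePt_descend hm hresA (fun c => stalkMap_semilinear h (algebraMap F Ω) hpb.w z c) H⟩

variable {X : Scheme.{u}} [X.Over (Spec (CommRingCat.of k))] [LocallyOfFiniteType (X ↘ Spec (CommRingCat.of k))]

section Ext

variable {K : Type u} [Field K] [Algebra k K] {Y : Scheme.{u}} [Y.Over (Spec (CommRingCat.of K))] (g : Y ⟶ X)
  (hY : IsPullback g (Y ↘ Spec (CommRingCat.of K)) (X ↘ Spec (CommRingCat.of k))
    (Spec.map (CommRingCat.ofHom (algebraMap k K))))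

include hY in
theorem locallyOfFiniteType_of_isPullback : LocallyOfFiniteType (Y ↘ Spec (CommRingCat.of K)) :=
  MorphismProperty.of_isPullback hY inferInstance

include hY in
/-- Points of a base change above closed points are closed. -/
theorem isClosed_of_isPullback (y : Y) (hx : IsClosed ({g y} : Set X)) : IsClosed ({y} : Set Y) := by
  let e := hY.isoPullback
  have he : e.hom ≫ Curv2.bcFst k X K = g := hY.isoPullback_hom_fst
  have hc := isClosed_of_bcFst_field K (e.hom y) (by rwa [← Scheme.Hom.comp_apply, he])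
  have := hc.preimage e.hom.continuous
  convert this using 1
  ext z
  exact ⟨fun hz => congrArg e.hom hz, fun hz => e.hom.isOpenEmbedding.injective hz⟩

include hY in
/-- Comparison of the base changes to algebraic closures. -/
theorem exists_bcExt :
    ∃ (_ : Algebra (AlgebraicClosure k) (AlgebraicClosure K))
      (h : Curv2.bc K Y (AlgebraicClosure K) ⟶ Curv2.bc k X (AlgebraicClosure k)),
      IsPullback h (Curv2.bcSnd K Y (AlgebraicClosure K)) (Curv2.bcSnd k X (AlgebraicClosure k))
        (Spec.map (CommRingCat.ofHom (algebraMap (AlgebraicClosure k) (AlgebraicClosure K)))) ∧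
      h ≫ Curv2.bcFst k X (AlgebraicClosure k) = Curv2.bcFst K Y (AlgebraicClosure K) ≫ g := by
  let Ω := AlgebraicClosure K
  let F := AlgebraicClosure k
  let ι : F →ₐ[k] Ω := IsAlgClosed.lift
  letI : Algebra F Ω := ι.toRingHom.toAlgebra
  have hσ : Spec.map (CommRingCat.ofHom (algebraMap F Ω)) ≫ Spec.map (CommRingCat.ofHom (algebraMap k F)) =
      Spec.map (CommRingCat.ofHom (algebraMap K Ω)) ≫ Spec.map (CommRingCat.ofHom (algebraMap k K)) := by
    rw [← Spec.map_comp, ← Spec.map_comp, ← CommRingCat.ofHom_comp, ← CommRingCat.ofHom_comp]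
    congr 2
    ext c
    exact (AlgHom.commutes ι c).trans (IsScalarTower.algebraMap_apply k K Ω c)
  have big : IsPullback (Curv2.bcFst K Y Ω ≫ g) (Curv2.bcSnd K Y Ω) (X ↘ Spec (CommRingCat.of k))
      (Spec.map (CommRingCat.ofHom (algebraMap F Ω)) ≫ Spec.map (CommRingCat.ofHom (algebraMap k F))) := by
    rw [hσ]
    exact (IsPullback.of_hasPullback _ _).paste_horiz hY
  let h : Curv2.bc K Y Ω ⟶ Curv2.bc k X F :=
    pullback.lift (Curv2.bcFst K Y Ω ≫ g)
      (Curv2.bcSnd K Y Ω ≫ Spec.map (CommRingCat.ofHom (algebraMap F Ω))) (by rw [Category.assoc _ _ (Spec.map _)]; exact big.w)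
  have h1 : h ≫ Curv2.bcFst k X F = Curv2.bcFst K Y Ω ≫ g := pullback.lift_fst _ _ _
  have h2 : h ≫ Curv2.bcSnd k X F =
      Curv2.bcSnd K Y Ω ≫ Spec.map (CommRingCat.ofHom (algebraMap F Ω)) := pullback.lift_snd _ _ _
  exact ⟨inferInstance, h, IsPullback.of_right (h1 ▸ big) h2 (IsPullback.of_hasPullback _ _), h1⟩

include hY in
/-- Nodes and extensions of the base field, at a point over a closed point. -/
theorem isNode_iff_of_isPullback (y : Y) (hx : IsClosed ({g y} : Set X)) :
    Curv2.IsNode k X (g y) ↔ Curv2.IsNode K Y y := by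
  haveI := locallyOfFiniteType_of_isPullback g hY
  obtain ⟨_, h, hpb, h1⟩ := exists_bcExt g hY
  have hyc := isClosed_of_isPullback g hY y hx
  obtain ⟨yb, hyb⟩ := bcFst_surjective (k := K) (X := Y) (AlgebraicClosure K) y
  have hybc : IsClosed ({yb} : Set _) := isClosed_of_bcFst' (AlgebraicClosure K) yb (by rw [hyb]; exact hyc)
  have hzx : Curv2.bcFst k X (AlgebraicClosure k) (h yb) = g y := by
    rw [← Scheme.Hom.comp_apply, h1, Scheme.Hom.comp_apply, hyb]
  have hzc : IsClosed ({h yb} : Set _) := isClosed_of_bcFst' (AlgebraicClosure k) (h yb) (by rw [hzx]; exact hx)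
  have key := odpAt_iff_ext (Curv2.bcSnd k X (AlgebraicClosure k)) (Curv2.bcSnd K Y (AlgebraicClosure K)) h hpb yb
    hybc hzc
  constructor
  · intro hn
    exact (isNode_def K _ y).2 ⟨hyc, yb, hyb, key.1 (odpAt_of_isNode _ _ hn _ hzx)⟩
  · intro hn
    exact isNode_of_odpAt _ _ hx _ hzx (key.2 (odpAt_of_isNode _ y hn yb hyb))

end Ext

end Groth.L21.Nodal
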