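import Groth.Prelude.Def_CurvBase
import Groth.Agent.L07.CIScheme
import Groth.Agent.L22.FibreDim
import Mathlib.RingTheory.Unramified.Field
import Mathlib.RingTheory.Artinian.Ring
import Mathlib.RingTheory.Kaehler.Basic
import Mathlib.FieldTheory.IsAlgClosed.Basic
import Mathlib.LinearAlgebra.Dual.Lemmas
import Mathlib.AlgebraicGeometry.Morphisms.Finite
import Mathlib.AlgebraicGeometry.AlgClosed.Basic

/-!
The residue field of a closed point is separable exactly when the geometric local rings above it are unramified.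
-/

set_option autoImplicit false
universe u

open CategoryTheory CategoryTheory.Limits AlgebraicGeometry IsLocalRing
open scoped TensorProduct

noncomputable section

namespace Groth.L21.Nodal

section Field

variable (k κ F : Type u) [Field k] [Field κ] [Field F] [Algebra k κ] [Algebra k F]

theorem isSeparable_of_isField_localization [IsAlgClosed F] [FiniteDimensional k κ]
    (p : Ideal (κ ⊗[k] F)) [p.IsPrime] (h : IsField (Localization.AtPrime p)) : Algebra.IsSeparable k κ := by
  classical
  let E := Localization.AtPrime p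
  letI : Field E := h.toField
  let locA : κ ⊗[k] F →ₐ[k] E := IsScalarTower.toAlgHom k (κ ⊗[k] F) E
  let loc : κ ⊗[k] F →+* E := locA.toRingHom
  let inF : F →ₐ[k] E := locA.comp Algebra.TensorProduct.includeRight
  letI : Algebra F E := inF.toRingHom.toAlgebra
  haveI : IsScalarTower k F E := IsScalarTower.of_algebraMap_eq fun t => (inF.commutes t).symm
  let inκ : κ →ₐ[k] E := locA.comp Algebra.TensorProduct.includeLeft
  have hroot : ∀ x : κ, ∃ c : F, loc (x ⊗ₜ 1) = loc (1 ⊗ₜ c) := fun x => by
    have hint : IsIntegral F (inκ x) :=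
      ((Algebra.IsIntegral.isIntegral (R := k) x).map inκ).tower_top
    obtain ⟨c, hc⟩ := minpoly.mem_range_of_degree_eq_one F (inκ x)
      (IsAlgClosed.degree_eq_one_of_irreducible F (minpoly.irreducible hint))
    exact ⟨c, hc.symm⟩
  suffices hsub : Subsingleton (KaehlerDifferential k κ) by
    haveI : Algebra.FormallyUnramified k κ := ⟨hsub⟩
    exact Algebra.FormallyUnramified.isSeparable k κ
  refine subsingleton_of_forall_eq 0 fun ω => ?_
  by_contra hω
  obtain ⟨φ, hφ⟩ := not_forall.1 fun hall => hω ((Module.forall_dual_apply_eq_zero_iff κ ω).1 hall)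
  let D : κ →ₗ[k] κ := (φ.restrictScalars k).comp (KaehlerDifferential.D k κ).toLinearMap
  have hDmul : ∀ x y : κ, D (x * y) = x * D y + y * D x := fun x y => by
    simp only [D, LinearMap.comp_apply, Derivation.coeFn_coe, LinearMap.restrictScalars_apply, Derivation.leibniz,
      map_add, map_smul, smul_eq_mul]
  let Δ : κ ⊗[k] F →ₗ[k] κ ⊗[k] F := D.rTensor F
  have hΔ : ∀ r s, Δ (r * s) = r * Δ s + s * Δ r := by
    intro r s
    induction r using TensorProduct.induction_on with
    | zero => simp
    | add r r' hr hr' => simp only [add_mul, map_add, hr, hr', mul_add]; abel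
    | tmul x f =>
      induction s using TensorProduct.induction_on with
      | zero => simp
      | add s s' hs hs' => simp only [mul_add, map_add, hs, hs', add_mul]; abel
      | tmul y g =>
        simp only [Δ, LinearMap.rTensor_tmul, Algebra.TensorProduct.tmul_mul_tmul, hDmul, TensorProduct.add_tmul,
          mul_comm g f]
  have hD : ∀ x : κ, D x = 0 := fun x => by
    obtain ⟨c, hc⟩ := hroot x
    have hz : loc (x ⊗ₜ[k] (1 : F) - 1 ⊗ₜ c) = 0 := by rw [map_sub, hc, sub_self]
    obtain ⟨⟨s, hs⟩, hsz⟩ := (IsLocalization.map_eq_zero_iff p.primeCompl E _).1 hz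
    have h1 := congrArg (fun r => loc (Δ r)) hsz
    simp only [hΔ, map_add, map_mul, hz, zero_mul, add_zero, map_zero] at h1
    have hs0 : loc s ≠ 0 := (IsLocalization.map_units E (⟨s, hs⟩ : p.primeCompl)).ne_zero
    have h2 := (mul_eq_zero.1 h1).resolve_left hs0
    have hD1 : D 1 = 0 := by
      simp [D]
    rw [show Δ (x ⊗ₜ[k] (1 : F) - 1 ⊗ₜ c) = D x ⊗ₜ 1 by simp [Δ, hD1]] at h2
    exact inκ.toRingHom.injective (h2.trans (map_zero inκ.toRingHom).symm)
  refine hφ ?_
  have hspan : ω ∈ Submodule.span κ (Set.range (KaehlerDifferential.D k κ)) := by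
    rw [KaehlerDifferential.span_range_derivation]; trivial
  refine LinearMap.eqOn_span (g := (0 : KaehlerDifferential k κ →ₗ[κ] κ)) ?_ hspan
  rintro _ ⟨x, rfl⟩
  exact hD x

theorem isField_localization_of_isSeparable [FiniteDimensional k κ] [Algebra.IsSeparable k κ]
    (p : Ideal (κ ⊗[k] F)) [p.IsPrime] : IsField (Localization.AtPrime p) := by
  haveI : Algebra.FormallyUnramified k κ := Algebra.FormallyUnramified.of_isSeparable k κ
  haveI : IsReduced (F ⊗[k] κ) := Algebra.FormallyUnramified.isReduced_of_field F (F ⊗[k] κ)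
  haveI : IsArtinianRing (F ⊗[k] κ) := IsArtinianRing.of_finite F (F ⊗[k] κ)
  let e := (Algebra.TensorProduct.comm k F κ).toRingEquiv
  haveI : IsReduced (κ ⊗[k] F) := isReduced_of_injective e.symm e.symm.injective
  haveI : IsArtinianRing (κ ⊗[k] F) := e.isArtinianRing
  exact IsArtinianRing.isField_of_isReduced_of_isLocalRing _

end Field

section Scheme

variable {k : Type u} [Field k] {X : Scheme.{u}} [X.Over (Spec (CommRingCat.of k))]

theorem finite_resMap [LocallyOfFiniteType (X ↘ Spec (CommRingCat.of k))] (x : X) (hx : IsClosed ({x} : Set X)) :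
    (Curv2.resMap k X x).Finite := by
  have h : IsFinite (Spec.map (CommRingCat.ofHom (Curv2.resMap k X x))) := by
    rw [Groth.L22.FibreDim.SpecMap_resMap, isFinite_iff_locallyOfFiniteType_of_jacobsonSpace]
    rw [isClosed_singleton_iff_isClosedImmersion] at hx
    infer_instance
  exact (IsFinite.SpecMap_iff _).1 h

/-- The fibre ring of `X ⊗ F → X` at a point is a local ring of `κ(x) ⊗ F`. -/
theorem exists_fibRing_equiv (F : Type u) [Field F] [Algebra k F] (z : Curv2.bc k X F) :
    letI := Curv2.resAlgebra k X (Curv2.bcFst k X F z)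
    letI := ((Curv2.bcFst k X F).stalkMap z).hom.toAlgebra
    ∃ (p : Ideal (X.residueField (Curv2.bcFst k X F z) ⊗[k] F)) (_ : p.IsPrime),
      Nonempty (EGA4.FibRing (X.presheaf.stalk (Curv2.bcFst k X F z)) ((Curv2.bc k X F).presheaf.stalk z) ≃+*
        Localization.AtPrime p) := by
  set i := Curv2.bcFst k X F with hi
  set x := i z with hx
  letI := Curv2.resAlgebra k X x
  letI := (i.stalkMap z).hom.toAlgebra
  have hpb : IsPullback (pullback.snd i (X.fromSpecResidueField x))
      (pullback.fst i (X.fromSpecResidueField x) ≫ Curv2.bcSnd k X F)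
      (Spec.map (CommRingCat.ofHom (algebraMap k (X.residueField x))))
      (Spec.map (CommRingCat.ofHom (algebraMap k F))) := by
    convert (IsPullback.of_hasPullback i (X.fromSpecResidueField x)).flip.paste_vert (IsPullback.of_hasPullback _ _)
      using 1
    exact Groth.L22.FibreDim.SpecMap_resMap k X x
  let E : i.fiber x ≅ Spec (CommRingCat.of (X.residueField x ⊗[k] F)) :=
    hpb.isoPullback ≪≫ pullbackSpecIso k (X.residueField x) F
  obtain ⟨e⟩ := Groth.L07.CIScheme.exists_fiberStalkEquiv i x (i.asFiber z) z (i.fiberι_asFiber z)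
  let P := E.hom (i.asFiber z)
  exact ⟨P.asIdeal, inferInstance, ⟨e.trans ((asIso (E.hom.stalkMap (i.asFiber z))).symm ≪≫
    Spec.stalkIso (CommRingCat.of (X.residueField x ⊗[k] F)) P).commRingCatIsoToRingEquiv⟩⟩

variable [LocallyOfFiniteType (X ↘ Spec (CommRingCat.of k))]

/-- Unramified above implies separable residue field. -/
theorem isSeparable_of_map_maximalIdeal (F : Type u) [Field F] [IsAlgClosed F] [Algebra k F] (z : Curv2.bc k X F)
    (hx : IsClosed ({Curv2.bcFst k X F z} : Set X))
    (hm : (maximalIdeal (X.presheaf.stalk (Curv2.bcFst k X F z))).map ((Curv2.bcFst k X F).stalkMap z).hom =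
      maximalIdeal ((Curv2.bc k X F).presheaf.stalk z)) :
    letI := Curv2.resAlgebra k X (Curv2.bcFst k X F z)
    Algebra.IsSeparable k (X.residueField (Curv2.bcFst k X F z)) := by
  letI := Curv2.resAlgebra k X (Curv2.bcFst k X F z)
  letI := ((Curv2.bcFst k X F).stalkMap z).hom.toAlgebra
  haveI : FiniteDimensional k (X.residueField (Curv2.bcFst k X F z)) := finite_resMap _ hx
  obtain ⟨p, _, ⟨e⟩⟩ := exists_fibRing_equiv F z
  refine isSeparable_of_isField_localization k _ F p (MulEquiv.isField ?_ e.symm.toMulEquiv)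
  refine (Ideal.Quotient.maximal_ideal_iff_isField_quotient _).1 ?_
  show ((maximalIdeal _).map _).IsMaximal
  exact hm ▸ maximalIdeal.isMaximal _

/-- Separable residue field implies unramified above. -/
theorem map_maximalIdeal_of_isSeparable (F : Type u) [Field F] [Algebra k F] (z : Curv2.bc k X F)
    (hx : IsClosed ({Curv2.bcFst k X F z} : Set X))
    (hs : letI := Curv2.resAlgebra k X (Curv2.bcFst k X F z)
      Algebra.IsSeparable k (X.residueField (Curv2.bcFst k X F z))) :
    (maximalIdeal (X.presheaf.stalk (Curv2.bcFst k X F z))).map ((Curv2.bcFst k X F).stalkMap z).hom =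
      maximalIdeal ((Curv2.bc k X F).presheaf.stalk z) := by
  letI := Curv2.resAlgebra k X (Curv2.bcFst k X F z)
  letI := ((Curv2.bcFst k X F).stalkMap z).hom.toAlgebra
  haveI := hs
  haveI : FiniteDimensional k (X.residueField (Curv2.bcFst k X F z)) := finite_resMap _ hx
  obtain ⟨p, _, ⟨e⟩⟩ := exists_fibRing_equiv F z
  exact IsLocalRing.eq_maximalIdeal ((Ideal.Quotient.maximal_ideal_iff_isField_quotient _).2
    (MulEquiv.isField (isField_localization_of_isSeparable k _ F p) e.toMulEquiv))

end Scheme

end Groth.L21.Nodal
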