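import Groth.Agent.L21.Nodal.QuadConverse
import Groth.Agent.L21.Nodal.SeparableFibre
import Groth.Agent.L21.Nodal.Gorenstein
import Groth.Agent.L21.Nodal.GeomExt

/-! Nodes and completions cut out by nondegenerate quadratic forms. -/

set_option autoImplicit false
universe u

open CategoryTheory CategoryTheory.Limits AlgebraicGeometry IsLocalRing

attribute [local instance] Curv2.resAlgebra Curv2.stalkAlgebra

noncomputable section

namespace Groth.L21.Nodal

variable {k : Type u} [Field k] {X : Scheme.{u}} [X.Over (Spec (CommRingCat.of k))]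
  [LocallyOfFiniteType (X ↘ Spec (CommRingCat.of k))]

theorem bcFst_stalkMap_alg (xb : Curv2.bc k X (AlgebraicClosure k)) (t : k) :
    letI : (Curv2.bc k X (AlgebraicClosure k)).Over (Spec (CommRingCat.of (AlgebraicClosure k))) :=
      ⟨Curv2.bcSnd k X (AlgebraicClosure k)⟩
    ((Curv2.bcFst k X (AlgebraicClosure k)).stalkMap xb).hom
        (Curv2.stalkMap k X (Curv2.bcFst k X (AlgebraicClosure k) xb) t) =
      Curv2.stalkMap (AlgebraicClosure k) (Curv2.bc k X (AlgebraicClosure k)) xb
        (algebraMap k (AlgebraicClosure k) t) := by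
  letI : (Curv2.bc k X (AlgebraicClosure k)).Over (Spec (CommRingCat.of (AlgebraicClosure k))) :=
    ⟨Curv2.bcSnd k X (AlgebraicClosure k)⟩
  exact stalkMap_semilinear _ _ pullback.condition xb t

theorem residue_surjective_algClosed (xb : Curv2.bc k X (AlgebraicClosure k))
    (hxb : IsClosed ({xb} : Set (Curv2.bc k X (AlgebraicClosure k))))
    (b : (Curv2.bc k X (AlgebraicClosure k)).presheaf.stalk xb) :
    letI : (Curv2.bc k X (AlgebraicClosure k)).Over (Spec (CommRingCat.of (AlgebraicClosure k))) :=
      ⟨Curv2.bcSnd k X (AlgebraicClosure k)⟩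
    ∃ c, b - Curv2.stalkMap (AlgebraicClosure k) (Curv2.bc k X (AlgebraicClosure k)) xb c ∈ maximalIdeal _ := by
  letI : (Curv2.bc k X (AlgebraicClosure k)).Over (Spec (CommRingCat.of (AlgebraicClosure k))) :=
    ⟨Curv2.bcSnd k X (AlgebraicClosure k)⟩
  haveI : LocallyOfFiniteType ((Curv2.bc k X (AlgebraicClosure k)) ↘ Spec (CommRingCat.of (AlgebraicClosure k))) :=
    inferInstanceAs (LocallyOfFiniteType (Curv2.bcSnd k X (AlgebraicClosure k)))
  obtain ⟨c, hc⟩ := resMap_surjective (k := AlgebraicClosure k) xb hxb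
    ((Curv2.bc k X (AlgebraicClosure k)).residue xb b)
  refine ⟨c, ?_⟩
  rw [← IsLocalRing.ker_residue, RingHom.mem_ker, map_sub, sub_eq_zero]
  exact hc.symm

theorem isNode_iff_quad (x : X) (hx : IsClosed ({x} : Set X)) :
    Curv2.IsNode k X x ↔
      (Algebra.IsSeparable k (X.residueField x) ∧
        ∃ a b c : X.residueField x, 4 * a * c - b ^ 2 ≠ 0 ∧
          ∃ e : AdicCompletion (IsLocalRing.maximalIdeal (X.presheaf.stalk x)) (X.presheaf.stalk x) ≃+*
              (MvPowerSeries (Fin 2) (X.residueField x) ⧸ Ideal.span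
                {(MvPowerSeries.C a * MvPowerSeries.X 0 ^ 2 + MvPowerSeries.C b * MvPowerSeries.X 0 * MvPowerSeries.X 1 +
                  MvPowerSeries.C c * MvPowerSeries.X 1 ^ 2 : MvPowerSeries (Fin 2) (X.residueField x))}),
            ∀ t : k, e (algebraMap (X.presheaf.stalk x) _ (algebraMap k (X.presheaf.stalk x) t)) =
              Ideal.Quotient.mk _ (MvPowerSeries.C (algebraMap k (X.residueField x) t))) := by
  obtain ⟨xb, rfl⟩ := bcFst_surjective (k := k) (X := X) (AlgebraicClosure k) x
  set i := Curv2.bcFst k X (AlgebraicClosure k) with hi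
  letI : (Curv2.bc k X (AlgebraicClosure k)).Over (Spec (CommRingCat.of (AlgebraicClosure k))) :=
    ⟨Curv2.bcSnd k X (AlgebraicClosure k)⟩
  haveI : IsLocallyNoetherian X := LocallyOfFiniteType.isLocallyNoetherian (X ↘ Spec (CommRingCat.of k))
  haveI : IsLocallyNoetherian (Curv2.bc k X (AlgebraicClosure k)) :=
    LocallyOfFiniteType.isLocallyNoetherian (Curv2.bcSnd k X (AlgebraicClosure k))
  haveI : Flat i := flat_bcFst (k := k) (X := X) (AlgebraicClosure k)
  letI := (i.stalkMap xb).hom.toAlgebra
  haveI : Module.Flat (X.presheaf.stalk (i xb)) ((Curv2.bc k X (AlgebraicClosure k)).presheaf.stalk xb) :=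
    Flat.stalkMap i xb
  haveI : IsLocalHom (algebraMap (X.presheaf.stalk (i xb)) ((Curv2.bc k X (AlgebraicClosure k)).presheaf.stalk xb)) :=
    inferInstanceAs (IsLocalHom (i.stalkMap xb).hom)
  haveI : FiniteDimensional k (X.residueField (i xb)) := finite_resMap _ hx
  have hB := residue_surjective_algClosed xb (isClosed_of_bcFst xb hx)
  constructor
  · intro hn
    have hodp := odpAt_of_isNode (AlgebraicClosure k) (i xb) hn xb rfl
    have hm := map_maximalIdeal_bcFst_of_odpAt xb hx hodp
    haveI hs : Algebra.IsSeparable k (X.residueField (i xb)) :=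
      isSeparable_of_map_maximalIdeal (AlgebraicClosure k) xb hx hm
    refine ⟨hs, ?_⟩
    exact exists_completion_quad (k := k) (F := AlgebraicClosure k)
      (B := (Curv2.bc k X (AlgebraicClosure k)).presheaf.stalk xb)
      { (X.residue (i xb)).hom with commutes' := fun _ => rfl } (Ideal.Quotient.mk_surjective)
      IsLocalRing.ker_residue hm (bcFst_stalkMap_alg xb) hodp
  · rintro ⟨hs, a, b, c, hD, e, he⟩
    haveI := hs
    have hm := map_maximalIdeal_of_isSeparable (AlgebraicClosure k) xb hx hs
    refine isNode_of_odpAt (AlgebraicClosure k) (i xb) hx xb rfl ?_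
    exact isOrdDoublePt_of_completion_quad (k := k) (F := AlgebraicClosure k)
      (B := (Curv2.bc k X (AlgebraicClosure k)).presheaf.stalk xb) hm (bcFst_stalkMap_alg xb) hB a b c hD e he

end Groth.L21.Nodal
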