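import Groth.Agent.L21.Nodal.NodalMax
import Groth.Agent.L19.Limit.FlatStage
import Groth.Agent.L19.Limit.Pullback
import Mathlib.AlgebraicGeometry.AffineTransitionLimit

/-! Nodal families descend to a stage of a limit. -/

set_option autoImplicit false
universe u

open CategoryTheory CategoryTheory.Limits AlgebraicGeometry TopologicalSpace

noncomputable section

namespace Groth.L21.Nodal

/-- Nodal families as a property of morphisms. -/
def nodal : MorphismProperty Scheme.{u} := fun _ _ g => Curv2.IsNodalFamily g

instance : (nodal.{u}).IsStableUnderBaseChange :=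
  ⟨fun sq h => isNodalFamily_of_isPullback sq h⟩

theorem isNodalFamily_of_top_ι {X S : Scheme.{u}} (f : X ⟶ S) (h : Curv2.IsNodalFamily ((⊤ : X.Opens).ι ≫ f)) :
    Curv2.IsNodalFamily f := by
  have := comp_etale _ X.topIso.inv h
  rwa [← Category.assoc, show X.topIso.inv ≫ (⊤ : X.Opens).ι = 𝟙 X from X.topIso.inv_hom_id, Category.id_comp] at this

open Groth.L19.Limit in
set_option backward.isDefEq.respectTransparency.types false in
set_option backward.isDefEq.respectTransparency false in
theorem descends_nodal : Descends nodal qcqsfp.{u} := by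
  intro I _ _ D c _ hc i _ X a ha hP
  obtain ⟨j, φ, hfl⟩ := descends_flat hc a ha (show Curv2.IsNodalFamily _ from hP).1
  let P := pullback (D.map φ) a
  let a' : P ⟶ D.obj j := pullback.fst (D.map φ) a
  have ha' : qcqsfp a' := MorphismProperty.pullback_fst _ _ ha
  haveI : Flat a' := hfl
  haveI : LocallyOfFinitePresentation a' := ha'.2
  haveI : QuasiCompact a' := ha'.1.1
  haveI : CompactSpace (D.obj j) := QuasiCompact.compactSpace_of_compactSpace (D.map φ)
  have trans : ∀ {T : Scheme.{u}} (g : T ⟶ D.obj j),
      Pb nodal a (g ≫ D.map φ) ↔ Curv2.IsNodalFamily (pullback.snd a' g) := fun g =>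
    (pb_iff_of_isPullback ((IsPullback.of_hasPullback a' g).paste_horiz
      (IsPullback.of_hasPullback (D.map φ) a).flip)).symm
  have hlim : Curv2.IsNodalFamily (pullback.snd a' (c.π.app j)) := (trans _).1 (by rw [c.w]; exact hP)
  let U := nodalLocus a'
  have htop : pullback.fst a' (c.π.app j) ⁻¹ᵁ U = ⊤ := top_le_iff.1 fun v _ => by
    obtain ⟨O, hO, hn⟩ := exists_open_isNodalFamily_descend a' (c.π.app j) ⊤
      (comp_etale _ (⊤ : (pullback a' (c.π.app j)).Opens).ι hlim) v trivial
    exact le_nodalLocus a' hn hO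
  have sq : IsPullback (pullback.fst a' (c.π.app j)) (pullback.snd a' (c.π.app j)) a' (c.π.app j) :=
    IsPullback.of_hasPullback _ _
  haveI : ∀ k, CompactSpace ((bcDiagram D a').obj k) := fun k => by
    haveI : CompactSpace (D.obj k.left) := QuasiCompact.compactSpace_of_compactSpace (D.map k.hom)
    exact QuasiCompact.compactSpace_of_compactSpace (X := pullback (D.map k.hom) a') (pullback.fst (D.map k.hom) a')
  let J : Over j := Over.mk (𝟙 j)
  obtain ⟨k, e, hk⟩ := exists_map_eq_top (bcDiagram D a') (sqCone sq) (isLimitSqCone hc sq) (i := J)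
    (pullback.snd (D.map J.hom) a' ⁻¹ᵁ U) (by
      rw [← Scheme.Hom.comp_preimage]
      show (toStage sq J ≫ pullback.snd (D.map J.hom) a') ⁻¹ᵁ U = ⊤
      rw [toStage_snd, htop])
  have hk' : pullback.snd (D.map k.hom) a' ⁻¹ᵁ U = ⊤ := by
    rw [← Scheme.Hom.comp_preimage] at hk
    rwa [show (bcDiagram D a').map e ≫ pullback.snd (D.map J.hom) a' = pullback.snd (D.map k.hom) a' from
      (pullback.lift_snd ..).trans (Category.comp_id _)] at hk
  refine ⟨k.left, k.hom ≫ φ, ?_⟩
  have hn : Curv2.IsNodalFamily (pullback.fst (D.map k.hom) a') := by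
    refine isNodalFamily_of_top_ι _ ?_
    rw [← hk']
    exact isNodalFamily_of_isPullback
      ((isPullback_morphismRestrict (pullback.snd (D.map k.hom) a') U).paste_vert
        (IsPullback.of_hasPullback (D.map k.hom) a').flip) (isNodalFamily_nodalLocus a')
  rw [D.map_comp]
  refine (trans _).2 ?_
  have := comp_etale _ (pullbackSymmetry a' (D.map k.hom)).hom hn
  rwa [pullbackSymmetry_hom_comp_fst] at this

end Groth.L21.Nodal
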