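import Groth.Agent.L14.Node
import Groth.Agent.L12.PowSer
import Mathlib.RingTheory.AdicCompletion.LocalRing
import Mathlib.RingTheory.Nakayama

/-!
The ring `L[[u, v]]/(uv)`: its two branches, and a criterion for a complete local ring to be isomorphic to it.
-/

set_option autoImplicit false
universe u v

open IsLocalRing Groth.L14.Node

noncomputable section

namespace Groth.L21.Nodal

variable (L : Type u) [Field L]

/-- `L[[u, v]]/(uv)`. -/
abbrev R2 := MvPowerSeries (Fin 2) L ⧸ Ideal.span {(MvPowerSeries.X 0 * MvPowerSeries.X 1 : MvPowerSeries (Fin 2) L)}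

/-- The branch `X i = 0`. -/
def branch (i : Fin 2) : R2 L →+* PowerSeries L :=
  Ideal.Quotient.lift _ (q i) (fun z hz => by
    obtain ⟨c, rfl⟩ := Ideal.mem_span_singleton.mp hz
    fin_cases i
    · rw [show ((⟨0, by omega⟩ : Fin 2)) = 0 from rfl, map_mul, map_mul, q_X_self, zero_mul, zero_mul]
    · rw [show ((⟨1, by omega⟩ : Fin 2)) = 1 from rfl, map_mul, map_mul, q_X_self, mul_zero, zero_mul])

theorem branch_mk (i : Fin 2) (f : MvPowerSeries (Fin 2) L) :
    branch L i (Ideal.Quotient.mk _ f) = q i f := rfl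

variable {L}

theorem branch_C (i : Fin 2) (c : L) :
    branch L i (Ideal.Quotient.mk _ (MvPowerSeries.C c)) = PowerSeries.C c := q_C i c

theorem constantCoeff_q (i : Fin 2) (f : MvPowerSeries (Fin 2) L) :
    PowerSeries.constantCoeff (q i f) = MvPowerSeries.constantCoeff f := by
  rw [← PowerSeries.coeff_zero_eq_constantCoeff_apply, coeff_q, Finsupp.single_zero,
    MvPowerSeries.coeff_zero_eq_constantCoeff]

theorem X_mul_X' (i : Fin 2) :
    (MvPowerSeries.X (1 - i) * MvPowerSeries.X i : MvPowerSeries (Fin 2) L) =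
      MvPowerSeries.X 0 * MvPowerSeries.X 1 := by
  fin_cases i
  · exact mul_comm _ _
  · rfl

theorem q_X_zero : q 1 (MvPowerSeries.X 0 : MvPowerSeries (Fin 2) L) = PowerSeries.X := q_X_other 1

theorem q_X_one : q 0 (MvPowerSeries.X 1 : MvPowerSeries (Fin 2) L) = PowerSeries.X := q_X_other 0

theorem eq_add_of_constantCoeff_eq_zero {f : MvPowerSeries (Fin 2) L} (hf : MvPowerSeries.constantCoeff f = 0) :
    ∃ g h, f = MvPowerSeries.X 0 * g + MvPowerSeries.X 1 * h := by
  obtain ⟨w, hw⟩ : (PowerSeries.X : PowerSeries L) ∣ q 0 f := by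
    rw [PowerSeries.X_dvd_iff, constantCoeff_q, hf]
  obtain ⟨g, hg⟩ := X_dvd_of_q_eq_zero (i := 0)
    (f := f - MvPowerSeries.X 1 * lift 0 (fun n => PowerSeries.coeff n w)) (by
      rw [map_sub, map_mul, q_X_one, q_lift, hw, sub_eq_zero]
      congr 1
      ext n
      simp)
  exact ⟨g, _, (sub_eq_iff_eq_add.1 hg)⟩

theorem exists_sub_X_pow_mul_mem (i : Fin 2) {f : MvPowerSeries (Fin 2) L} {k : ℕ}
    (h : (PowerSeries.X : PowerSeries L) ^ k ∣ q i f) :
    ∃ w : MvPowerSeries (Fin 2) L,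
      MvPowerSeries.X i ∣ f - MvPowerSeries.X (1 - i) ^ k * w ∧ q i f = PowerSeries.X ^ k * q i w := by
  obtain ⟨p, hp⟩ := h
  have hl : q i (lift i (fun n => PowerSeries.coeff n p)) = p := by
    rw [q_lift]
    ext n
    simp
  refine ⟨lift i (fun n => PowerSeries.coeff n p), X_dvd_of_q_eq_zero ?_, by rw [hl, hp]⟩
  rw [map_sub, map_mul, map_pow, q_X_other, hl, hp, sub_self]

section Ker

variable {S : Type v} [CommRing S] [Nontrivial S] (φ : MvPowerSeries (Fin 2) L →+* S)

theorem branchPart_dvd (i : Fin 2) (hxy : φ (MvPowerSeries.X 0) * φ (MvPowerSeries.X 1) = 0)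
    (hx : ¬ IsNilpotent (φ (MvPowerSeries.X (1 - i)))) (g : MvPowerSeries (Fin 2) L)
    (h : φ (MvPowerSeries.X (1 - i)) ^ 2 * φ g = 0) :
    MvPowerSeries.X i ∣ g := by
  refine X_dvd_of_q_eq_zero (by_contra fun hg => ?_)
  obtain ⟨n, hn, hn'⟩ : ∃ n : ℕ, PowerSeries.X ^ n ∣ q i g ∧ ¬ PowerSeries.X ^ (n + 1) ∣ q i g := by
    by_contra hcon
    push Not at hcon
    have : ∀ n : ℕ, PowerSeries.X ^ n ∣ q i g := fun n => by
      induction n with
      | zero => simp
      | succ n ih => exact hcon n ih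
    refine hg (PowerSeries.ext fun n => ?_)
    rw [map_zero]
    exact PowerSeries.X_pow_dvd_iff.1 (this (n + 1)) n (Nat.lt_succ_self n)
  obtain ⟨w, ⟨r, hr⟩, hw⟩ := exists_sub_X_pow_mul_mem i hn
  have hwu : IsUnit (φ w) := by
    refine (MvPowerSeries.isUnit_iff_constantCoeff.2 (IsUnit.mk0 _ fun h0 => hn' ?_)).map φ
    rw [hw, pow_succ]
    refine mul_dvd_mul_left _ (PowerSeries.X_dvd_iff.2 ?_)
    rw [constantCoeff_q, h0]
  have hzero : φ (MvPowerSeries.X (1 - i)) * φ (MvPowerSeries.X i) = 0 := by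
    rw [← map_mul, X_mul_X', map_mul, hxy]
  rw [sub_eq_iff_eq_add.1 hr, map_add, map_mul, map_mul, map_pow, mul_add] at h
  rw [show φ (MvPowerSeries.X (1 - i)) ^ 2 * (φ (MvPowerSeries.X i) * φ r) =
    φ (MvPowerSeries.X (1 - i)) * (φ (MvPowerSeries.X (1 - i)) * φ (MvPowerSeries.X i)) * φ r by ring,
    hzero, mul_zero, zero_mul, zero_add, ← mul_assoc, ← pow_add] at h
  exact hx ⟨2 + n, hwu.mul_left_eq_zero.1 h⟩

theorem ker_eq_span (hxy : φ (MvPowerSeries.X 0) * φ (MvPowerSeries.X 1) = 0)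
    (hx : ¬ IsNilpotent (φ (MvPowerSeries.X 0))) (hy : ¬ IsNilpotent (φ (MvPowerSeries.X 1))) :
    RingHom.ker φ = Ideal.span {(MvPowerSeries.X 0 * MvPowerSeries.X 1 : MvPowerSeries (Fin 2) L)} := by
  refine le_antisymm (fun f hf => ?_) ?_
  swap
  · rw [Ideal.span_le, Set.singleton_subset_iff]
    exact RingHom.mem_ker.2 (by rw [map_mul, hxy])
  rw [RingHom.mem_ker] at hf
  obtain ⟨g, h, rfl⟩ := eq_add_of_constantCoeff_eq_zero (f := f) (by_contra fun hc =>
    not_isUnit_zero (hf ▸ (MvPowerSeries.isUnit_iff_constantCoeff.2 (IsUnit.mk0 _ hc)).map φ))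
  rw [map_add, map_mul, map_mul] at hf
  set x := φ (MvPowerSeries.X 0)
  set y := φ (MvPowerSeries.X 1)
  have hg : MvPowerSeries.X 1 ∣ g := branchPart_dvd φ 1 hxy hx g (by
    change x ^ 2 * φ g = 0
    calc x ^ 2 * φ g = x * (x * φ g + y * φ h) - x * y * φ h := by ring
      _ = 0 := by rw [hf, hxy]; ring)
  have hh : MvPowerSeries.X 0 ∣ h := branchPart_dvd φ 0 hxy hy h (by
    change y ^ 2 * φ h = 0
    calc y ^ 2 * φ h = y * (x * φ g + y * φ h) - x * y * φ g := by ring
      _ = 0 := by rw [hf, hxy]; ring)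
  obtain ⟨g', rfl⟩ := hg
  obtain ⟨h', rfl⟩ := hh
  exact Ideal.mem_span_singleton.2 ⟨g' + h', by ring⟩

end Ker

variable (L) in
/-- The maximal ideal of `L[[u, v]]/(uv)`. -/
def R2max : Ideal (R2 L) := Ideal.span {Ideal.Quotient.mk _ (MvPowerSeries.X 0), Ideal.Quotient.mk _ (MvPowerSeries.X 1)}

theorem mem_R2max_iff (z : R2 L) (i : Fin 2) : z ∈ R2max L ↔ PowerSeries.X ∣ branch L i z := by
  constructor
  · intro hz
    suffices R2max L ≤ (Ideal.span {(PowerSeries.X : PowerSeries L)}).comap (branch L i) from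
      Ideal.mem_span_singleton.1 (this hz)
    rw [R2max, Ideal.span_le]
    rintro _ (rfl | rfl) <;>
    · rw [SetLike.mem_coe, Ideal.mem_comap, Ideal.mem_span_singleton, branch_mk, PowerSeries.X_dvd_iff, constantCoeff_q,
        MvPowerSeries.constantCoeff_X]
  · obtain ⟨f, rfl⟩ := Ideal.Quotient.mk_surjective z
    rw [branch_mk, PowerSeries.X_dvd_iff, constantCoeff_q]
    intro h
    obtain ⟨g, h, rfl⟩ := eq_add_of_constantCoeff_eq_zero h
    rw [map_add, map_mul, map_mul]
    exact add_mem (Ideal.mul_mem_right _ _ (Ideal.subset_span (Or.inl rfl)))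
      (Ideal.mul_mem_right _ _ (Ideal.subset_span (Or.inr rfl)))

theorem isUnit_of_notMem_R2max (z : R2 L) (h : z ∉ R2max L) : IsUnit z := by
  obtain ⟨f, rfl⟩ := Ideal.Quotient.mk_surjective z
  refine (MvPowerSeries.isUnit_iff_constantCoeff.2 (IsUnit.mk0 _ fun hc => h ?_)).map _
  rw [mem_R2max_iff _ 0, branch_mk, PowerSeries.X_dvd_iff, constantCoeff_q, hc]

theorem R2max_pow_iff {z : R2 L} (hz : z ∈ R2max L) (k : ℕ) :
    z ∈ R2max L ^ (k + 1) ↔ ∀ i, PowerSeries.X ^ (k + 1) ∣ branch L i z := by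
  constructor
  · intro h i
    have hle : R2max L ≤ (Ideal.span {(PowerSeries.X : PowerSeries L)}).comap (branch L i) :=
      fun w hw => Ideal.mem_span_singleton.2 ((mem_R2max_iff w i).1 hw)
    have := (Ideal.pow_right_mono hle (k + 1)).trans (Ideal.le_comap_pow _ _) h
    rwa [Ideal.mem_comap, Ideal.span_singleton_pow, Ideal.mem_span_singleton] at this
  · intro h
    obtain ⟨f, rfl⟩ := Ideal.Quotient.mk_surjective z
    rw [mem_R2max_iff _ 0, branch_mk, PowerSeries.X_dvd_iff, constantCoeff_q] at hz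
    obtain ⟨g, g', rfl⟩ := eq_add_of_constantCoeff_eq_zero hz
    have h1 := h 1
    rw [branch_mk, map_add, map_mul, map_mul, q_X_self, zero_mul, add_zero, q_X_zero, pow_succ',
      mul_dvd_mul_iff_left PowerSeries.X_ne_zero] at h1
    have h0 := h 0
    rw [branch_mk, map_add, map_mul, map_mul, q_X_self, zero_mul, zero_add, q_X_one, pow_succ',
      mul_dvd_mul_iff_left PowerSeries.X_ne_zero] at h0
    obtain ⟨w, ⟨r, hr⟩, -⟩ := exists_sub_X_pow_mul_mem 1 h1
    obtain ⟨w', ⟨r', hr'⟩, -⟩ := exists_sub_X_pow_mul_mem 0 h0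
    rw [sub_eq_iff_eq_add.1 hr, sub_eq_iff_eq_add.1 hr', show (1 : Fin 2) - 1 = 0 from rfl,
      show (1 : Fin 2) - 0 = 1 from rfl,
      show MvPowerSeries.X 0 * (MvPowerSeries.X 1 * r + MvPowerSeries.X 0 ^ k * w) +
        MvPowerSeries.X 1 * (MvPowerSeries.X 0 * r' + MvPowerSeries.X 1 ^ k * w') =
        MvPowerSeries.X 0 * MvPowerSeries.X 1 * (r + r') +
        (MvPowerSeries.X 0 ^ (k + 1) * w + MvPowerSeries.X 1 ^ (k + 1) * w') by ring, map_add, map_mul,
      Ideal.Quotient.eq_zero_iff_mem.2 (Ideal.mem_span_singleton_self _), zero_mul, zero_add, map_add, map_mul,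
      map_mul, map_pow, map_pow]
    exact add_mem (Ideal.mul_mem_right _ _ (Ideal.pow_mem_pow (Ideal.subset_span (Or.inl rfl) : _ ∈ R2max L) _))
      (Ideal.mul_mem_right _ _ (Ideal.pow_mem_pow (Ideal.subset_span (Or.inr rfl) : _ ∈ R2max L) _))

theorem branch_injective (z : R2 L) (h : ∀ i, branch L i z = 0) : z = 0 := by
  obtain ⟨f, rfl⟩ := Ideal.Quotient.mk_surjective z
  obtain ⟨g, rfl⟩ := X_dvd_of_q_eq_zero (f := f) (i := 0) (h 0)
  have h1 := h 1
  rw [branch_mk, map_mul, q_X_zero, mul_eq_zero] at h1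
  obtain ⟨g', rfl⟩ := X_dvd_of_q_eq_zero (f := g) (i := 1) (h1.resolve_left PowerSeries.X_ne_zero)
  exact Ideal.Quotient.eq_zero_iff_mem.2 (Ideal.mem_span_singleton.2 ⟨g', by ring⟩)

/-- Any two generators of the maximal ideal with product zero are not nilpotent. -/
theorem not_isNilpotent_of_span {x y : R2 L} (hgen : Ideal.span {x, y} = R2max L) : ¬ IsNilpotent x := by
  intro hx
  obtain rfl : x = 0 := branch_injective x fun i => (hx.map (branch L i)).eq_zero
  rw [Ideal.span_insert, Ideal.span_singleton_eq_bot.2 rfl, bot_sup_eq] at hgen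
  have hy : ∀ i, PowerSeries.X ∣ branch L i y := fun i =>
    (mem_R2max_iff y i).1 (hgen ▸ Ideal.mem_span_singleton_self y)
  obtain ⟨a, ha⟩ := Ideal.mem_span_singleton.1
    (hgen.symm ▸ Ideal.subset_span (Or.inl rfl) : Ideal.Quotient.mk _ (MvPowerSeries.X 0) ∈ Ideal.span {y})
  obtain ⟨b, hb⟩ := Ideal.mem_span_singleton.1
    (hgen.symm ▸ Ideal.subset_span (Or.inr rfl) : Ideal.Quotient.mk _ (MvPowerSeries.X 1) ∈ Ideal.span {y})
  have a0 := congrArg (branch L 0) ha
  have a1 := congrArg (branch L 1) ha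
  have b0 := congrArg (branch L 0) hb
  rw [branch_mk, q_X_self, map_mul] at a0
  rw [branch_mk, q_X_zero, map_mul] at a1
  rw [branch_mk, q_X_one, map_mul] at b0
  have hy0 : branch L 0 y ≠ 0 := fun e => PowerSeries.X_ne_zero (b0.trans (by rw [e, zero_mul]))
  have ha' : PowerSeries.X ∣ branch L 1 a :=
    (mem_R2max_iff a 1).1 ((mem_R2max_iff a 0).2 (by rw [(mul_eq_zero.1 a0.symm).resolve_left hy0]; exact dvd_zero _))
  have := mul_dvd_mul (hy 1) ha'
  rw [← a1, ← pow_two, PowerSeries.X_pow_dvd_iff] at this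
  exact one_ne_zero ((PowerSeries.coeff_one_X).symm.trans (this 1 one_lt_two))

section Complete

variable {S : Type v} [CommRing S] [IsLocalRing S]

theorem map_maximalIdeal_equiv (e : S ≃+* R2 L) : (maximalIdeal S).map (e : S →+* R2 L) = R2max L := by
  refine le_antisymm (Ideal.map_le_iff_le_comap.2 fun s hs => ?_) fun z hz => ?_
  · by_contra h
    exact (mem_maximalIdeal s).1 hs ((isUnit_map_iff e s).1 (isUnit_of_notMem_R2max _ h))
  · rw [show z = (e : S →+* R2 L) (e.symm z) from (e.apply_symm_apply z).symm]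
    refine Ideal.mem_map_of_mem _ ((mem_maximalIdeal _).2 fun hu => ?_)
    have h1 := (hu.map e).map (branch L 0)
    rw [e.apply_symm_apply] at h1
    have := (isUnit_of_dvd_unit ((mem_R2max_iff z 0).1 hz) h1).map PowerSeries.constantCoeff
    rw [PowerSeries.constantCoeff_X] at this
    exact not_isUnit_zero this

/-- Generators of the maximal ideal of a ring isomorphic to `L[[u, v]]/(uv)`. -/
theorem exists_gens_of_equiv (e : S ≃+* R2 L) :
    ∃ x y : S, Ideal.span {x, y} = maximalIdeal S ∧ x * y = 0 ∧ ¬ IsNilpotent x ∧ ¬ IsNilpotent y := by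
  refine ⟨e.symm (Ideal.Quotient.mk _ (MvPowerSeries.X 0)), e.symm (Ideal.Quotient.mk _ (MvPowerSeries.X 1)), ?_, ?_, ?_, ?_⟩
  · have := congrArg (Ideal.map (e.symm : R2 L →+* S)) (map_maximalIdeal_equiv e)
    rw [Ideal.map_map, RingEquiv.symm_comp, Ideal.map_id, R2max, Ideal.map_span, Set.image_pair] at this
    exact this.symm
  · rw [← map_mul, ← map_mul, Ideal.Quotient.eq_zero_iff_mem.2 (Ideal.mem_span_singleton_self _), map_zero]
  · intro h
    have := (h.map e).map (branch L 1)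
    rw [e.apply_symm_apply, branch_mk, q_X_zero] at this
    exact PowerSeries.X_ne_zero this.eq_zero
  · intro h
    have := (h.map e).map (branch L 0)
    rw [e.apply_symm_apply, branch_mk, q_X_one] at this
    exact PowerSeries.X_ne_zero this.eq_zero

variable [IsAdicComplete (maximalIdeal S) S] [Algebra L S]

/-- A complete local `L`-algebra with residue field `L` whose maximal ideal is generated by two non-nilpotent
elements with product zero is `L[[u, v]]/(uv)`. -/
theorem exists_equiv_of_gens (hres : ∀ s : S, ∃ c : L, s - algebraMap L S c ∈ maximalIdeal S) (x y : S)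
    (hgen : Ideal.span {x, y} = maximalIdeal S) (hxy : x * y = 0) (hx : ¬ IsNilpotent x) (hy : ¬ IsNilpotent y) :
    ∃ e : S ≃+* R2 L, ∀ c, e (algebraMap L S c) = Ideal.Quotient.mk _ (MvPowerSeries.C c) := by
  have hmem : ∀ i, (![x, y] i) ∈ maximalIdeal S := fun i => hgen ▸ Ideal.subset_span (by fin_cases i <;> simp)
  obtain ⟨φ, hφ⟩ := Groth.L12.exists_evalPS (R := L) (maximalIdeal S) ![x, y] hmem
  let I : Ideal (MvPowerSeries (Fin 2) L) := Ideal.span (Set.range MvPowerSeries.X)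
  have hI : I.map φ.toRingHom = maximalIdeal S := by
    simp only [I, Ideal.map_span, ← Set.range_comp]
    rw [← hgen]
    congr 1
    rw [show (φ.toRingHom : MvPowerSeries (Fin 2) L → S) ∘ MvPowerSeries.X = ![x, y] from funext hφ]
    simp [Set.pair_comm]
  have hsurj : Function.Surjective φ := by
    haveI : IsHausdorff (I.map φ.toRingHom) S := hI ▸ inferInstance
    refine surjective_of_mk_map_comp_surjective (I := I) φ.toRingHom fun z => ?_
    obtain ⟨s, rfl⟩ := Ideal.Quotient.mk_surjective z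
    obtain ⟨c, hc⟩ := hres s
    refine ⟨MvPowerSeries.C c, Ideal.Quotient.eq.2 ?_⟩
    rw [hI, ← neg_sub]
    refine neg_mem ?_
    rw [show φ.toRingHom (MvPowerSeries.C c) = algebraMap L S c from φ.commutes c]
    exact hc
  have hker : RingHom.ker φ.toRingHom = Ideal.span {(MvPowerSeries.X 0 * MvPowerSeries.X 1 : MvPowerSeries (Fin 2) L)} :=
    ker_eq_span φ.toRingHom (by rw [show φ.toRingHom (MvPowerSeries.X 0) = x from hφ 0,
      show φ.toRingHom (MvPowerSeries.X 1) = y from hφ 1, hxy])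
      (by rw [show φ.toRingHom (MvPowerSeries.X 0) = x from hφ 0]; exact hx)
      (by rw [show φ.toRingHom (MvPowerSeries.X 1) = y from hφ 1]; exact hy)
  let e' : R2 L ≃+* S :=
    (Ideal.quotEquivOfEq hker.symm).trans (RingHom.quotientKerEquivOfSurjective hsurj)
  refine ⟨e'.symm, fun c => ?_⟩
  rw [RingEquiv.symm_apply_eq]
  exact (φ.commutes c).symm

end Complete

end Groth.L21.Nodal
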