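import Groth.Prelude.Def_Curv2
import Groth.Agent.L21.Nodal.OdpRing
import Groth.Agent.L21.Nodal.Completion
import Mathlib.RingTheory.Flat.EquationalCriterion
import Mathlib.FieldTheory.IsAlgClosed.Basic
import Mathlib.LinearAlgebra.Dimension.Finite
import Mathlib.LinearAlgebra.Dimension.Constructions

/-!
Ordinary double points and extensions of the ground field: a flat local homomorphism `A → B` with `mB = n` from a
local `K`-algebra with residue field `K` to a local `L`-algebra with residue field `L`.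
-/

set_option autoImplicit false
universe u

open IsLocalRing

noncomputable section

namespace Groth.L21.Nodal

theorem exists_completion_map (A B : Type u) [CommRing A] [CommRing B] [IsLocalRing A] [IsLocalRing B] [Algebra A B]
    [Module.Flat A B] [IsLocalHom (algebraMap A B)] (hm : (maximalIdeal A).map (algebraMap A B) = maximalIdeal B) :
    ∃ h : AdicCompletion (maximalIdeal A) A →+* AdicCompletion (maximalIdeal B) B, Function.Injective h ∧
      ∀ a : A, h (algebraMap A _ a) = algebraMap B _ (algebraMap A B a) := by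
  haveI : Module.FaithfullyFlat A B := Module.FaithfullyFlat.of_flat_of_isLocalHom
  let ψ : ∀ j : ℕ, A ⧸ maximalIdeal A ^ j →+* B ⧸ maximalIdeal B ^ j := fun j =>
    Ideal.quotientMap (maximalIdeal B ^ j) (algebraMap A B)
      (by rw [← hm, ← Ideal.map_pow]; exact Ideal.le_comap_map)
  have hinj : ∀ j, Function.Injective (ψ j) := fun j => by
    refine Ideal.quotientMap_injective' ?_
    rw [← hm, ← Ideal.map_pow]
    exact (Ideal.comap_map_eq_self_of_faithfullyFlat _).le
  have hψ : ∀ j (a : A), ψ j (Ideal.Quotient.mk _ a) = Ideal.Quotient.mk _ (algebraMap A B a) := fun j a => rfl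
  have compA : ∀ {m n : ℕ} (hle : m ≤ n) (x : AdicCompletion (maximalIdeal A) A),
      Ideal.Quotient.factorPow (maximalIdeal A) hle (AdicCompletion.evalₐ _ n x) = AdicCompletion.evalₐ _ m x := by
    intro m n hle x
    obtain ⟨c, rfl⟩ := AdicCompletion.mk_surjective (maximalIdeal A) A x
    simp only [AdicCompletion.evalₐ_mk, Ideal.Quotient.factor_mk]
    exact (Ideal.Quotient.eq.2 (by simpa using SModEq.sub_mem.1 (c.2 hle))).symm
  have comm : ∀ {m n : ℕ} (hle : m ≤ n) (z : A ⧸ maximalIdeal A ^ n),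
      Ideal.Quotient.factorPow (maximalIdeal B) hle (ψ n z) = ψ m (Ideal.Quotient.factorPow (maximalIdeal A) hle z) := by
    intro m n hle z
    obtain ⟨a, rfl⟩ := Ideal.Quotient.mk_surjective z
    rw [hψ, Ideal.Quotient.factor_mk, Ideal.Quotient.factor_mk, hψ]
  let F := AdicCompletion.liftRingHom (maximalIdeal B)
    (fun n => (ψ n).comp (AdicCompletion.evalₐ (maximalIdeal A) n).toRingHom)
    (fun {m n} hle => RingHom.ext fun x => (comm hle _).trans (congrArg (ψ m) (compA hle x)))
  have hF : ∀ n x, AdicCompletion.evalₐ (maximalIdeal B) n (F x) = ψ n (AdicCompletion.evalₐ _ n x) := fun n x =>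
    AdicCompletion.evalₐ_liftRingHom _ _ _ n x
  refine ⟨F, fun x y hxy => AdicCompletion.ext_evalₐ fun n => hinj n (by rw [← hF, ← hF, hxy]), fun a => ?_⟩
  refine AdicCompletion.ext_evalₐ fun n => ?_
  rw [hF, AlgHom.commutes, AlgHom.commutes]
  exact hψ n a

theorem mem_pow_of_algebraMap_mem {B : Type u} [CommRing B] [IsLocalRing B] [IsNoetherianRing B] {b : B} {k : ℕ}
    (h : algebraMap B (AdicCompletion (maximalIdeal B) B) b ∈
      maximalIdeal (AdicCompletion (maximalIdeal B) B) ^ k) : b ∈ maximalIdeal B ^ k := by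
  rw [AdicCompletion.maximalIdeal_eq_map, ← Ideal.map_pow] at h
  have hle : (maximalIdeal B ^ k).map (algebraMap B (AdicCompletion (maximalIdeal B) B)) ≤
      RingHom.ker (AdicCompletion.evalₐ (maximalIdeal B) k) := by
    refine Ideal.map_le_iff_le_comap.2 fun a ha => ?_
    rw [Ideal.mem_comap, RingHom.mem_ker, AlgHom.commutes]
    exact Ideal.Quotient.eq_zero_iff_mem.2 ha
  have h2 := RingHom.mem_ker.1 (hle h)
  rw [AlgHom.commutes] at h2
  exact Ideal.Quotient.eq_zero_iff_mem.1 h2

theorem completion_residue (L : Type u) [Field L] {B : Type u} [CommRing B] [IsLocalRing B] [IsNoetherianRing B]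
    [Algebra L B] (hB : ∀ b : B, ∃ c : L, b - algebraMap L B c ∈ maximalIdeal B)
    (s : AdicCompletion (maximalIdeal B) B) :
    ∃ c : L, s - algebraMap L (AdicCompletion (maximalIdeal B) B) c ∈
      maximalIdeal (AdicCompletion (maximalIdeal B) B) := by
  obtain ⟨r, hr⟩ := (AdicCompletion.residueField_map_bijective B).2 (residue _ s)
  obtain ⟨b, rfl⟩ := residue_surjective r
  obtain ⟨c, hc⟩ := hB b
  rw [ResidueField.map_residue] at hr
  refine ⟨c, ?_⟩
  rw [← residue_eq_zero_iff, map_sub, ← hr, IsScalarTower.algebraMap_apply L B, ← map_sub, ← map_sub,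
    residue_eq_zero_iff, AdicCompletion.maximalIdeal_eq_map]
  exact Ideal.mem_map_of_mem _ hc

/-- Approximate branches in a complete local ring can be made exact. -/
theorem exists_exact_branches {S : Type u} [CommRing S] [IsLocalRing S]
    [IsAdicComplete (maximalIdeal S) S] (x y : S) (hgen : Ideal.span {x, y} = maximalIdeal S)
    (hxy : x * y ∈ maximalIdeal S ^ 3) :
    ∃ x' y' : S, Ideal.span {x', y'} = maximalIdeal S ∧ x' * y' = 0 := by
  have hfg : (maximalIdeal S).FG := hgen ▸ Submodule.fg_span (Set.toFinite _)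
  have gen : ∀ a b : S, a - x ∈ maximalIdeal S ^ 2 → b - y ∈ maximalIdeal S ^ 2 →
      Ideal.span {a, b} = maximalIdeal S := by
    intro a b ha hb
    have h2 : maximalIdeal S ^ 2 ≤ maximalIdeal S := Ideal.pow_le_self two_ne_zero
    refine le_antisymm ?_ (Submodule.le_of_le_smul_of_le_jacobson_bot hfg (maximalIdeal_le_jacobson _) ?_)
    · rw [Ideal.span_le]
      rintro _ (rfl | rfl)
      · simpa using add_mem (h2 ha) (hgen ▸ Ideal.subset_span (Or.inl rfl) : x ∈ maximalIdeal S)
      · simpa using add_mem (h2 hb) (hgen ▸ Ideal.subset_span (Or.inr rfl) : y ∈ maximalIdeal S)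
    · rw [smul_eq_mul, ← pow_two]
      conv_lhs => rw [← hgen]
      rw [Ideal.span_le]
      intro z hz
      rcases hz with hz | hz
      · rw [SetLike.mem_coe, hz, show x = a - (a - x) by ring]
        exact sub_mem (Submodule.mem_sup_left (Ideal.subset_span (Or.inl rfl))) (Submodule.mem_sup_right ha)
      · rw [SetLike.mem_coe, Set.mem_singleton_iff.1 hz, show y = b - (b - y) by ring]
        exact sub_mem (Submodule.mem_sup_left (Ideal.subset_span (Or.inr rfl))) (Submodule.mem_sup_right hb)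
  let Inv : ℕ → S × S → Prop := fun k p =>
    p.1 - x ∈ maximalIdeal S ^ 2 ∧ p.2 - y ∈ maximalIdeal S ^ 2 ∧ p.1 * p.2 ∈ maximalIdeal S ^ (k + 3)
  have step : ∀ k, ∀ p : S × S, Inv k p → ∃ p' : S × S, Inv (k + 1) p' ∧
      p'.1 - p.1 ∈ maximalIdeal S ^ (k + 2) ∧ p'.2 - p.2 ∈ maximalIdeal S ^ (k + 2) := by
    intro k ⟨a, b⟩ ⟨ha, hb, hab⟩
    have hmul : maximalIdeal S ^ (k + 3) = maximalIdeal S ^ (k + 2) * Ideal.span {a} ⊔
        maximalIdeal S ^ (k + 2) * Ideal.span {b} := by
      rw [← Ideal.mul_sup, ← Ideal.span_insert, gen a b ha hb, ← pow_succ]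
    dsimp only at hab ⊢
    rw [hmul] at hab
    obtain ⟨_, hu, _, hv, hsum⟩ := Submodule.mem_sup.1 hab
    obtain ⟨c, hc, rfl⟩ := Ideal.mem_mul_span_singleton.1 hu
    obtain ⟨d, hd, rfl⟩ := Ideal.mem_mul_span_singleton.1 hv
    have hle : maximalIdeal S ^ (k + 2) ≤ maximalIdeal S ^ 2 := Ideal.pow_le_pow_right (by omega)
    refine ⟨(a - d, b - c), ⟨?_, ?_, ?_⟩, ?_, ?_⟩
    · rw [show a - d - x = (a - x) - d by ring]; exact sub_mem ha (hle hd)
    · rw [show b - c - y = (b - y) - c by ring]; exact sub_mem hb (hle hc)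
    · rw [show (a - d) * (b - c) = d * c by linear_combination -hsum]
      exact Ideal.pow_le_pow_right (by omega) (pow_add (maximalIdeal S) (k + 2) (k + 2) ▸ Ideal.mul_mem_mul hd hc)
    · rw [show a - d - a = -d by ring]; exact neg_mem hd
    · rw [show b - c - b = -c by ring]; exact neg_mem hc
  choose next hnext using step
  let F : ∀ k, {p : S × S // Inv k p} := fun k =>
    Nat.rec ⟨(x, y), by simp, by simp, hxy⟩ (fun k p => ⟨next k p.1 p.2, (hnext k p.1 p.2).1⟩) k
  have hstep : ∀ k, (F (k + 1)).1.1 - (F k).1.1 ∈ maximalIdeal S ^ (k + 2) ∧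
      (F (k + 1)).1.2 - (F k).1.2 ∈ maximalIdeal S ^ (k + 2) :=
    fun k => (hnext k (F k).1 (F k).2).2
  have lim : ∀ g : ℕ → S, (∀ k, g (k + 1) - g k ∈ maximalIdeal S ^ (k + 2)) →
      ∃ z, ∀ k, g k - z ∈ maximalIdeal S ^ k := by
    intro g hg
    obtain ⟨z, hz⟩ := IsPrecomplete.prec' (I := maximalIdeal S) g fun {m n} hmn => by
      rw [SModEq.sub_mem, smul_eq_mul, Ideal.mul_top]
      induction n, hmn using Nat.le_induction with
      | base => rw [sub_self]; exact zero_mem _
      | succ n hmn ih =>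
        rw [show g m - g (n + 1) = (g m - g n) - (g (n + 1) - g n) by ring]
        exact sub_mem ih (Ideal.pow_le_pow_right (by omega) (hg n))
    exact ⟨z, fun k => by simpa [SModEq.sub_mem] using hz k⟩
  obtain ⟨x', hx'⟩ := lim (fun k => (F k).1.1) fun k => (hstep k).1
  obtain ⟨y', hy'⟩ := lim (fun k => (F k).1.2) fun k => (hstep k).2
  refine ⟨x', y', gen x' y' ?_ ?_, IsHausdorff.haus ‹IsAdicComplete (maximalIdeal S) S›.toIsHausdorff _ fun k => ?_⟩
  · rw [show x' - x = ((F 2).1.1 - x) - ((F 2).1.1 - x') by ring]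
    exact sub_mem (F 2).2.1 (hx' 2)
  · rw [show y' - y = ((F 2).1.2 - y) - ((F 2).1.2 - y') by ring]
    exact sub_mem (F 2).2.2.1 (hy' 2)
  · rw [SModEq.zero, smul_eq_mul, Ideal.mul_top,
      show x' * y' = (F k).1.1 * (F k).1.2 - (F k).1.1 * ((F k).1.2 - y') - ((F k).1.1 - x') * y' by ring]
    exact sub_mem (sub_mem (Ideal.pow_le_pow_right (by omega) (F k).2.2.2) (Ideal.mul_mem_left _ _ (hy' k)))
      (Ideal.mul_mem_right _ _ (hx' k))

variable {K L A B : Type u} [Field K] [Field L] [Algebra K L] [CommRing A] [CommRing B] [IsLocalRing A]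
  [IsLocalRing B] [IsNoetherianRing A] [IsNoetherianRing B] [Algebra K A] [Algebra L B] [Algebra A B]
  [Module.Flat A B] [IsLocalHom (algebraMap A B)]

/-- An ordinary double point stays one after extending the ground field. -/
theorem isOrdDoublePt_of_flat (hm : (maximalIdeal A).map (algebraMap A B) = maximalIdeal B)
    (hB : ∀ b : B, ∃ c : L, b - algebraMap L B c ∈ maximalIdeal B) (h : Curv2.IsOrdDoublePt K A) :
    Curv2.IsOrdDoublePt L B := by
  obtain ⟨f, hf⟩ := h
  obtain ⟨x, y, hgen, hxy, hx, hy⟩ := exists_gens_of_equiv f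
  obtain ⟨g, hg, hga⟩ := exists_completion_map A B hm
  have hgen' : Ideal.span {g x, g y} = maximalIdeal (AdicCompletion (maximalIdeal B) B) := by
    rw [← Set.image_pair, ← Ideal.map_span, hgen, AdicCompletion.maximalIdeal_eq_map, Ideal.map_map,
      show g.comp (algebraMap A _) = (algebraMap B _).comp (algebraMap A B) from RingHom.ext hga,
      ← Ideal.map_map, hm, ← AdicCompletion.maximalIdeal_eq_map]
  obtain ⟨e, he⟩ := exists_equiv_of_gens (L := L) (completion_residue L hB) (g x) (g y) hgen'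
    (by rw [← map_mul, hxy, map_zero]) (fun hn => hx ((IsNilpotent.map_iff hg).1 hn))
    (fun hn => hy ((IsNilpotent.map_iff hg).1 hn))
  exact ⟨e, fun c => by rw [← IsScalarTower.algebraMap_apply, he]⟩

theorem exists_relation_of_flat (hm : (maximalIdeal A).map (algebraMap A B) = maximalIdeal B) {r : ℕ}
    (z : Fin r → A) (J : Ideal A) (b : Fin r → B) (hb : ∃ i, b i ∉ maximalIdeal B)
    (h : ∑ i, b i * algebraMap A B (z i) ∈ J.map (algebraMap A B)) :
    ∃ a : Fin r → A, (∃ i, a i ∉ maximalIdeal A) ∧ ∑ i, a i * z i ∈ J := by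
  obtain ⟨t, s, rfl⟩ := Submodule.fg_iff_exists_fin_generating_family.1 (IsNoetherian.noetherian J)
  rw [← Ideal.span, Ideal.map_span, ← Set.range_comp, Ideal.mem_span_range_iff_exists_fun] at h
  obtain ⟨b', hb'⟩ := h
  have hrel : ∑ l, Sum.elim z (fun i => -s i) l • Sum.elim b b' l = 0 := by
    rw [Fintype.sum_sum_type]
    simp only [Sum.elim_inl, Sum.elim_inr, Algebra.smul_def, map_neg, neg_mul, Finset.sum_neg_distrib]
    rw [← sub_eq_add_neg, sub_eq_zero]
    simp only [Function.comp_apply] at hb'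
    simp only [mul_comm (b _)] at hb'
    simp only [mul_comm (b' _)] at hb'
    exact hb'.symm
  obtain ⟨k, a, y, hy, ha⟩ := Module.Flat.isTrivialRelation_of_sum_smul_eq_zero (R := A) (M := B)
    (f := Sum.elim z fun i => -s i) (x := Sum.elim b b') hrel
  obtain ⟨i, hi⟩ := hb
  obtain ⟨j, hj⟩ : ∃ j, a (Sum.inl i) j ∉ maximalIdeal A := by
    by_contra hcon
    push Not at hcon
    refine hi ?_
    rw [show b i = _ from hy (Sum.inl i)]
    refine Ideal.sum_mem _ fun j _ => ?_
    rw [Algebra.smul_def, ← hm]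
    exact Ideal.mul_mem_right _ _ (Ideal.mem_map_of_mem _ (hcon j))
  refine ⟨fun i => a (Sum.inl i) j, ⟨i, hj⟩, ?_⟩
  have h0 := ha j
  rw [Fintype.sum_sum_type] at h0
  simp only [Sum.elim_inl, Sum.elim_inr, neg_mul, Finset.sum_neg_distrib, ← sub_eq_add_neg, sub_eq_zero] at h0
  simp only [mul_comm (a _ j)]
  rw [h0]
  exact Ideal.sum_mem _ fun i _ => Ideal.mul_mem_right _ _ (Submodule.subset_span ⟨i, rfl⟩)

/-- The linear coefficient on the branch `i`. -/
def lin (i : Fin 2) (z : R2 L) : L := PowerSeries.coeff 1 (branch L i z)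

theorem lin_add (i : Fin 2) (z w : R2 L) : lin i (z + w) = lin i z + lin i w := by simp [lin]

theorem lin_sub (i : Fin 2) (z w : R2 L) : lin i (z - w) = lin i z - lin i w := by simp [lin]

theorem lin_C_mul (i : Fin 2) (c : L) (z : R2 L) :
    lin i (Ideal.Quotient.mk _ (MvPowerSeries.C c) * z) = c * lin i z := by
  simp [lin, branch_C]

theorem lin_mul (i : Fin 2) (r : R2 L) {z : R2 L} (hz : z ∈ R2max L) :
    lin i (r * z) = PowerSeries.constantCoeff (branch L 0 r) * lin i z := by
  obtain ⟨w, hw⟩ := (mem_R2max_iff z i).1 hz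
  have hr : PowerSeries.constantCoeff (branch L 0 r) = PowerSeries.constantCoeff (branch L i r) := by
    obtain ⟨f, rfl⟩ := Ideal.Quotient.mk_surjective r
    rw [branch_mk, branch_mk, constantCoeff_q, constantCoeff_q]
  rw [hr, lin, lin, map_mul, hw, mul_left_comm, PowerSeries.coeff_succ_X_mul, PowerSeries.coeff_succ_X_mul,
    PowerSeries.coeff_zero_eq_constantCoeff_apply, PowerSeries.coeff_zero_eq_constantCoeff_apply, map_mul]

theorem lin_mul_lin_eq_zero {z w : R2 L} (hz : z ∈ R2max L) (hw : w ∈ R2max L) (h : z * w ∈ R2max L ^ 3) (i : Fin 2) :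
    lin i z * lin i w = 0 := by
  obtain ⟨p, hp⟩ := (mem_R2max_iff z i).1 hz
  obtain ⟨p', hp'⟩ := (mem_R2max_iff w i).1 hw
  have h3 := (R2max_pow_iff (Ideal.mul_mem_left _ _ hw) 2).1 h i
  rw [map_mul, hp, hp', show PowerSeries.X * p * (PowerSeries.X * p') = PowerSeries.X ^ 2 * (p * p') by ring,
    pow_succ, mul_dvd_mul_iff_left (pow_ne_zero 2 PowerSeries.X_ne_zero), PowerSeries.X_dvd_iff, map_mul] at h3
  simpa [lin, hp, hp', PowerSeries.coeff_succ_X_mul, PowerSeries.coeff_zero_eq_constantCoeff_apply] using h3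

theorem mem_sq_of_lin {z : R2 L} (hz : z ∈ R2max L) (h : ∀ i, lin i z = 0) : z ∈ R2max L ^ 2 := by
  rw [R2max_pow_iff hz 1]
  intro i
  rw [PowerSeries.X_pow_dvd_iff]
  intro n hn
  obtain rfl | rfl : n = 0 ∨ n = 1 := by omega
  · rw [PowerSeries.coeff_zero_eq_constantCoeff_apply, ← PowerSeries.X_dvd_iff]
    exact (mem_R2max_iff z i).1 hz
  · exact h i

theorem exists_relation_gens (hm : (maximalIdeal A).map (algebraMap A B) = maximalIdeal B)
    (ψB : B →+* R2 L) (hψBmax : (maximalIdeal B).map ψB = R2max L)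
    (hsep : ∀ (b : B) (k : ℕ), ψB b ∈ R2max L ^ k → b ∈ maximalIdeal B ^ k)
    (hψC : ∀ c : L, ψB (algebraMap L B c) = Ideal.Quotient.mk _ (MvPowerSeries.C c)) :
    ∃ u ∈ maximalIdeal A, ∃ v ∈ maximalIdeal A, Ideal.span {u, v} = maximalIdeal A ∧
      lin 0 (ψB (algebraMap A B u)) * lin 1 (ψB (algebraMap A B v)) -
        lin 1 (ψB (algebraMap A B u)) * lin 0 (ψB (algebraMap A B v)) ≠ 0 ∧
      ∃ a : Fin 3 → A, (∃ i, a i ∉ maximalIdeal A) ∧
        ∑ i, a i * ![u * u, u * v, v * v] i ∈ maximalIdeal A ^ 3 := by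
  classical
  haveI : Module.FaithfullyFlat A B := Module.FaithfullyFlat.of_flat_of_isLocalHom
  let ψ : A →+* R2 L := ψB.comp (algebraMap A B)
  have hψmax : (maximalIdeal A).map ψ = R2max L := by rw [← Ideal.map_map, hm, hψBmax]
  have hψB : ∀ b ∈ maximalIdeal B, ψB b ∈ R2max L := fun b hb => hψBmax ▸ Ideal.mem_map_of_mem _ hb
  have hψA : ∀ a ∈ maximalIdeal A, ψ a ∈ R2max L := fun a ha => hψmax ▸ Ideal.mem_map_of_mem _ ha
  -- two elements with independent linear parts generate
  have gen : ∀ x ∈ maximalIdeal A, ∀ y ∈ maximalIdeal A,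
      lin 0 (ψ x) * lin 1 (ψ y) - lin 1 (ψ x) * lin 0 (ψ y) ≠ 0 → Ideal.span {x, y} = maximalIdeal A := by
    intro x hx y hy hdet
    have hle : Ideal.span {x, y} ≤ maximalIdeal A := by
      rw [Ideal.span_le]; rintro _ (rfl | rfl) <;> assumption
    rw [← Ideal.comap_map_eq_self_of_faithfullyFlat (B := B) (Ideal.span {x, y}),
      ← Ideal.comap_map_eq_self_of_faithfullyFlat (B := B) (maximalIdeal A)]
    congr 1
    refine le_antisymm (Ideal.map_mono hle) ?_
    rw [hm]
    refine Submodule.le_of_le_smul_of_le_jacobson_bot (IsNoetherian.noetherian _) (maximalIdeal_le_jacobson _) ?_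
    intro b hb
    set D := lin 0 (ψ x) * lin 1 (ψ y) - lin 1 (ψ x) * lin 0 (ψ y) with hD
    let c := (lin 0 (ψB b) * lin 1 (ψ y) - lin 1 (ψB b) * lin 0 (ψ y)) / D
    let d := (lin 0 (ψ x) * lin 1 (ψB b) - lin 1 (ψ x) * lin 0 (ψB b)) / D
    let w := algebraMap L B c * algebraMap A B x + algebraMap L B d * algebraMap A B y
    have hw : w ∈ (Ideal.span {x, y}).map (algebraMap A B) :=
      add_mem (Ideal.mul_mem_left _ _ (Ideal.mem_map_of_mem _ (Ideal.subset_span (Or.inl rfl))))
        (Ideal.mul_mem_left _ _ (Ideal.mem_map_of_mem _ (Ideal.subset_span (Or.inr rfl))))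
    have hwn : w ∈ maximalIdeal B := hm ▸ Ideal.map_mono hle hw
    have hl : ∀ i, lin i (ψB (b - w)) = 0 := fun i => by
      have e1 : lin i (ψB (b - w)) = lin i (ψB b) - (c * lin i (ψ x) + d * lin i (ψ y)) := by
        simp only [w, map_sub, map_add, map_mul, lin_sub, lin_add, hψC, lin_C_mul]
        rfl
      have hcD : c * D = lin 0 (ψB b) * lin 1 (ψ y) - lin 1 (ψB b) * lin 0 (ψ y) := div_mul_cancel₀ _ hdet
      have hdD : d * D = lin 0 (ψ x) * lin 1 (ψB b) - lin 1 (ψ x) * lin 0 (ψB b) := div_mul_cancel₀ _ hdet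
      refine (mul_eq_zero.1 ?_).resolve_right hdet
      rw [e1, sub_mul, add_mul, mul_right_comm, hcD, mul_right_comm d, hdD, hD]
      obtain rfl | rfl : i = 0 ∨ i = 1 := by omega
      · ring
      · ring
    rw [show b = w + (b - w) by ring, smul_eq_mul, ← pow_two]
    exact Submodule.add_mem_sup hw (hsep _ 2 (mem_sq_of_lin (hψB _ (sub_mem hb hwn)) hl))
  -- some pair of elements has independent linear parts
  have nz : ∀ a b : L, (∀ u ∈ maximalIdeal A, a * lin 0 (ψ u) + b * lin 1 (ψ u) = 0) → a = 0 ∧ b = 0 := by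
    intro a b hab
    have key : ∀ z ∈ R2max L, a * lin 0 z + b * lin 1 z = 0 := by
      intro z hz
      rw [← hψmax, Ideal.map] at hz
      induction hz using Submodule.span_induction with
      | mem z hz => obtain ⟨u, hu, rfl⟩ := hz; exact hab u hu
      | zero => simp [lin]
      | add z w _ _ hz hw => rw [lin_add, lin_add]; linear_combination hz + hw
      | smul r z hz hz' =>
        have hzm : z ∈ R2max L := by rw [← hψmax]; exact hz
        rw [smul_eq_mul, lin_mul 0 r hzm, lin_mul 1 r hzm]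
        linear_combination (PowerSeries.constantCoeff (branch L 0 r)) * hz'
    have h0 := key _ (Ideal.subset_span (Or.inl rfl) : Ideal.Quotient.mk _ (MvPowerSeries.X 0) ∈ R2max L)
    have h1 := key _ (Ideal.subset_span (Or.inr rfl) : Ideal.Quotient.mk _ (MvPowerSeries.X 1) ∈ R2max L)
    simp only [lin, branch_mk, Groth.L14.Node.q_X_self, q_X_zero, q_X_one, map_zero, PowerSeries.coeff_one_X] at h0 h1
    simp only [mul_one, mul_zero, zero_add, add_zero] at h0 h1
    exact ⟨h1, h0⟩
  obtain ⟨u, hu, hu0⟩ : ∃ u ∈ maximalIdeal A, lin 0 (ψ u) ≠ 0 := by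
    by_contra hcon
    push Not at hcon
    exact one_ne_zero (nz 1 0 fun u hu => by rw [hcon u hu]; ring).1
  obtain ⟨v, hv, huv⟩ : ∃ v ∈ maximalIdeal A, lin 0 (ψ u) * lin 1 (ψ v) - lin 1 (ψ u) * lin 0 (ψ v) ≠ 0 := by
    by_contra hcon
    push Not at hcon
    exact hu0 (nz (-lin 1 (ψ u)) (lin 0 (ψ u)) fun w hw => by linear_combination hcon w hw).2
  -- a quadratic relation modulo the cube of the maximal ideal
  let z : Fin 3 → A := ![u * u, u * v, v * v]
  have hz2 : ∀ i, z i ∈ maximalIdeal A ^ 2 := fun i => by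
    rw [pow_two]; fin_cases i <;> exact Ideal.mul_mem_mul ‹_› ‹_›
  obtain ⟨a, ⟨i₀, hi₀⟩, ha⟩ : ∃ a : Fin 3 → A, (∃ i, a i ∉ maximalIdeal A) ∧
      ∑ i, a i * z i ∈ maximalIdeal A ^ 3 := by
    let w : Fin 3 → L × L := fun i =>
      (PowerSeries.coeff 2 (branch L 0 (ψ (z i))), PowerSeries.coeff 2 (branch L 1 (ψ (z i))))
    have hli : ¬ LinearIndependent L w := fun hli => by
      have := hli.fintype_card_le_finrank
      rw [Module.finrank_prod, Module.finrank_self, Fintype.card_fin] at this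
      omega
    obtain ⟨c, hcz, i₁, hi₁⟩ := Fintype.not_linearIndependent_iff.1 hli
    refine exists_relation_of_flat hm z _ (fun i => algebraMap L B (c i))
      ⟨i₁, fun hmem => (mem_maximalIdeal _).1 hmem ((IsUnit.mk0 _ hi₁).map _)⟩ ?_
    rw [Ideal.map_pow, hm]
    have hs2 : ψB (∑ i, algebraMap L B (c i) * algebraMap A B (z i)) ∈ R2max L ^ 2 := by
      rw [map_sum]
      refine Ideal.sum_mem _ fun i _ => ?_
      rw [map_mul]
      refine Ideal.mul_mem_left _ _ ?_
      rw [← hψmax, ← Ideal.map_pow]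
      exact Ideal.mem_map_of_mem ψ (hz2 i)
    refine hsep _ 3 ((R2max_pow_iff (Ideal.pow_le_self two_ne_zero hs2) 2).2 fun j => ?_)
    rw [PowerSeries.X_pow_dvd_iff]
    intro n hn
    obtain hn | rfl : n < 2 ∨ n = 2 := by omega
    · exact PowerSeries.X_pow_dvd_iff.1 ((R2max_pow_iff (Ideal.pow_le_self two_ne_zero hs2) 1).1 hs2 j) n hn
    · simp only [map_sum, map_mul, hψC, branch_C, PowerSeries.coeff_C_mul]
      have hj := congrArg Prod.fst hcz
      have hj' := congrArg Prod.snd hcz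
      simp only [w, Prod.smul_mk, smul_eq_mul, Prod.fst_sum, Prod.snd_sum, Prod.fst_zero, Prod.snd_zero] at hj hj'
      fin_cases j
      · exact hj
      · exact hj'
  exact ⟨u, hu, v, hv, gen u hu v hv huv, huv, a, ⟨i₀, hi₀⟩, ha⟩

theorem exists_approx_branches [IsAlgClosed K] (hm : (maximalIdeal A).map (algebraMap A B) = maximalIdeal B)
    (hA : ∀ a : A, ∃ c : K, a - algebraMap K A c ∈ maximalIdeal A) (ψB : B →+* R2 L)
    (hψBmax : (maximalIdeal B).map ψB = R2max L)
    (hsep : ∀ (b : B) (k : ℕ), ψB b ∈ R2max L ^ k → b ∈ maximalIdeal B ^ k)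
    (hψC : ∀ c : L, ψB (algebraMap L B c) = Ideal.Quotient.mk _ (MvPowerSeries.C c))
    (hc : ∀ c : K, algebraMap A B (algebraMap K A c) = algebraMap L B (algebraMap K L c)) :
    ∃ x y : A, Ideal.span {x, y} = maximalIdeal A ∧ x * y ∈ maximalIdeal A ^ 3 := by
  classical
  haveI : Module.FaithfullyFlat A B := Module.FaithfullyFlat.of_flat_of_isLocalHom
  let ψ : A →+* R2 L := ψB.comp (algebraMap A B)
  have hψmax : (maximalIdeal A).map ψ = R2max L := by rw [← Ideal.map_map, hm, hψBmax]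
  have hψB : ∀ b ∈ maximalIdeal B, ψB b ∈ R2max L := fun b hb => hψBmax ▸ Ideal.mem_map_of_mem _ hb
  have hψA : ∀ a ∈ maximalIdeal A, ψ a ∈ R2max L := fun a ha => hψmax ▸ Ideal.mem_map_of_mem _ ha
  have hψK : ∀ c : K, ψ (algebraMap K A c) = Ideal.Quotient.mk _ (MvPowerSeries.C (algebraMap K L c)) := fun c => by
    rw [show ψ (algebraMap K A c) = ψB (algebraMap A B (algebraMap K A c)) from rfl, hc, hψC]
  -- two elements with independent linear parts generate
  have gen : ∀ x ∈ maximalIdeal A, ∀ y ∈ maximalIdeal A,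
      lin 0 (ψ x) * lin 1 (ψ y) - lin 1 (ψ x) * lin 0 (ψ y) ≠ 0 → Ideal.span {x, y} = maximalIdeal A := by
    intro x hx y hy hdet
    have hle : Ideal.span {x, y} ≤ maximalIdeal A := by
      rw [Ideal.span_le]; rintro _ (rfl | rfl) <;> assumption
    rw [← Ideal.comap_map_eq_self_of_faithfullyFlat (B := B) (Ideal.span {x, y}),
      ← Ideal.comap_map_eq_self_of_faithfullyFlat (B := B) (maximalIdeal A)]
    congr 1
    refine le_antisymm (Ideal.map_mono hle) ?_
    rw [hm]
    refine Submodule.le_of_le_smul_of_le_jacobson_bot (IsNoetherian.noetherian _) (maximalIdeal_le_jacobson _) ?_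
    intro b hb
    set D := lin 0 (ψ x) * lin 1 (ψ y) - lin 1 (ψ x) * lin 0 (ψ y) with hD
    let c := (lin 0 (ψB b) * lin 1 (ψ y) - lin 1 (ψB b) * lin 0 (ψ y)) / D
    let d := (lin 0 (ψ x) * lin 1 (ψB b) - lin 1 (ψ x) * lin 0 (ψB b)) / D
    let w := algebraMap L B c * algebraMap A B x + algebraMap L B d * algebraMap A B y
    have hw : w ∈ (Ideal.span {x, y}).map (algebraMap A B) :=
      add_mem (Ideal.mul_mem_left _ _ (Ideal.mem_map_of_mem _ (Ideal.subset_span (Or.inl rfl))))
        (Ideal.mul_mem_left _ _ (Ideal.mem_map_of_mem _ (Ideal.subset_span (Or.inr rfl))))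
    have hwn : w ∈ maximalIdeal B := hm ▸ Ideal.map_mono hle hw
    have hl : ∀ i, lin i (ψB (b - w)) = 0 := fun i => by
      have e1 : lin i (ψB (b - w)) = lin i (ψB b) - (c * lin i (ψ x) + d * lin i (ψ y)) := by
        simp only [w, map_sub, map_add, map_mul, lin_sub, lin_add, hψC, lin_C_mul]
        rfl
      have hcD : c * D = lin 0 (ψB b) * lin 1 (ψ y) - lin 1 (ψB b) * lin 0 (ψ y) := div_mul_cancel₀ _ hdet
      have hdD : d * D = lin 0 (ψ x) * lin 1 (ψB b) - lin 1 (ψ x) * lin 0 (ψB b) := div_mul_cancel₀ _ hdet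
      refine (mul_eq_zero.1 ?_).resolve_right hdet
      rw [e1, sub_mul, add_mul, mul_right_comm, hcD, mul_right_comm d, hdD, hD]
      obtain rfl | rfl : i = 0 ∨ i = 1 := by omega
      · ring
      · ring
    rw [show b = w + (b - w) by ring, smul_eq_mul, ← pow_two]
    exact Submodule.add_mem_sup hw (hsep _ 2 (mem_sq_of_lin (hψB _ (sub_mem hb hwn)) hl))
  obtain ⟨u, hu, v, hv, -, huv, a, ⟨i₀, hi₀⟩, ha⟩ := exists_relation_gens hm ψB hψBmax hsep hψC
  let z : Fin 3 → A := ![u * u, u * v, v * v]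
  have hz2 : ∀ i, z i ∈ maximalIdeal A ^ 2 := fun i => by
    rw [pow_two]; fin_cases i <;> exact Ideal.mul_mem_mul ‹_› ‹_›
  replace ha : ∑ i, a i * z i ∈ maximalIdeal A ^ 3 := ha
  choose c hcA using fun i => hA (a i)
  have hc0 : c i₀ ≠ 0 := fun h0 => hi₀ (by simpa [h0] using hcA i₀)
  have hq : algebraMap K A (c 0) * (u * u) + algebraMap K A (c 1) * (u * v) + algebraMap K A (c 2) * (v * v) ∈
      maximalIdeal A ^ 3 := by
    have h1 : ∑ i, (a i - algebraMap K A (c i)) * z i ∈ maximalIdeal A ^ 3 := Ideal.sum_mem _ fun i _ => by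
      rw [pow_succ']; exact Ideal.mul_mem_mul (hcA i) (hz2 i)
    have h2 := sub_mem ha h1
    rw [← Finset.sum_sub_distrib, Fin.sum_univ_three] at h2
    simp only [← sub_mul, sub_sub_cancel] at h2
    exact h2
  -- split the quadratic form
  obtain ⟨p, q, p', q', hpq, hpq', h00, h01, h11⟩ : ∃ p q p' q' : K, (p ≠ 0 ∨ q ≠ 0) ∧ (p' ≠ 0 ∨ q' ≠ 0) ∧
      p * p' = c 0 ∧ p * q' + q * p' = c 1 ∧ q * q' = c 2 := by
    by_cases ha0 : c 0 = 0
    · refine ⟨0, 1, c 1, c 2, Or.inr one_ne_zero, ?_, by simp [ha0], by simp, by simp⟩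
      by_contra hcon
      push Not at hcon
      fin_cases i₀
      · exact hc0 ha0
      · exact hc0 hcon.1
      · exact hc0 hcon.2
    · obtain ⟨r, hr⟩ := IsAlgClosed.exists_root
        (Polynomial.C (c 0) * Polynomial.X ^ 2 + Polynomial.C (c 1) * Polynomial.X + Polynomial.C (c 2))
        (by rw [Polynomial.degree_quadratic ha0]; decide)
      simp only [Polynomial.IsRoot, Polynomial.eval_add, Polynomial.eval_mul, Polynomial.eval_C, Polynomial.eval_pow,
        Polynomial.eval_X] at hr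
      exact ⟨1, -r, c 0, c 1 + c 0 * r, Or.inl one_ne_zero, Or.inl ha0, one_mul _, by ring,
        by linear_combination -hr⟩
  let x := algebraMap K A p * u + algebraMap K A q * v
  let y := algebraMap K A p' * u + algebraMap K A q' * v
  have hx : x ∈ maximalIdeal A := add_mem (Ideal.mul_mem_left _ _ hu) (Ideal.mul_mem_left _ _ hv)
  have hy : y ∈ maximalIdeal A := add_mem (Ideal.mul_mem_left _ _ hu) (Ideal.mul_mem_left _ _ hv)
  have hxy : x * y ∈ maximalIdeal A ^ 3 := by
    convert hq using 1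
    simp only [x, y, ← h00, ← h01, ← h11, map_add, map_mul]
    ring
  have hlin : ∀ (p q : K) i, lin i (ψ (algebraMap K A p * u + algebraMap K A q * v)) =
      algebraMap K L p * lin i (ψ u) + algebraMap K L q * lin i (ψ v) := fun p q i => by
    rw [map_add, map_mul, map_mul, lin_add, hψK, hψK, lin_C_mul, lin_C_mul]
  have hne : ∀ p q : K, (p ≠ 0 ∨ q ≠ 0) →
      lin 0 (ψ (algebraMap K A p * u + algebraMap K A q * v)) ≠ 0 ∨
        lin 1 (ψ (algebraMap K A p * u + algebraMap K A q * v)) ≠ 0 := by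
    intro p q hpq
    by_contra hcon
    push Not at hcon
    rw [hlin, hlin] at hcon
    rcases hpq with hp | hq'
    · refine hp ((algebraMap K L).injective ?_)
      rw [map_zero]
      refine (mul_eq_zero.1 ?_).resolve_right huv
      linear_combination lin 1 (ψ v) * hcon.1 - lin 0 (ψ v) * hcon.2
    · refine hq' ((algebraMap K L).injective ?_)
      rw [map_zero]
      refine (mul_eq_zero.1 ?_).resolve_right huv
      linear_combination lin 0 (ψ u) * hcon.2 - lin 1 (ψ u) * hcon.1
  have hmul : ∀ i, lin i (ψ x) * lin i (ψ y) = 0 := fun i =>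
    lin_mul_lin_eq_zero (hψA x hx) (hψA y hy)
      (by rw [← map_mul, ← hψmax, ← Ideal.map_pow]; exact Ideal.mem_map_of_mem ψ hxy) i
  have hdet : lin 0 (ψ x) * lin 1 (ψ y) - lin 1 (ψ x) * lin 0 (ψ y) ≠ 0 := by
    rcases hne p q hpq with hx0 | hx1
    · have hy0 : lin 0 (ψ y) = 0 := (mul_eq_zero.1 (hmul 0)).resolve_left hx0
      have hy1 : lin 1 (ψ y) ≠ 0 := (hne p' q' hpq').resolve_left (not_not.2 hy0)
      rw [hy0, mul_zero, sub_zero]
      exact mul_ne_zero hx0 hy1
    · have hy1 : lin 1 (ψ y) = 0 := (mul_eq_zero.1 (hmul 1)).resolve_left hx1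
      have hy0 : lin 0 (ψ y) ≠ 0 := (hne p' q' hpq').resolve_right (not_not.2 hy1)
      rw [hy1, mul_zero, zero_sub, neg_ne_zero]
      exact mul_ne_zero hx1 hy0
  exact ⟨x, y, gen x hx y hy hdet, hxy⟩

/-- An ordinary double point after extending the ground field was one before, over an algebraically closed field. -/
theorem isOrdDoublePt_descend [IsAlgClosed K] (hm : (maximalIdeal A).map (algebraMap A B) = maximalIdeal B)
    (hA : ∀ a : A, ∃ c : K, a - algebraMap K A c ∈ maximalIdeal A)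
    (hc : ∀ c : K, algebraMap A B (algebraMap K A c) = algebraMap L B (algebraMap K L c))
    (h : Curv2.IsOrdDoublePt L B) : Curv2.IsOrdDoublePt K A := by
  obtain ⟨e, he⟩ := h
  obtain ⟨g, hg, hga⟩ := exists_completion_map A B hm
  let eB : AdicCompletion (maximalIdeal B) B →+* R2 L := e.toRingHom
  have heB : (maximalIdeal (AdicCompletion (maximalIdeal B) B)).map eB = R2max L := map_maximalIdeal_equiv e
  let ψB : B →+* R2 L := eB.comp (algebraMap B (AdicCompletion (maximalIdeal B) B))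
  have hψBmax : (maximalIdeal B).map ψB = R2max L := by
    rw [← Ideal.map_map, ← AdicCompletion.maximalIdeal_eq_map, heB]
  have hsep : ∀ (b : B) (k : ℕ), ψB b ∈ R2max L ^ k → b ∈ maximalIdeal B ^ k := by
    intro b k hb
    refine mem_pow_of_algebraMap_mem ?_
    rw [← heB, ← Ideal.map_pow] at hb
    obtain ⟨s, hs, hse⟩ := (Ideal.mem_map_iff_of_surjective eB e.surjective).1 hb
    have : s = algebraMap B (AdicCompletion (maximalIdeal B) B) b := e.injective hse
    exact this ▸ hs
  obtain ⟨x, y, hxygen, hxy⟩ := exists_approx_branches hm hA ψB hψBmax hsep he hc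
  obtain ⟨x', y', hgen', hxy'⟩ := exists_exact_branches (algebraMap A (AdicCompletion (maximalIdeal A) A) x)
    (algebraMap A _ y) (by rw [← Set.image_pair, ← Ideal.map_span, hxygen, AdicCompletion.maximalIdeal_eq_map])
    (by rw [← map_mul, AdicCompletion.maximalIdeal_eq_map, ← Ideal.map_pow]; exact Ideal.mem_map_of_mem _ hxy)
  let Ψ : AdicCompletion (maximalIdeal A) A →+* R2 L := eB.comp g
  have hΨ : Ψ.comp (algebraMap A _) = ψB.comp (algebraMap A B) := RingHom.ext fun a => congrArg eB (hga a)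
  have hspan : Ideal.span {Ψ x', Ψ y'} = R2max L := by
    rw [← Set.image_pair, ← Ideal.map_span, hgen', AdicCompletion.maximalIdeal_eq_map, Ideal.map_map, hΨ,
      ← Ideal.map_map, hm, hψBmax]
  obtain ⟨f, hf⟩ := exists_equiv_of_gens (L := K) (completion_residue K hA) x' y' hgen' hxy'
    (fun hn => not_isNilpotent_of_span hspan (hn.map Ψ))
    (fun hn => not_isNilpotent_of_span (Set.pair_comm (Ψ x') (Ψ y') ▸ hspan) (hn.map Ψ))
  exact ⟨f, fun c => by rw [← IsScalarTower.algebraMap_apply, hf]⟩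

end Groth.L21.Nodal
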