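import Groth.Agent.L21.Nodal.QuadCompletion

/-! A completion cut out by a nondegenerate quadratic form gives an ordinary double point. -/

set_option autoImplicit false
universe u

open IsLocalRing

noncomputable section

namespace Groth.L21.Nodal

theorem exists_approx_mem_sq {A : Type u} [CommRing A] [IsLocalRing A] [IsNoetherianRing A]
    {s : AdicCompletion (maximalIdeal A) A} (hs : s ∈ maximalIdeal (AdicCompletion (maximalIdeal A) A)) :
    ∃ a : A, algebraMap A (AdicCompletion (maximalIdeal A) A) a - s ∈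
      maximalIdeal (AdicCompletion (maximalIdeal A) A) ^ 2 := by
  obtain ⟨c, hc⟩ := AdicCompletion.mk_surjective (maximalIdeal A) A s
  refine ⟨c.1 2, ?_⟩
  rw [← neg_sub]
  refine neg_mem ?_
  rw [AdicCompletion.maximalIdeal_eq_map, ← Ideal.map_pow, ← Submodule.restrictScalars_mem A, ← Ideal.smul_top_eq_map,
    AdicCompletion.pow_smul_top_eq_ker_eval (IsNoetherian.noetherian _), LinearMap.mem_ker, map_sub, sub_eq_zero, ← hc]
  rfl

variable {k κ F A B : Type u} [Field k] [Field κ] [Field F] [Algebra k κ] [Algebra k F]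
  [CommRing A] [CommRing B] [IsLocalRing A] [IsLocalRing B] [IsNoetherianRing A] [IsNoetherianRing B]
  [Algebra k A] [Algebra F B] [Algebra A B] [Module.Flat A B] [IsLocalHom (algebraMap A B)]

theorem isOrdDoublePt_of_completion_quad [IsAlgClosed F] [Algebra.IsSeparable k κ]
    (hm : (maximalIdeal A).map (algebraMap A B) = maximalIdeal B)
    (hc : ∀ t : k, algebraMap A B (algebraMap k A t) = algebraMap F B (algebraMap k F t))
    (hB : ∀ b : B, ∃ c : F, b - algebraMap F B c ∈ maximalIdeal B)
    (a b c : κ) (hD : 4 * a * c - b ^ 2 ≠ 0)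
    (e : AdicCompletion (maximalIdeal A) A ≃+*
          (MvPowerSeries (Fin 2) κ ⧸ Ideal.span {(MvPowerSeries.C a * MvPowerSeries.X 0 ^ 2 +
            MvPowerSeries.C b * MvPowerSeries.X 0 * MvPowerSeries.X 1 +
            MvPowerSeries.C c * MvPowerSeries.X 1 ^ 2 : MvPowerSeries (Fin 2) κ)}))
    (he : ∀ t : k, e (algebraMap A _ (algebraMap k A t)) = Ideal.Quotient.mk _ (MvPowerSeries.C (algebraMap k κ t))) :
    Curv2.IsOrdDoublePt F B := by
  classical
  let S := AdicCompletion (maximalIdeal A) A
  let T := AdicCompletion (maximalIdeal B) B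
  let j : A →+* S := algebraMap A S
  obtain ⟨g, -, hga⟩ := exists_completion_map A B hm
  have hgmax : (maximalIdeal S).map g = maximalIdeal T := by
    rw [AdicCompletion.maximalIdeal_eq_map, AdicCompletion.maximalIdeal_eq_map, Ideal.map_map,
      show g.comp (algebraMap A S) = (algebraMap B T).comp (algebraMap A B) from RingHom.ext hga, ← Ideal.map_map, hm]
  have hgm : ∀ (n : ℕ) (s : S), s ∈ maximalIdeal S ^ n → g s ∈ maximalIdeal T ^ n := fun n s hs => by
    rw [← hgmax, ← Ideal.map_pow]; exact Ideal.mem_map_of_mem g hs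
  -- the residue field of the completion upstairs
  have hres : Function.Bijective ((residue T).comp (algebraMap F T)) := by
    refine ⟨RingHom.injective _, fun z => ?_⟩
    obtain ⟨s, rfl⟩ := residue_surjective z
    obtain ⟨x, hx⟩ := completion_residue F hB s
    refine ⟨x, ?_⟩
    rw [← residue_eq_zero_iff, map_sub, sub_eq_zero] at hx
    exact hx.symm
  let ρ : F ≃+* ResidueField T := RingEquiv.ofBijective _ hres
  -- the coefficient field downstairs
  let π : MvPowerSeries (Fin 2) κ →+* S := e.symm.toRingHom.comp (Ideal.Quotient.mk _)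
  have hπsurj : Function.Surjective π := e.symm.surjective.comp Ideal.Quotient.mk_surjective
  let ι : κ →ₐ[k] S := { π.comp MvPowerSeries.C with
    commutes' := fun t => by
      change e.symm (Ideal.Quotient.mk _ (MvPowerSeries.C (algebraMap k κ t))) = _
      rw [← he, RingEquiv.symm_apply_apply, ← IsScalarTower.algebraMap_apply] }
  letI : Algebra k T := ((algebraMap F T).comp (algebraMap k F)).toAlgebra
  let σ : κ →+* F := ρ.symm.toRingHom.comp ((residue T).comp (g.comp ι.toRingHom))
  have hgk : ∀ t : k, g (ι (algebraMap k κ t)) = algebraMap k T t := fun t => by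
    rw [AlgHom.commutes, IsScalarTower.algebraMap_apply k A S, hga, hc, ← IsScalarTower.algebraMap_apply]
    rfl
  have hσk : ∀ t, σ (algebraMap k κ t) = algebraMap k F t := fun t => by
    change ρ.symm (residue T (g (ι (algebraMap k κ t)))) = _
    rw [hgk, RingEquiv.symm_apply_eq]
    rfl
  let f₁ : κ →ₐ[k] T := { g.comp ι.toRingHom with commutes' := hgk }
  let f₂ : κ →ₐ[k] T := { (algebraMap F T).comp σ with
    commutes' := fun t => congrArg (algebraMap F T) (hσk t) }
  have hf : f₁ = f₂ := eq_of_separable f₁ f₂ fun x => by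
    rw [← residue_eq_zero_iff, map_sub, sub_eq_zero]
    exact (ρ.apply_symm_apply _).symm
  have hgι : ∀ x : κ, g (ι x) = algebraMap F T (σ x) := fun x => DFunLike.congr_fun hf x
  -- the generators
  let x₀ := π (MvPowerSeries.X 0)
  let y₀ := π (MvPowerSeries.X 1)
  have hgen₀ : Ideal.span {x₀, y₀} = maximalIdeal S := by
    rw [← IsLocalRing.map_maximalIdeal_of_surjective π hπsurj, ← span_X_eq_maximalIdeal, Ideal.map_span, Set.image_pair]
  have hq₀ : qf (ι a) (ι b) (ι c) x₀ y₀ = 0 := by
    change qf (π (MvPowerSeries.C a)) (π (MvPowerSeries.C b)) (π (MvPowerSeries.C c)) (π _) (π _) = 0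
    rw [← map_qf]
    change e.symm (Ideal.Quotient.mk _ (qf _ _ _ _ _)) = 0
    rw [Ideal.Quotient.eq_zero_iff_mem.2, map_zero]
    rw [qf, ← mul_assoc]
    exact Ideal.mem_span_singleton_self _
  obtain ⟨a', b', c', α, β, γ, δ, ha', hdisc', hαδ, hT⟩ := exists_normal_form.{u} a b c hD
  let d := α * δ - β * γ
  let x := ι (δ / d) * x₀ - ι (β / d) * y₀
  let y := ι (α / d) * y₀ - ι (γ / d) * x₀
  have hxu : ι α * x + ι β * y = x₀ := by
    have h1 : ι α * ι (δ / d) - ι β * ι (γ / d) = 1 := by
      rw [← map_mul, ← map_mul, ← map_sub, ← map_one ι, mul_div_assoc', mul_div_assoc', ← sub_div, div_self hαδ]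
    have h2 : ι β * ι (α / d) = ι α * ι (β / d) := by rw [← map_mul, ← map_mul]; congr 1; ring
    linear_combination x₀ * h1 + y₀ * h2
  have hyv : ι γ * x + ι δ * y = y₀ := by
    have h1 : ι δ * ι (α / d) - ι γ * ι (β / d) = 1 := by
      rw [← map_mul, ← map_mul, ← map_sub, ← map_one ι, mul_div_assoc', mul_div_assoc', ← sub_div, mul_comm δ α,
        mul_comm γ β, div_self hαδ]
    have h2 : ι γ * ι (δ / d) = ι δ * ι (γ / d) := by rw [← map_mul, ← map_mul]; congr 1; ring
    linear_combination y₀ * h1 + x₀ * h2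
  have hx₀ : x₀ ∈ maximalIdeal S := hgen₀ ▸ Ideal.subset_span (Or.inl rfl)
  have hy₀ : y₀ ∈ maximalIdeal S := hgen₀ ▸ Ideal.subset_span (Or.inr rfl)
  have hgen : Ideal.span {x, y} = maximalIdeal S := by
    refine le_antisymm ?_ ?_
    · rw [Ideal.span_le]
      rintro _ (rfl | rfl) <;> exact sub_mem (Ideal.mul_mem_left _ _ ‹_›) (Ideal.mul_mem_left _ _ ‹_›)
    · rw [← hgen₀, Ideal.span_le]
      rintro _ (rfl | rfl)
      · exact Ideal.mem_span_pair.2 ⟨_, _, hxu⟩
      · exact Ideal.mem_span_pair.2 ⟨_, _, hyv⟩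
  have hx : x ∈ maximalIdeal S := hgen ▸ Ideal.subset_span (Or.inl rfl)
  have hy : y ∈ maximalIdeal S := hgen ▸ Ideal.subset_span (Or.inr rfl)
  have hq : qf (ι a') (ι b') (ι c') x y = 0 := by
    have h1 := hT S ι.toRingHom x y
    simp only [AlgHom.toRingHom_eq_coe, RingHom.coe_coe] at h1
    rw [← h1, hxu, hyv, hq₀]
  -- the roots
  have hA' : σ a' ≠ 0 := (map_ne_zero σ).2 ha'
  obtain ⟨r₁, hr₁⟩ := IsAlgClosed.exists_root
    (Polynomial.C (σ a') * Polynomial.X ^ 2 + Polynomial.C (σ b') * Polynomial.X + Polynomial.C (σ c'))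
    (by rw [Polynomial.degree_quadratic hA']; decide)
  simp only [Polynomial.IsRoot, Polynomial.eval_add, Polynomial.eval_mul, Polynomial.eval_C, Polynomial.eval_pow,
    Polynomial.eval_X] at hr₁
  let r₂ := -σ b' / σ a' - r₁
  have hsum : σ a' * (r₁ + r₂) = -σ b' := by simp only [r₂]; field_simp; ring
  have hprod : σ a' * (r₁ * r₂) = σ c' := by linear_combination r₁ * hsum - hr₁
  have hr₂ : σ a' * r₂ ^ 2 + σ b' * r₂ + σ c' = 0 := by linear_combination r₂ * hsum - hprod
  have hr12 : r₁ ≠ r₂ := fun heq => by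
    refine (map_ne_zero σ).2 hdisc' ?_
    rw [← heq] at hsum hprod
    simp only [map_sub, map_mul, map_pow, map_ofNat]
    linear_combination (-4 * σ a') * hprod + (σ a' * (r₁ + r₁) - σ b') * (hsum)
  -- the branches
  let X : F → T := fun r => g x - algebraMap F T r * g y
  have hXY : X r₁ * X r₂ = 0 := by
    refine (IsUnit.mul_right_eq_zero (a := algebraMap F T (σ a')) ((IsUnit.mk0 _ hA').map _)).1 ?_
    have h1 := congrArg g hq
    rw [map_qf, map_zero, hgι, hgι, hgι, qf, ← hprod, show σ b' = -(σ a' * (r₁ + r₂)) by rw [hsum, neg_neg]] at h1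
    simp only [map_mul, map_add, map_neg] at h1
    simp only [X]
    linear_combination h1
  letI : Algebra κ F := σ.toAlgebra
  have notNil : ∀ r r' : F, r ≠ r' → σ a' * r ^ 2 + σ b' * r + σ c' = 0 → σ a' * r' ^ 2 + σ b' * r' + σ c' = 0 →
      X r * X r' = 0 → ¬ IsNilpotent (X r) := by
    rintro r r' hrr hroot hroot' h0 ⟨N, hN⟩
    have hXN : X r * g y ^ N = 0 := by
      have h1 : ∀ n : ℕ, X r * (X r' - X r) ^ n = (-1) ^ n * X r ^ (n + 1) := by
        intro n
        induction n with
        | zero => simp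
        | succ n ih =>
          rw [pow_succ' (X r' - X r), ← mul_assoc, mul_sub, h0, zero_sub, neg_mul, mul_assoc, ih]
          ring
      have h2 := h1 N
      rw [pow_succ, hN, zero_mul, mul_zero, show X r' - X r = algebraMap F T (r - r') * g y by
        simp only [X, map_sub]; ring, mul_pow, mul_left_comm] at h2
      exact (IsUnit.mul_right_eq_zero (((IsUnit.mk0 _ (sub_ne_zero.2 hrr)).map _).pow N)).1 h2
    obtain ⟨u, hu⟩ := exists_approx_mem_sq hx
    obtain ⟨v, hv⟩ := exists_approx_mem_sq hy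
    have h2m : maximalIdeal S ^ 2 ≤ maximalIdeal S := Ideal.pow_le_self two_ne_zero
    have hju : j u ∈ maximalIdeal S := by
      rw [show j u = (j u - x) + x by ring]; exact add_mem (h2m hu) hx
    have hjv : j v ∈ maximalIdeal S := by
      rw [show j v = (j v - y) + y by ring]; exact add_mem (h2m hv) hy
    have hpow : ∀ n : ℕ, j v ^ n - y ^ n ∈ maximalIdeal S ^ (n + 1) := by
      intro n
      induction n with
      | zero => simp
      | succ n ih =>
        rw [show j v ^ (n + 1) - y ^ (n + 1) = (j v - y) * j v ^ n + y * (j v ^ n - y ^ n) by ring]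
        refine add_mem ?_ ?_
        · rw [show n + 1 + 1 = 2 + n by omega, pow_add]
          exact Ideal.mul_mem_mul hv (Ideal.pow_mem_pow hjv n)
        · rw [pow_succ' (maximalIdeal S)]
          exact Ideal.mul_mem_mul hy ih
    have hd1 : j (u * v ^ N) - x * y ^ N ∈ maximalIdeal S ^ (N + 2) := by
      rw [map_mul, map_pow, show j u * j v ^ N - x * y ^ N = (j u - x) * j v ^ N + x * (j v ^ N - y ^ N) by ring]
      refine add_mem ?_ ?_
      · rw [show N + 2 = 2 + N by omega, pow_add]
        exact Ideal.mul_mem_mul hu (Ideal.pow_mem_pow hjv N)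
      · rw [pow_succ' (maximalIdeal S)]
        exact Ideal.mul_mem_mul hx (hpow N)
    have hd2 : j (v ^ (N + 1)) - y ^ (N + 1) ∈ maximalIdeal S ^ (N + 2) := by
      rw [map_pow]; exact hpow (N + 1)
    obtain ⟨w, ⟨i, hwi⟩, hw⟩ := exists_relation_of_flat hm ![u * v ^ N, v ^ (N + 1)] (maximalIdeal A ^ (N + 2))
      ![1, algebraMap F B (-r)] ⟨0, fun h => (maximalIdeal.isMaximal B).ne_top ((Ideal.eq_top_iff_one _).2 h)⟩ (by
      rw [Ideal.map_pow, hm]
      refine mem_pow_of_algebraMap_mem ?_
      simp only [Fin.sum_univ_two, Matrix.cons_val_zero, Matrix.cons_val_one, map_add, map_mul, map_one, one_mul]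
      rw [← IsScalarTower.algebraMap_apply F B T, map_neg, ← map_mul (algebraMap B T), ← map_mul (algebraMap A B),
        ← hga, ← hga,
        show g (algebraMap A S (u * v ^ N)) + -algebraMap F T r * g (algebraMap A S (v ^ (N + 1))) =
          g (j (u * v ^ N) - x * y ^ N) - algebraMap F T r * g (j (v ^ (N + 1)) - y ^ (N + 1)) + X r * g y ^ N by
          simp only [X, j, map_sub, map_mul, map_pow]; ring,
        hXN, add_zero]
      exact sub_mem (hgm _ _ hd1) (Ideal.mul_mem_left _ _ (hgm _ _ hd2)))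
    have hS : j (w 0) * (x * y ^ N) + j (w 1) * y ^ (N + 1) ∈ maximalIdeal S ^ (N + 2) := by
      have h1 : j (∑ i, w i * ![u * v ^ N, v ^ (N + 1)] i) ∈ maximalIdeal S ^ (N + 2) := by
        rw [AdicCompletion.maximalIdeal_eq_map, ← Ideal.map_pow]; exact Ideal.mem_map_of_mem _ hw
      simp only [Fin.sum_univ_two, Matrix.cons_val_zero, Matrix.cons_val_one, map_add, map_mul j (w _)] at h1
      have h2 := sub_mem h1 (add_mem (Ideal.mul_mem_left _ (j (w 0)) hd1) (Ideal.mul_mem_left _ (j (w 1)) hd2))
      convert h2 using 1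
      ring
    have hcoef : ∀ s : S, ∃ z : κ, s - ι z ∈ maximalIdeal S := fun s => by
      obtain ⟨f, rfl⟩ := hπsurj s
      refine ⟨MvPowerSeries.constantCoeff f, ?_⟩
      change π f - π _ ∈ _
      rw [← map_sub, ← IsLocalRing.map_maximalIdeal_of_surjective π hπsurj]
      exact Ideal.mem_map_of_mem π (sub_C_mem_maximalIdeal f)
    obtain ⟨z₀, hz₀⟩ := hcoef (j (w 0))
    obtain ⟨z₁, hz₁⟩ := hcoef (j (w 1))
    -- evaluation along a branch
    have eval : ∀ t : F, σ a' * t ^ 2 + σ b' * t + σ c' = 0 → σ z₀ * t + σ z₁ = 0 := by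
      intro t ht
      let p := σ α * t + σ β
      let q := σ γ * t + σ δ
      let pt : Fin 2 → MvPowerSeries Unit F := ![PowerSeries.C p * PowerSeries.X, PowerSeries.C q * PowerSeries.X]
      have hpt : MvPowerSeries.HasSubst pt := MvPowerSeries.hasSubst_of_constantCoeff_zero fun i => by
        fin_cases i <;>
          · change PowerSeries.constantCoeff _ = 0
            simp [pt]
      let ev : MvPowerSeries (Fin 2) κ →ₐ[κ] PowerSeries F := MvPowerSeries.substAlgHom hpt
      have hevX : ∀ i, ev (MvPowerSeries.X i) = pt i := fun i => MvPowerSeries.substAlgHom_X hpt i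
      have hevC : ∀ z, ev (MvPowerSeries.C z) = PowerSeries.C (σ z) := fun z =>
        (ev.commutes z).trans (by simp [PowerSeries.algebraMap_apply, RingHom.algebraMap_toAlgebra])
      have hevQ : ev (MvPowerSeries.C a * MvPowerSeries.X 0 ^ 2 +
            MvPowerSeries.C b * MvPowerSeries.X 0 * MvPowerSeries.X 1 +
            MvPowerSeries.C c * MvPowerSeries.X 1 ^ 2) = 0 := by
        rw [show (MvPowerSeries.C a * MvPowerSeries.X 0 ^ 2 + MvPowerSeries.C b * MvPowerSeries.X 0 * MvPowerSeries.X 1 +
            MvPowerSeries.C c * MvPowerSeries.X 1 ^ 2 : MvPowerSeries (Fin 2) κ) =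
          qf (MvPowerSeries.C a) (MvPowerSeries.C b) (MvPowerSeries.C c) (MvPowerSeries.X 0) (MvPowerSeries.X 1) by
          simp only [qf, mul_assoc]]
        change ev.toRingHom _ = 0
        rw [map_qf]
        change qf (ev _) (ev _) (ev _) (ev _) (ev _) = 0
        rw [hevC, hevC, hevC, hevX, hevX]
        change qf _ _ _ (PowerSeries.C p * PowerSeries.X) (PowerSeries.C q * PowerSeries.X) = 0
        rw [qf_mul, ← map_qf]
        have h1 := hT F σ t 1
        simp only [mul_one] at h1
        rw [h1, show qf (σ a') (σ b') (σ c') t 1 = 0 by simp only [qf]; linear_combination ht, map_zero, zero_mul]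
      have hJker : ∀ f ∈ Ideal.span {(MvPowerSeries.C a * MvPowerSeries.X 0 ^ 2 +
            MvPowerSeries.C b * MvPowerSeries.X 0 * MvPowerSeries.X 1 +
            MvPowerSeries.C c * MvPowerSeries.X 1 ^ 2 : MvPowerSeries (Fin 2) κ)}, ev.toRingHom f = 0 := fun f hf => by
        obtain ⟨f', rfl⟩ := Ideal.mem_span_singleton'.1 hf
        change ev _ = 0
        rw [map_mul, hevQ, mul_zero]
      let χ : S →+* PowerSeries F := (Ideal.Quotient.lift _ ev.toRingHom hJker).comp e.toRingHom
      have hχπ : ∀ f, χ (π f) = ev f := fun f => by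
        change Ideal.Quotient.lift _ ev.toRingHom hJker (e (e.symm (Ideal.Quotient.mk _ f))) = _
        rw [RingEquiv.apply_symm_apply]
        rfl
      have hχι : ∀ z, χ (ι z) = PowerSeries.C (σ z) := fun z => (hχπ _).trans (hevC z)
      have hχx₀ : χ x₀ = PowerSeries.C p * PowerSeries.X := (hχπ _).trans (hevX 0)
      have hχy₀ : χ y₀ = PowerSeries.C q * PowerSeries.X := (hχπ _).trans (hevX 1)
      have hdd : σ α * σ δ - σ β * σ γ = σ d := by simp [d]
      have hd0 : σ d ≠ 0 := (map_ne_zero σ).2 hαδ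
      have hχx : χ x = PowerSeries.C t * PowerSeries.X := by
        rw [map_sub, map_mul, map_mul, hχι, hχι, hχx₀, hχy₀, ← mul_assoc, ← mul_assoc, ← sub_mul, ← map_mul, ← map_mul,
          ← map_sub]
        congr 2
        simp only [p, q, map_div₀]
        field_simp
        linear_combination t * hdd
      have hχy : χ y = PowerSeries.X := by
        rw [map_sub, map_mul, map_mul, hχι, hχι, hχx₀, hχy₀, ← mul_assoc, ← mul_assoc, ← sub_mul, ← map_mul, ← map_mul,
          ← map_sub]
        convert one_mul PowerSeries.X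
        rw [← map_one PowerSeries.C]
        congr 1
        simp only [p, q, map_div₀]
        field_simp
        linear_combination hdd
      have hχm : (maximalIdeal S).map χ ≤ Ideal.span {PowerSeries.X} := by
        rw [← hgen, Ideal.map_span, Set.image_pair, Ideal.span_le]
        rintro _ (rfl | rfl)
        · rw [hχx]; exact Ideal.mem_span_singleton.2 (dvd_mul_left _ _)
        · rw [hχy]; exact Ideal.mem_span_singleton.2 dvd_rfl
      have hcz : ∀ {s : S} {z : κ}, s - ι z ∈ maximalIdeal S → PowerSeries.constantCoeff (χ s) = σ z := by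
        intro s z hs
        have h1 := Ideal.mem_span_singleton.1 (hχm (Ideal.mem_map_of_mem χ hs))
        rw [PowerSeries.X_dvd_iff, map_sub, map_sub, hχι, PowerSeries.constantCoeff_C, sub_eq_zero] at h1
        exact h1
      have h1 := (Ideal.pow_right_mono hχm (N + 2)) (Ideal.map_pow χ _ _ ▸ Ideal.mem_map_of_mem χ hS)
      rw [Ideal.span_singleton_pow, Ideal.mem_span_singleton, map_add, map_mul, map_mul, map_mul, map_pow, map_pow,
        hχx, hχy, show χ (j (w 0)) * (PowerSeries.C t * PowerSeries.X * PowerSeries.X ^ N) +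
          χ (j (w 1)) * PowerSeries.X ^ (N + 1) =
          PowerSeries.X ^ (N + 1) * (χ (j (w 0)) * PowerSeries.C t + χ (j (w 1))) by ring,
        pow_succ PowerSeries.X (N + 1), mul_dvd_mul_iff_left (pow_ne_zero _ PowerSeries.X_ne_zero),
        PowerSeries.X_dvd_iff, map_add, map_mul, PowerSeries.constantCoeff_C, hcz hz₀, hcz hz₁] at h1
      exact h1
    have e1 := eval r hroot
    have e2 := eval r' hroot'
    have hz₀' : z₀ = 0 := (map_eq_zero σ).1 ((mul_eq_zero.1 (show _ * _ = (0 : F) by
      linear_combination e1 - e2)).resolve_right (sub_ne_zero.2 hrr))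
    have hz₁' : z₁ = 0 := (map_eq_zero σ).1 (by rw [hz₀', map_zero, zero_mul, zero_add] at e1; exact e1)
    rw [hz₀', map_zero, sub_zero] at hz₀
    rw [hz₁', map_zero, sub_zero] at hz₁
    refine hwi (pow_one (maximalIdeal A) ▸ mem_pow_of_algebraMap_mem ?_)
    rw [pow_one]
    fin_cases i
    · exact hz₀
    · exact hz₁
  have hunit : IsUnit (algebraMap F T (r₁ - r₂)) := (IsUnit.mk0 _ (sub_ne_zero.2 hr12)).map _
  have hgenT : Ideal.span {X r₁, X r₂} = maximalIdeal T := by
    rw [← hgmax, ← hgen, Ideal.map_span, Set.image_pair]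
    refine le_antisymm ?_ ?_
    · rw [Ideal.span_le]
      rintro _ (rfl | rfl) <;> exact Ideal.mem_span_pair.2 ⟨1, -algebraMap F T _, by simp only [X]; ring⟩
    · obtain ⟨ε, hε⟩ := hunit.exists_left_inv
      rw [map_sub] at hε
      rw [Ideal.span_le]
      rintro _ (rfl | rfl)
      · refine Ideal.mem_span_pair.2 ⟨-(ε * algebraMap F T r₂), ε * algebraMap F T r₁, ?_⟩
        simp only [X]
        linear_combination (g x) * hε
      · refine Ideal.mem_span_pair.2 ⟨-ε, ε, ?_⟩
        simp only [X]
        linear_combination (g y) * hε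
  obtain ⟨eT, heT⟩ := exists_equiv_of_gens (L := F) (completion_residue F hB) (X r₁) (X r₂) hgenT hXY
    (notNil r₁ r₂ hr12 hr₁ hr₂ hXY) (notNil r₂ r₁ hr12.symm hr₂ hr₁ (by rw [mul_comm]; exact hXY))
  exact ⟨eT, fun x => by rw [← IsScalarTower.algebraMap_apply, heT]⟩

end Groth.L21.Nodal
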