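import Mathlib.RingTheory.Jacobson.Ring
import Mathlib.RingTheory.PolynomialAlgebra
import Mathlib.RingTheory.Polynomial.Basic
import Mathlib.RingTheory.Flat.TorsionFree
import Mathlib.RingTheory.Flat.Basic
import Mathlib.RingTheory.IntegralClosure.IntegrallyClosed
import Mathlib.RingTheory.Ideal.MinimalPrime.Localization
import Mathlib.RingTheory.TensorProduct.Finite
import Mathlib.RingTheory.FiniteStability

/-! No prime of `K ⊗ D` is both maximal and minimal, for a finitely generated domain `D` which is not a field. -/

set_option autoImplicit false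
universe u

open scoped TensorProduct

namespace Groth.L21.Nodal

theorem false_of_isMaximal_of_minimal (k : Type u) [Field k] (K : Type u) [Field K] [Algebra k K]
    (D : Type u) [CommRing D] [IsDomain D] [Algebra k D] [Algebra.FiniteType k D] (hD : ¬ IsField D)
    (P : Ideal (K ⊗[k] D)) [P.IsMaximal] (hP : P ∈ minimalPrimes (K ⊗[k] D)) : False := by
  obtain ⟨t, ht⟩ : ∃ t : D, Transcendental k t := by
    by_contra hcon
    push Not at hcon
    haveI : Algebra.IsIntegral k D := ⟨fun t => isAlgebraic_iff_isIntegral.1 (not_not.1 (hcon t))⟩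
    exact hD (isField_of_isIntegral_of_isField' (R := k) (Field.toIsField k))
  letI : Algebra (Polynomial k) D := (Polynomial.aeval (R := k) t).toRingHom.toAlgebra
  haveI : IsScalarTower k (Polynomial k) D := IsScalarTower.of_algebraMap_eq fun c =>
    ((Polynomial.aeval (R := k) t).commutes c).symm
  haveI : Module.IsTorsionFree (Polynomial k) D := Module.isTorsionFree_iff_algebraMap_injective.mpr
    (transcendental_iff_injective.1 ht)
  haveI : Module.Flat (Polynomial k) D := inferInstance
  let G : K ⊗[k] Polynomial k →ₐ[K] K ⊗[k] D := Algebra.TensorProduct.map (AlgHom.id K K) (IsScalarTower.toAlgHom k (Polynomial k) D)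
  -- a non-zero polynomial vanishing at `t` modulo `P`
  obtain ⟨φ, hφ0, hφP⟩ : ∃ φ : K ⊗[k] Polynomial k, φ ≠ 0 ∧ G φ ∈ P := by
    letI : Field ((K ⊗[k] D) ⧸ P) := Ideal.Quotient.field P
    haveI : Module.Finite K ((K ⊗[k] D) ⧸ P) := finite_of_finite_type_of_isJacobsonRing K ((K ⊗[k] D) ⧸ P)
    let e : Polynomial K ≃ₐ[K] K ⊗[k] Polynomial k := polyEquivTensor' k K
    let F : Polynomial K →ₐ[K] (K ⊗[k] D) ⧸ P := ((Ideal.Quotient.mkₐ K P).comp G).comp e.toAlgHom
    obtain ⟨p, hp, hp0⟩ : ∃ p, F p = 0 ∧ p ≠ 0 := by
      by_contra hcon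
      push Not at hcon
      have hinj : Function.Injective F.toLinearMap := (injective_iff_map_eq_zero F.toLinearMap).2 hcon
      haveI := Module.Finite.of_injective F.toLinearMap hinj
      exact Polynomial.not_finite (R := K) inferInstance
    exact ⟨e p, fun h0 => hp0 (e.injective (h0.trans (map_zero e).symm)), Ideal.Quotient.eq_zero_iff_mem.1 hp⟩
  haveI : IsDomain (K ⊗[k] Polynomial k) := (polyEquivTensor' k K).symm.toRingEquiv.toMulEquiv.isDomain
  let φ' : Polynomial k ⊗[k] K := Algebra.TensorProduct.comm k K (Polynomial k) φ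
  haveI : IsDomain (Polynomial k ⊗[k] K) :=
    (Algebra.TensorProduct.comm k (Polynomial k) K).toRingEquiv.toMulEquiv.isDomain
  have hφ' : φ' ≠ 0 := fun h0 => hφ0 ((Algebra.TensorProduct.comm k K (Polynomial k)).injective (h0.trans (map_zero _).symm))
  let μ : Polynomial k ⊗[k] K →ₗ[Polynomial k] Polynomial k ⊗[k] K := LinearMap.mulLeft (Polynomial k) φ'
  have hμ : Function.Injective μ := fun a b hab => mul_left_cancel₀ hφ' hab
  have hinj := Module.Flat.lTensor_preserves_injective_linearMap (R := Polynomial k) (M := D) μ hμ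
  let c : D ⊗[Polynomial k] (Polynomial k ⊗[k] K) ≃ₗ[Polynomial k] D ⊗[k] K :=
    TensorProduct.AlgebraTensorModule.cancelBaseChange k (Polynomial k) (Polynomial k) D K
  let w : K ⊗[k] D ≃ₐ[k] D ⊗[k] K := Algebra.TensorProduct.comm k K D
  have key : ∀ z, c (μ.lTensor D z) = w (G φ) * c z := by
    intro z
    induction z with
    | zero => simp
    | add a b ha hb => rw [map_add, map_add, ha, hb, map_add, mul_add]
    | tmul d s =>
      induction s with
      | zero => simp
      | add a b ha hb => simp only [TensorProduct.tmul_add, map_add, ha, hb, mul_add]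
      | tmul r a =>
        simp only [μ, φ', LinearMap.lTensor_tmul, LinearMap.mulLeft_apply]
        clear hφP hφ0 hφ' hμ hinj μ φ'
        induction φ with
        | zero => simp
        | add a' b' ha hb => simp only [map_add, add_mul, TensorProduct.tmul_add, ha, hb]
        | tmul b q =>
          simp only [c, w, G, Algebra.TensorProduct.comm_tmul, Algebra.TensorProduct.map_tmul, AlgHom.coe_id, id,
            Algebra.TensorProduct.tmul_mul_tmul, TensorProduct.AlgebraTensorModule.cancelBaseChange_tmul,
            Algebra.smul_def, map_mul, IsScalarTower.coe_toAlgHom', mul_assoc]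
  have hnzd : G φ ∈ nonZeroDivisors (K ⊗[k] D) := by
    rw [mem_nonZeroDivisors_iff_right]
    intro z hz
    obtain ⟨z', hz'⟩ := c.surjective (w z)
    have h1 := key z'
    rw [hz', ← map_mul, mul_comm, hz, map_zero] at h1
    have h2 : μ.lTensor D z' = 0 := c.injective (h1.trans (map_zero c).symm)
    rw [← map_zero (μ.lTensor D)] at h2
    rw [hinj h2, map_zero] at hz'
    exact w.injective (hz'.symm.trans (map_zero w).symm)
  exact notMem_nonZeroDivisors_of_mem_mem_minimalPrimes hφP hP hnzd

end Groth.L21.Nodal
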