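import Groth.Agent.L21.Nodal.NodeClosed
import Groth.Agent.L21.Nodal.CurveLike
import Groth.Agent.L21.Nodal.FieldTensor
import Groth.Agent.L21.CurvFib.SmoothLocus
import Mathlib.AlgebraicGeometry.Pullbacks
import Mathlib.AlgebraicGeometry.Fiber
import Mathlib.RingTheory.Ideal.Quotient.Operations

/-! At-worst-nodal curves are stable under extension of the base field. -/

set_option autoImplicit false
universe u

open CategoryTheory CategoryTheory.Limits AlgebraicGeometry IsLocalRing TopologicalSpace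

noncomputable section

namespace Groth.L21.Nodal

theorem topologicalKrullDim_le_one_of_curveLike {T : Type u} [TopologicalSpace T] [QuasiSober T] [T0Space T]
    (h : CurveLike T) : topologicalKrullDim T ≤ 1 := by
  rw [Groth.L19.topologicalKrullDim_eq_krullDim]
  let _ := specializationOrder T
  refine iSup_le fun p => ?_
  by_contra hp
  have hp2 : 2 ≤ p.length := by
    by_contra h2
    exact hp (by exact_mod_cast (show p.length ≤ 1 by omega))
  have h01 : p ⟨0, by omega⟩ < p ⟨1, by omega⟩ := p.strictMono (by simp [Fin.lt_def])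
  have h12 : p ⟨1, by omega⟩ < p ⟨2, by omega⟩ := p.strictMono (by simp [Fin.lt_def])
  rcases h.1 _ _ _ h12.le h01.le with e | e
  · exact h12.ne e.symm
  · exact h01.ne e.symm

variable {k : Type u} [Field k] {X : Scheme.{u}} [X.Over (Spec (CommRingCat.of k))]
  [LocallyOfFiniteType (X ↘ Spec (CommRingCat.of k))]

theorem exists_smooth_nhd_of_preimage (x : X)
    (hx : ∀ z, Curv2.bcFst k X (AlgebraicClosure k) z = x →
      z ∉ Groth.L21.CurvFib.singSet (Curv2.bcSnd k X (AlgebraicClosure k))) :
    ∃ U : X.Opens, x ∈ U ∧ Smooth (U.ι ≫ (X ↘ Spec (CommRingCat.of k))) := by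
  let s := Spec.map (CommRingCat.ofHom (algebraMap k (AlgebraicClosure k)))
  let i := Curv2.bcFst k X (AlgebraicClosure k)
  let q := Curv2.bcSnd k X (AlgebraicClosure k)
  have hi : IsPullback i q (X ↘ Spec (CommRingCat.of k)) s := IsPullback.of_hasPullback _ _
  haveI : Surjective s := ⟨fun z => ⟨default, Subsingleton.elim _ _⟩⟩
  haveI : Flat s := by
    rw [Flat.SpecMap_iff]
    exact RingHom.flat_algebraMap_iff.mpr inferInstance
  haveI : IsIntegralHom s := by
    rw [IsIntegralHom.SpecMap_iff]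
    exact fun z => Algebra.IsIntegral.isIntegral z
  haveI : IsIntegralHom i := MorphismProperty.of_isPullback hi.flip (inferInstanceAs (IsIntegralHom s))
  let W : X.Opens := ⟨(i '' Groth.L21.CurvFib.singSet q)ᶜ,
    (i.isClosedMap _ (Groth.L21.CurvFib.isClosed_singSet q)).isOpen_compl⟩
  have h1 : Smooth ((i ⁻¹ᵁ W).ι ≫ q) :=
    Groth.L21.CurvFib.smooth_of_forall_notMem_singSet q _ fun z hz hz' => hz ⟨z, hz', rfl⟩
  refine ⟨W, fun ⟨z, hz, hzx⟩ => hx z hzx hz, ?_⟩
  exact MorphismProperty.of_isPullback_of_descendsAlong (P := @Smooth)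
      (Q := @Surjective ⊓ @Flat ⊓ @QuasiCompact) ((isPullback_morphismRestrict i W).paste_vert hi).flip
      ⟨⟨inferInstanceAs (Surjective s), inferInstanceAs (Flat s)⟩, inferInstanceAs (QuasiCompact s)⟩ h1

/-- An at-worst-nodal curve is smooth at its non-closed points. -/
theorem exists_smooth_nhd_of_not_isClosed (hcl : CurveLike X) (hnod : Curv2.AtWorstNodal k X) (x : X)
    (hx : ¬ IsClosed ({x} : Set X)) :
    ∃ U : X.Opens, x ∈ U ∧ Smooth (U.ι ≫ (X ↘ Spec (CommRingCat.of k))) := by
  refine exists_smooth_nhd_of_preimage x fun z hzx hsing => hsing ?_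
  let i := Curv2.bcFst k X (AlgebraicClosure k)
  let q := Curv2.bcSnd k X (AlgebraicClosure k)
  haveI := isIntegralHom_bcFst (k := k) (X := X) (AlgebraicClosure k)
  have hdim : topologicalKrullDim (Curv2.bc k X (AlgebraicClosure k)) ≤ 1 :=
    (Groth.L21.CurvFib.topologicalKrullDim_eq_of_isPullback k (AlgebraicClosure k) (X ↘ Spec (CommRingCat.of k))
      _ q i (IsPullback.of_hasPullback _ _)).le.trans (topologicalKrullDim_le_one_of_curveLike hcl)
  haveI : JacobsonSpace (Curv2.bc k X (AlgebraicClosure k)) := LocallyOfFiniteType.jacobsonSpace q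
  obtain ⟨w, hzw, hwc⟩ := exists_closed_specialization z
  have hzc : ¬ IsClosed ({z} : Set _) := fun hc => by
    have := i.isClosedMap _ hc
    rw [Set.image_singleton] at this
    exact hx (hzx ▸ this)
  have hmax : ∀ t, t ⤳ z → t = z := fun t ht =>
    (eq_or_eq_of_topologicalKrullDim_le_one hdim ht hzw).resolve_right fun e => hzc (e ▸ hwc)
  have hiw : IsClosed ({i w} : Set X) := by
    have := i.isClosedMap _ hwc
    rwa [Set.image_singleton] at this
  rcases hnod (i w) hiw with ⟨U, hwU, hU⟩ | hn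
  · refine ⟨i ⁻¹ᵁ U, hzw.mem_open (i ⁻¹ᵁ U).2 hwU, ?_⟩
    exact MorphismProperty.of_isPullback
      ((isPullback_morphismRestrict i U).paste_vert (IsPullback.of_hasPullback _ _)) hU
  · haveI := isReduced_of_odpAt q w (odpAt_of_isNode _ _ hn w rfl)
    haveI := isReduced_stalk_of_specializes hzw
    exact exists_smooth_nhd_of_maximal q z hmax

variable {K : Type u} [Field K] [Algebra k K] {Y : Scheme.{u}} [Y.Over (Spec (CommRingCat.of K))] (g : Y ⟶ X)
  (hY : IsPullback g (Y ↘ Spec (CommRingCat.of K)) (X ↘ Spec (CommRingCat.of k))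
    (Spec.map (CommRingCat.ofHom (algebraMap k K))))

include hY in
theorem atWorstNodal_of_isPullback (hcl : CurveLike X) (hnod : Curv2.AtWorstNodal k X) :
    Curv2.AtWorstNodal K Y := by
  intro y _
  have smooth_case : ∀ U : X.Opens, g y ∈ U → Smooth (U.ι ≫ (X ↘ Spec (CommRingCat.of k))) →
      ∃ V : Y.Opens, y ∈ V ∧ Smooth (V.ι ≫ (Y ↘ Spec (CommRingCat.of K))) := fun U hyU hU =>
    ⟨g ⁻¹ᵁ U, hyU, MorphismProperty.of_isPullback ((isPullback_morphismRestrict g U).paste_vert hY) hU⟩
  by_cases hx : IsClosed ({g y} : Set X)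
  · rcases hnod (g y) hx with ⟨U, hyU, hU⟩ | hn
    · exact Or.inl (smooth_case U hyU hU)
    · exact Or.inr ((isNode_iff_of_isPullback g hY y hx).1 hn)
  · obtain ⟨U, hyU, hU⟩ := exists_smooth_nhd_of_not_isClosed hcl hnod (g y) hx
    exact Or.inl (smooth_case U hyU hU)

include hY in
theorem curveLike_of_isPullback (hcl : CurveLike X) : CurveLike Y := by
  have hdim : topologicalKrullDim Y ≤ 1 :=
    (Groth.L21.CurvFib.topologicalKrullDim_eq_of_isPullback k K (X ↘ Spec (CommRingCat.of k))
      _ _ g hY).le.trans (topologicalKrullDim_le_one_of_curveLike hcl)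
  haveI : Flat (Spec.map (CommRingCat.ofHom (algebraMap k K))) := by
    rw [Flat.SpecMap_iff]
    exact RingHom.flat_algebraMap_iff.mpr inferInstance
  haveI : Flat g := MorphismProperty.of_isPullback hY.flip inferInstance
  haveI : JacobsonSpace X := LocallyOfFiniteType.jacobsonSpace (X ↘ Spec (CommRingCat.of k))
  refine ⟨fun a b c hab hbc => eq_or_eq_of_topologicalKrullDim_le_one hdim hab hbc, fun y hy => ?_⟩
  by_contra hcon
  push Not at hcon
  have hymax : ∀ t, t ⤳ y → t = y := fun t ht => by_contra fun hne => hcon t hne ht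
  have hxmax : ∀ t, t ⤳ g y → t = g y := fun t ht => by
    obtain ⟨w, hw, rfl⟩ := Flat.generalizingMap g ht
    rw [hymax w hw]
  have hxc : ¬ IsClosed ({g y} : Set X) := fun hc => by
    obtain ⟨t, hne, ht⟩ := hcl.2 _ hc
    exact hne (hxmax t ht)
  -- the closure of the image in an affine open
  obtain ⟨V, hV, hxV, -⟩ := exists_isAffineOpen_mem_and_subset (X := X) (U := ⊤) (Opens.mem_top (g y))
  set r := (hV.primeIdealOf ⟨g y, hxV⟩).asIdeal with hr
  haveI : IsDomain (Γ(X, V) ⧸ r) := Ideal.Quotient.isDomain r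
  let D : CommRingCat.{u} := CommRingCat.of (Γ(X, V) ⧸ r)
  let j : Spec D ⟶ X := Spec.map (CommRingCat.ofHom (Ideal.Quotient.mk r)) ≫ hV.fromSpec
  haveI : IsClosedImmersion (Spec.map (CommRingCat.ofHom (Ideal.Quotient.mk r))) :=
    IsClosedImmersion.spec_of_surjective (CommRingCat.ofHom (Ideal.Quotient.mk r)) Ideal.Quotient.mk_surjective
  obtain ⟨φ, hφ⟩ := Spec.map_surjective (j ≫ (X ↘ Spec (CommRingCat.of k)))
  letI : Algebra k D := φ.hom.toAlgebra
  haveI : Algebra.FiniteType k D := by
    haveI : LocallyOfFiniteType (j ≫ (X ↘ Spec (CommRingCat.of k))) := inferInstance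
    exact (HasRingHomProperty.Spec_iff (P := @LocallyOfFiniteType) (φ := φ)).mp (hφ ▸ inferInstance)
  let η : Spec D := ⟨⊥, Ideal.isPrime_bot⟩
  have hη : j η = g y := by
    change hV.fromSpec (Spec.map (CommRingCat.ofHom (Ideal.Quotient.mk r)) η) = g y
    have h0 : Spec.map (CommRingCat.ofHom (Ideal.Quotient.mk r)) η = hV.primeIdealOf ⟨g y, hxV⟩ :=
      PrimeSpectrum.ext Ideal.mk_ker
    rw [h0]
    exact hV.fromSpec_primeIdealOf _
  have hD : ¬ IsField D := fun hf => by
    haveI : r.IsMaximal := Ideal.Quotient.maximal_of_isField r hf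
    have hc : IsClosed ({hV.primeIdealOf ⟨g y, hxV⟩} : Set (Spec Γ(X, V))) :=
      (PrimeSpectrum.isClosed_singleton_iff_isMaximal (hV.primeIdealOf ⟨g y, hxV⟩)).2 ‹_›
    have := hV.fromSpec.closePoints_subset_preimage_closedPoints hc
    exact hxc (by rwa [Set.mem_preimage, hV.fromSpec_primeIdealOf] at this)
  obtain ⟨p, hpy, -⟩ := Scheme.exists_preimage_of_isPullback (IsPullback.of_hasPullback g j) y η hη.symm
  have big : IsPullback (pullback.fst g j ≫ (Y ↘ Spec (CommRingCat.of K))) (pullback.snd g j)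
      (Spec.map (CommRingCat.ofHom (algebraMap k K))) (Spec.map (CommRingCat.ofHom (algebraMap k D))) := by
    rw [show Spec.map (CommRingCat.ofHom (algebraMap k D)) = j ≫ (X ↘ Spec (CommRingCat.of k)) from hφ]
    exact ((IsPullback.of_hasPullback g j).flip.paste_vert hY).flip
  let e : pullback g j ≅ Spec (CommRingCat.of (TensorProduct k K D)) :=
    big.isoPullback ≪≫
      pullbackSpecIso k K D
  have hfst : ∀ t, t ⤳ p → t = p := fun t ht =>
    (pullback.fst g j).isEmbedding.injective (by rw [hpy]; exact hymax _ (hpy ▸ ht.map (pullback.fst g j).continuous))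
  have hpc : IsClosed ({p} : Set (pullback g j : Scheme.{u})) := by
    have := hy.preimage (pullback.fst g j).continuous
    convert this using 1
    ext t
    exact ⟨fun ht => by rw [Set.mem_preimage, Set.mem_singleton_iff, Set.mem_singleton_iff.1 ht, hpy],
      fun ht => (pullback.fst g j).isEmbedding.injective ((Set.mem_singleton_iff.1 ht).trans hpy.symm)⟩
  let P : PrimeSpectrum (TensorProduct k K D) := e.hom p
  haveI : P.asIdeal.IsMaximal := by
    rw [← PrimeSpectrum.isClosed_singleton_iff_isMaximal]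
    have := (e.hom.homeomorph.isClosedMap) _ hpc
    rwa [Set.image_singleton] at this
  refine false_of_isMaximal_of_minimal k K D hD P.asIdeal ⟨⟨P.2, bot_le⟩, fun q hq hqP => ?_⟩
  let qp : PrimeSpectrum (TensorProduct k K D) := ⟨q, hq.1⟩
  obtain ⟨t, ht⟩ := e.hom.homeomorph.surjective qp
  have hs : qp ⤳ P := (PrimeSpectrum.le_iff_specializes qp P).1 hqP
  have : t ⤳ p := by
    rw [← e.hom.homeomorph.isInducing.specializes_iff, ht]
    exact hs
  rw [hfst t this] at ht
  exact (congrArg PrimeSpectrum.asIdeal ht).le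

end Groth.L21.Nodal
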