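import Groth.Agent.L21.Nodal.Extend
import Mathlib.Algebra.Polynomial.Div
import Mathlib.Algebra.Polynomial.Identities
import Mathlib.FieldTheory.PrimitiveElement
import Mathlib.FieldTheory.Separable
import Mathlib.RingTheory.Henselian
import Mathlib.RingTheory.PowerBasis
import Mathlib.RingTheory.AdicCompletion.LocalRing

/-! Binary quadratic forms in two parameters of a local ring and coefficient fields. -/

set_option autoImplicit false
universe u

open IsLocalRing

noncomputable section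

namespace Groth.L21.Nodal

/-- The binary quadratic form `a x² + b xy + c y²`. -/
def qf {S : Type*} [CommRing S] (a b c x y : S) : S := a * x ^ 2 + b * (x * y) + c * y ^ 2

theorem map_qf {S T : Type*} [CommRing S] [CommRing T] (f : S →+* T) (a b c x y : S) :
    f (qf a b c x y) = qf (f a) (f b) (f c) (f x) (f y) := by simp [qf]

theorem qf_mul {S : Type*} [CommRing S] (a b c x y t : S) : qf a b c (x * t) (y * t) = qf a b c x y * t ^ 2 := by
  simp only [qf]; ring

/-- Modulo the form, a power of `(u, v)` is spanned by two monomials. -/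
theorem pow_le_sup {S : Type*} [CommRing S] (a b c u v : S) (ha : IsUnit a) (N : ℕ) :
    Ideal.span {u, v} ^ (N + 1) ≤ Ideal.span {qf a b c u v} ⊔ Ideal.span {u * v ^ N, v ^ (N + 1)} := by
  induction N with
  | zero => simp
  | succ N ih =>
    obtain ⟨a', haa⟩ := ha.exists_left_inv
    rw [pow_succ']
    refine (Ideal.mul_mono_right ih).trans (Ideal.mul_le.2 fun r hr s hs => ?_)
    obtain ⟨α, β, rfl⟩ := Ideal.mem_span_pair.1 hr
    obtain ⟨e, he, s', hs', rfl⟩ := Submodule.mem_sup.1 hs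
    obtain ⟨w, rfl⟩ := Ideal.mem_span_singleton'.1 he
    obtain ⟨γ, δ, rfl⟩ := Ideal.mem_span_pair.1 hs'
    refine Submodule.mem_sup.2 ⟨_, Ideal.mem_span_singleton'.2
      ⟨(α * u + β * v) * w + α * γ * a' * v ^ N, rfl⟩, _, Ideal.mem_span_pair.2
      ⟨α * δ + β * γ - α * γ * a' * b, β * δ - α * γ * a' * c, rfl⟩, ?_⟩
    simp only [qf]
    linear_combination (α * γ * u ^ 2 * v ^ N) * haa

/-- A refinement of `pow_le_sup`: the cofactor of the form lies in the expected power. -/
theorem pow_le_sup' {S : Type*} [CommRing S] (a b c u v : S) (ha : IsUnit a) (N : ℕ) :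
    Ideal.span {u, v} ^ (N + 2) ≤ Ideal.span {qf a b c u v} * Ideal.span {u, v} ^ N ⊔
      Ideal.span {u * v ^ (N + 1), v ^ (N + 2)} := by
  obtain ⟨a', haa⟩ := ha.exists_left_inv
  have base : ∀ (α β γ δ : S) (n : ℕ),
      (α * u + β * v) * (γ * (u * v ^ n) + δ * v ^ (n + 1)) =
        (α * γ * a' * v ^ n) * qf a b c u v + ((α * δ + β * γ - α * γ * a' * b) * (u * v ^ (n + 1)) +
          (β * δ - α * γ * a' * c) * v ^ (n + 2)) := fun α β γ δ n => by
    simp only [qf]
    linear_combination (-(α * γ * u ^ 2 * v ^ n)) * haa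
  have hmem : ∀ n : ℕ, v ^ n ∈ (Ideal.span {u, v} : Ideal S) ^ n := fun n => Ideal.pow_mem_pow (Ideal.subset_span (show v ∈ ({u, v} : Set S) from Or.inr rfl)) n
  induction N with
  | zero =>
    rw [zero_add, pow_two]
    refine Ideal.mul_le.2 fun r hr s hs => ?_
    obtain ⟨α, β, rfl⟩ := Ideal.mem_span_pair.1 hr
    obtain ⟨γ, δ, rfl⟩ := Ideal.mem_span_pair.1 hs
    rw [show γ * u + δ * v = γ * (u * v ^ 0) + δ * v ^ (0 + 1) by ring, base, mul_comm _ (qf a b c u v)]
    exact Submodule.add_mem_sup (Ideal.mul_mem_mul (Ideal.mem_span_singleton_self _) (Ideal.mul_mem_left _ _ (hmem 0)))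
      (Ideal.mem_span_pair.2 ⟨_, _, rfl⟩)
  | succ N ih =>
    rw [pow_succ' _ (N + 2)]
    refine (Ideal.mul_mono_right ih).trans (Ideal.mul_le.2 fun r hr s hs => ?_)
    obtain ⟨α, β, rfl⟩ := Ideal.mem_span_pair.1 hr
    obtain ⟨e, he, s', hs', rfl⟩ := Submodule.mem_sup.1 hs
    obtain ⟨γ, δ, rfl⟩ := Ideal.mem_span_pair.1 hs'
    rw [mul_add, base]
    refine add_mem (Submodule.mem_sup_left ?_) (Submodule.add_mem_sup ?_ (Ideal.mem_span_pair.2 ⟨_, _, rfl⟩))
    · rw [pow_succ', mul_left_comm (Ideal.span {qf a b c u v}) (Ideal.span {u, v})]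
      exact Ideal.mul_mem_mul hr he
    · rw [mul_comm _ (qf a b c u v)]
      exact Ideal.mul_mem_mul (Ideal.mem_span_singleton_self _) (Ideal.mul_mem_left _ _ (hmem (N + 1)))

section Disc

variable {κ : Type*} [Field κ]

/-- A form with two independent zeros has nonzero discriminant. -/
theorem disc_ne_zero (a b c p₀ w₀ p₁ w₁ : κ) (h₀ : qf a b c p₀ w₀ = 0) (h₁ : qf a b c p₁ w₁ = 0)
    (hdet : p₀ * w₁ - p₁ * w₀ ≠ 0) (hne : a ≠ 0 ∨ b ≠ 0 ∨ c ≠ 0) : 4 * a * c - b ^ 2 ≠ 0 := by
  intro hD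
  simp only [qf] at h₀ h₁
  have hB : 2 * a * p₀ * p₁ + b * (p₀ * w₁ + p₁ * w₀) + 2 * c * w₀ * w₁ = 0 := by
    refine pow_eq_zero_iff two_ne_zero |>.1 ?_
    linear_combination (-(p₀ * w₁ - p₁ * w₀) ^ 2) * hD +
      4 * (a * p₁ ^ 2 + b * (p₁ * w₁) + c * w₁ ^ 2) * h₀
  have hd2 : (p₀ * w₁ - p₁ * w₀) ^ 2 ≠ 0 := pow_ne_zero _ hdet
  rcases hne with h | h | h
  · refine h ((mul_eq_zero.1 ?_).resolve_left hd2)
    linear_combination w₁ ^ 2 * h₀ - w₀ * w₁ * hB + w₀ ^ 2 * h₁
  · refine h ((mul_eq_zero.1 ?_).resolve_left hd2)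
    linear_combination (-2 * p₁ * w₁) * h₀ + (p₀ * w₁ + p₁ * w₀) * hB + (-2 * p₀ * w₀) * h₁
  · refine h ((mul_eq_zero.1 ?_).resolve_left hd2)
    linear_combination p₁ ^ 2 * h₀ - p₀ * p₁ * hB + p₀ ^ 2 * h₁

/-- After a linear change of variables the first coefficient is nonzero. -/
theorem exists_normal_form (a b c : κ) (hD : 4 * a * c - b ^ 2 ≠ 0) :
    ∃ a' b' c' α β γ δ : κ, a' ≠ 0 ∧ 4 * a' * c' - b' ^ 2 ≠ 0 ∧ α * δ - β * γ ≠ 0 ∧
      ∀ (T : Type u) [CommRing T] (σ : κ →+* T) (x y : T),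
        qf (σ a) (σ b) (σ c) (σ α * x + σ β * y) (σ γ * x + σ δ * y) = qf (σ a') (σ b') (σ c') x y := by
  by_cases ha : a = 0
  · subst ha
    by_cases hc : c = 0
    · subst hc
      have hb : b ≠ 0 := fun hb => hD (by rw [hb]; ring)
      refine ⟨b, b, 0, 1, 0, 1, 1, hb, ?_, by simp, fun T _ σ x y => ?_⟩
      · rw [mul_zero, zero_sub, neg_ne_zero]; exact pow_ne_zero _ hb
      · simp only [qf, map_zero, map_one]; ring
    · refine ⟨c, b, 0, 0, 1, 1, 0, hc, ?_, by simp, fun T _ σ x y => ?_⟩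
      · convert hD using 1; ring
      · simp only [qf, map_zero, map_one]; ring
  · exact ⟨a, b, c, 1, 0, 0, 1, ha, hD, by simp, fun T _ σ x y => by simp only [map_zero, map_one]; ring_nf⟩

end Disc

section Complete

variable {S : Type*} [CommRing S] [IsLocalRing S]

theorem isUnit_add_of_mem {x y : S} (hx : IsUnit x) (hy : y ∈ maximalIdeal S) : IsUnit (x + y) := by
  by_contra h
  have := sub_mem ((mem_maximalIdeal (x + y)).2 h) hy
  rw [add_sub_cancel_right] at this
  exact (mem_maximalIdeal x).1 this hx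

variable [IsAdicComplete (maximalIdeal S) S]

/-- An approximate zero of a nondegenerate form can be made exact. -/
theorem exists_exact_quadratic (a b c x y : S) (hgen : Ideal.span {x, y} = maximalIdeal S)
    (hD : IsUnit (4 * a * c - b ^ 2)) (hq : qf a b c x y ∈ maximalIdeal S ^ 3) :
    ∃ x' y' : S, Ideal.span {x', y'} = maximalIdeal S ∧ qf a b c x' y' = 0 := by
  have hfg : (maximalIdeal S).FG := hgen ▸ Submodule.fg_span (Set.toFinite _)
  have gen : ∀ p q : S, p - x ∈ maximalIdeal S ^ 2 → q - y ∈ maximalIdeal S ^ 2 →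
      Ideal.span {p, q} = maximalIdeal S := by
    intro p q hp hq
    have h2 : maximalIdeal S ^ 2 ≤ maximalIdeal S := Ideal.pow_le_self two_ne_zero
    refine le_antisymm ?_ (Submodule.le_of_le_smul_of_le_jacobson_bot hfg (maximalIdeal_le_jacobson _) ?_)
    · rw [Ideal.span_le]
      rintro _ (rfl | rfl)
      · simpa using add_mem (h2 hp) (hgen ▸ Ideal.subset_span (Or.inl rfl) : x ∈ maximalIdeal S)
      · simpa using add_mem (h2 hq) (hgen ▸ Ideal.subset_span (Or.inr rfl) : y ∈ maximalIdeal S)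
    · rw [smul_eq_mul, ← pow_two]
      conv_lhs => rw [← hgen]
      rw [Ideal.span_le]
      intro z hz
      rcases hz with hz | hz
      · rw [SetLike.mem_coe, hz, show x = p - (p - x) by ring]
        exact sub_mem (Submodule.mem_sup_left (Ideal.subset_span (Or.inl rfl))) (Submodule.mem_sup_right hp)
      · rw [SetLike.mem_coe, Set.mem_singleton_iff.1 hz, show y = q - (q - y) by ring]
        exact sub_mem (Submodule.mem_sup_left (Ideal.subset_span (Or.inr rfl))) (Submodule.mem_sup_right hq)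
  obtain ⟨D', hD'⟩ := hD.exists_left_inv
  let Inv : ℕ → S × S → Prop := fun k p =>
    p.1 - x ∈ maximalIdeal S ^ 2 ∧ p.2 - y ∈ maximalIdeal S ^ 2 ∧ qf a b c p.1 p.2 ∈ maximalIdeal S ^ (k + 3)
  have step : ∀ k, ∀ p : S × S, Inv k p → ∃ p' : S × S, Inv (k + 1) p' ∧
      p'.1 - p.1 ∈ maximalIdeal S ^ (k + 2) ∧ p'.2 - p.2 ∈ maximalIdeal S ^ (k + 2) := by
    intro k ⟨p, q⟩ ⟨hp, hq, hpq⟩
    have hmul : maximalIdeal S ^ (k + 3) = maximalIdeal S ^ (k + 2) * Ideal.span {p} ⊔
        maximalIdeal S ^ (k + 2) * Ideal.span {q} := by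
      rw [← Ideal.mul_sup, ← Ideal.span_insert, gen p q hp hq, ← pow_succ]
    dsimp only at hpq ⊢
    rw [hmul] at hpq
    obtain ⟨_, hu, _, hv, hsum⟩ := Submodule.mem_sup.1 hpq
    obtain ⟨α, hα, rfl⟩ := Ideal.mem_mul_span_singleton.1 hu
    obtain ⟨β, hβ, rfl⟩ := Ideal.mem_mul_span_singleton.1 hv
    let d := D' * (b * β - 2 * c * α)
    let e := D' * (b * α - 2 * a * β)
    have hd : d ∈ maximalIdeal S ^ (k + 2) :=
      Ideal.mul_mem_left _ _ (sub_mem (Ideal.mul_mem_left _ _ hβ) (Ideal.mul_mem_left _ _ hα))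
    have he : e ∈ maximalIdeal S ^ (k + 2) :=
      Ideal.mul_mem_left _ _ (sub_mem (Ideal.mul_mem_left _ _ hα) (Ideal.mul_mem_left _ _ hβ))
    have hle : maximalIdeal S ^ (k + 2) ≤ maximalIdeal S ^ 2 := Ideal.pow_le_pow_right (by omega)
    refine ⟨(p + d, q + e), ⟨?_, ?_, ?_⟩, ?_, ?_⟩
    · rw [show p + d - x = (p - x) + d by ring]; exact add_mem hp (hle hd)
    · rw [show q + e - y = (q - y) + e by ring]; exact add_mem hq (hle he)
    · rw [show qf a b c (p + d) (q + e) = qf a b c d e by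
        simp only [qf, d, e] at hsum ⊢
        linear_combination -hsum + (-(α * p) - β * q) * hD']
      have key : ∀ s t : S, s ∈ maximalIdeal S ^ (k + 2) → t ∈ maximalIdeal S ^ (k + 2) →
          s * t ∈ maximalIdeal S ^ (k + 1 + 3) := fun s t hs ht =>
        Ideal.pow_le_pow_right (by omega) (pow_add (maximalIdeal S) (k + 2) (k + 2) ▸ Ideal.mul_mem_mul hs ht)
      simp only [qf, pow_two]
      exact add_mem (add_mem (Ideal.mul_mem_left _ _ (key d d hd hd)) (Ideal.mul_mem_left _ _ (key d e hd he)))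
        (Ideal.mul_mem_left _ _ (key e e he he))
    · rw [show p + d - p = d by ring]; exact hd
    · rw [show q + e - q = e by ring]; exact he
  choose next hnext using step
  let F : ∀ k, {p : S × S // Inv k p} := fun k =>
    Nat.rec ⟨(x, y), by simp, by simp, hq⟩ (fun k p => ⟨next k p.1 p.2, (hnext k p.1 p.2).1⟩) k
  have hstep : ∀ k, (F (k + 1)).1.1 - (F k).1.1 ∈ maximalIdeal S ^ (k + 2) ∧
      (F (k + 1)).1.2 - (F k).1.2 ∈ maximalIdeal S ^ (k + 2) :=
    fun k => (hnext k (F k).1 (F k).2).2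
  have lim : ∀ g : ℕ → S, (∀ k, g (k + 1) - g k ∈ maximalIdeal S ^ (k + 2)) →
      ∃ z, ∀ k, g k - z ∈ maximalIdeal S ^ k := by
    intro g hg
    obtain ⟨z, hz⟩ := IsPrecomplete.prec' (I := maximalIdeal S) g fun {m n} hmn => by
      rw [SModEq.sub_mem, smul_eq_mul, Ideal.mul_top]
      induction n, hmn using Nat.le_induction with
      | base => rw [sub_self]; exact zero_mem _
      | succ n hmn ih =>
        rw [show g m - g (n + 1) = (g m - g n) - (g (n + 1) - g n) by ring]
        exact sub_mem ih (Ideal.pow_le_pow_right (by omega) (hg n))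
    exact ⟨z, fun k => by simpa [SModEq.sub_mem] using hz k⟩
  obtain ⟨x', hx'⟩ := lim (fun k => (F k).1.1) fun k => (hstep k).1
  obtain ⟨y', hy'⟩ := lim (fun k => (F k).1.2) fun k => (hstep k).2
  refine ⟨x', y', gen x' y' ?_ ?_, IsHausdorff.haus ‹IsAdicComplete (maximalIdeal S) S›.toIsHausdorff _ fun k => ?_⟩
  · rw [show x' - x = ((F 2).1.1 - x) - ((F 2).1.1 - x') by ring]
    exact sub_mem (F 2).2.1 (hx' 2)
  · rw [show y' - y = ((F 2).1.2 - y) - ((F 2).1.2 - y') by ring]
    exact sub_mem (F 2).2.2.1 (hy' 2)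
  · rw [SModEq.zero, smul_eq_mul, Ideal.mul_top,
      show qf a b c x' y' = qf a b c (F k).1.1 (F k).1.2 -
        ((F k).1.1 - x') * (a * ((F k).1.1 + x') + b * (F k).1.2) -
        ((F k).1.2 - y') * (b * x' + c * ((F k).1.2 + y')) by simp only [qf]; ring]
    exact sub_mem (sub_mem (Ideal.pow_le_pow_right (by omega) (F k).2.2.2) (Ideal.mul_mem_right _ _ (hx' k)))
      (Ideal.mul_mem_right _ _ (hy' k))

end Complete

/-- A separable algebraic extension has at most one lift into a local ring with given reduction. -/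
theorem eq_of_separable {k κ T : Type*} [Field k] [Field κ] [CommRing T] [IsLocalRing T] [Algebra k κ]
    [Algebra.IsSeparable k κ] [Algebra k T] (f g : κ →ₐ[k] T) (h : ∀ c, f c - g c ∈ maximalIdeal T) : f = g := by
  refine AlgHom.ext fun c => sub_eq_zero.1 ?_
  set p := minpoly k c
  obtain ⟨w, hw⟩ := Polynomial.binomExpansion (p.map (algebraMap k T)) (g c) (f c - g c)
  simp only [add_sub_cancel, Polynomial.derivative_map, Polynomial.eval_map_algebraMap,
    Polynomial.aeval_algHom_apply, p, minpoly.aeval, map_zero, zero_add] at hw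
  have hu : IsUnit (g (Polynomial.aeval c (Polynomial.derivative (minpoly k c)))) :=
    (IsUnit.mk0 _ ((Algebra.IsSeparable.isSeparable k c).aeval_derivative_ne_zero (minpoly.aeval k c))).map g
  exact (isUnit_add_of_mem hu (Ideal.mul_mem_left _ w (h c))).mul_right_eq_zero.1 (by rw [hw]; ring)

/-- A finite separable residue field lifts to the completion. -/
theorem exists_coeffField (k κ A : Type u) [Field k] [Field κ] [CommRing A] [IsLocalRing A] [IsNoetherianRing A]
    [Algebra k A] [Algebra k κ] [FiniteDimensional k κ] [Algebra.IsSeparable k κ]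
    (π : A →ₐ[k] κ) (hπ : Function.Surjective π) (hker : RingHom.ker π.toRingHom = maximalIdeal A) :
    ∃ ι : κ →ₐ[k] AdicCompletion (maximalIdeal A) A,
      ∀ a : A, ι (π a) - algebraMap A (AdicCompletion (maximalIdeal A) A) a ∈
        maximalIdeal (AdicCompletion (maximalIdeal A) A) := by
  let S := AdicCompletion (maximalIdeal A) A
  let j : A →ₐ[k] S := IsScalarTower.toAlgHom k A S
  have hj : ∀ a ∈ maximalIdeal A, j a ∈ maximalIdeal S := fun a ha => by
    rw [AdicCompletion.maximalIdeal_eq_map]; exact Ideal.mem_map_of_mem _ ha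
  let pb := Field.powerBasisOfFiniteOfSeparable k κ
  obtain ⟨a₀, ha₀⟩ := hπ pb.gen
  set p := minpoly k pb.gen
  have hp : (p.map (algebraMap k S)).Monic := (minpoly.monic (Algebra.IsIntegral.isIntegral pb.gen)).map _
  have hev : (p.map (algebraMap k S)).eval (j a₀) ∈ maximalIdeal S := by
    rw [Polynomial.eval_map_algebraMap, Polynomial.aeval_algHom_apply]
    refine hj _ ?_
    rw [← hker, RingHom.mem_ker]
    change π (Polynomial.aeval a₀ p) = 0
    rw [← Polynomial.aeval_algHom_apply, ha₀, minpoly.aeval]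
  have hder : IsUnit (Ideal.Quotient.mk (maximalIdeal S) ((p.map (algebraMap k S)).derivative.eval (j a₀))) := by
    refine IsUnit.map _ ?_
    rw [Polynomial.derivative_map, Polynomial.eval_map_algebraMap, Polynomial.aeval_algHom_apply]
    refine IsUnit.map _ ((notMem_maximalIdeal).1 ?_)
    rw [← hker, RingHom.mem_ker]
    change π (Polynomial.aeval a₀ _) ≠ 0
    rw [← Polynomial.aeval_algHom_apply, ha₀]
    exact (Algebra.IsSeparable.isSeparable k pb.gen).aeval_derivative_ne_zero (minpoly.aeval k pb.gen)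
  obtain ⟨r, hr, hrc⟩ := HenselianRing.is_henselian (I := maximalIdeal S) _ hp (j a₀) hev hder
  rw [Polynomial.IsRoot, Polynomial.eval_map_algebraMap] at hr
  refine ⟨pb.lift r hr, fun a => ?_⟩
  obtain ⟨f, hf⟩ := pb.exists_eq_aeval' (π a)
  have h2 : a - Polynomial.aeval a₀ f ∈ maximalIdeal A := by
    rw [← hker, RingHom.mem_ker]
    change π (a - _) = 0
    rw [map_sub, ← Polynomial.aeval_algHom_apply, ha₀, ← hf, sub_self]
  have h1 : Polynomial.aeval r f - Polynomial.aeval (j a₀) f ∈ maximalIdeal S := by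
    rw [← Polynomial.eval_map_algebraMap, ← Polynomial.eval_map_algebraMap]
    exact (maximalIdeal S).mem_of_dvd (Polynomial.sub_dvd_eval_sub _ _ _) hrc
  have h3 := sub_mem h1 (hj _ h2)
  rw [hf, PowerBasis.lift_aeval]
  convert h3 using 1
  rw [map_sub, ← Polynomial.aeval_algHom_apply]
  change _ - algebraMap A S a = _ - (algebraMap A S a - _)
  ring

end Groth.L21.Nodal
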