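import Groth.Agent.L21.Nodal.NodalLocus
import Groth.Agent.L22.AffineDim
import Mathlib.RingTheory.RingHom.StandardSmooth
import Mathlib.RingTheory.TensorProduct.MvPolynomial
import Mathlib.RingTheory.Ideal.Height

/-! Smooth families of relative dimension one are nodal; etale charts over affine space of other
dimensions never are. -/

set_option autoImplicit false
universe u

open CategoryTheory CategoryTheory.Limits AlgebraicGeometry TopologicalSpace

noncomputable section

namespace Groth.L21.Nodal

/-- The projection of affine space to its base. -/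
abbrev affProj (n : ℕ) (C : Type u) [CommRing C] :
    Spec (CommRingCat.of (MvPolynomial (Fin n) C)) ⟶ Spec (CommRingCat.of C) :=
  Spec.map (CommRingCat.ofHom MvPolynomial.C)

attribute [local instance] MvPolynomial.algebraMvPolynomial in
theorem isPullback_affProj (n : ℕ) {C K : Type u} [CommRing C] [CommRing K] (φ : C →+* K) :
    IsPullback (Spec.map (CommRingCat.ofHom (MvPolynomial.map φ))) (affProj n K) (affProj n C)
      (Spec.map (CommRingCat.ofHom φ)) := by
  letI := φ.toAlgebra
  refine isPullback_SpecMap_of_isPushout _ _ _ _ ?_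
  exact (CommRingCat.isPushout_iff_isPushout (R := C) (R' := MvPolynomial (Fin n) C) (S := K)
    (S' := MvPolynomial (Fin n) K)).2 inferInstance

theorem curveLike_spec_pid (A : Type u) [CommRing A] [IsDomain A] [IsPrincipalIdealRing A] (hA : ¬ IsField A) :
    CurveLike (Spec (CommRingCat.of A)) := by
  show CurveLike (PrimeSpectrum A)
  refine ⟨fun a b c hab hbc => ?_, fun x hx => ?_⟩
  · rw [← PrimeSpectrum.le_iff_specializes] at hab hbc
    by_cases hb : b.asIdeal = ⊥
    · exact Or.inl (le_antisymm hab (by show b.asIdeal ≤ a.asIdeal; rw [hb]; exact bot_le))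
    · haveI := IsPrime.to_maximal_ideal (hpi := b.2) hb
      exact Or.inr (PrimeSpectrum.ext (Ideal.IsMaximal.eq_of_le inferInstance c.2.ne_top hbc))
  · have hm := (PrimeSpectrum.isClosed_singleton_iff_isMaximal x).1 hx
    refine ⟨⟨⊥, Ideal.isPrime_bot⟩, fun e => ?_, (PrimeSpectrum.le_iff_specializes _ _).1 bot_le⟩
    exact Ring.ne_bot_of_isMaximal_of_not_isField hm hA (congrArg PrimeSpectrum.asIdeal e).symm

theorem curveLike_affineLine (K : Type u) [Field K] :
    CurveLike (Spec (CommRingCat.of (MvPolynomial (Fin 1) K))) := by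
  haveI : IsPrincipalIdealRing (MvPolynomial (Fin 1) K) :=
    IsPrincipalIdealRing.of_surjective (MvPolynomial.uniqueAlgEquiv K (Fin 1)).symm.toRingHom
      (MvPolynomial.uniqueAlgEquiv K (Fin 1)).symm.surjective
  refine curveLike_spec_pid _ fun h => ?_
  exact Polynomial.not_isField K ((MvPolynomial.uniqueAlgEquiv K (Fin 1)).toRingEquiv.symm.toMulEquiv.isField h)

/-- The affine line over any affine base is a nodal family. -/
theorem isNodalFamily_affineLine (C : CommRingCat.{u}) : Curv2.IsNodalFamily (affProj 1 C) := by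
  haveI : Smooth (affProj 1 C) := by
    rw [HasRingHomProperty.Spec_iff (P := @Smooth)]
    change (algebraMap C (MvPolynomial (Fin 1) C)).Smooth
    rw [RingHom.smooth_algebraMap]
    exact ⟨inferInstance, inferInstance⟩
  refine ⟨inferInstance, inferInstance, fun s => ?_⟩
  let K := (Spec C).residueField s
  let χ := Spec.preimage ((Spec C).fromSpecResidueField s)
  have hψ := isPullback_affProj 1 χ.hom
  rw [show Spec.map (CommRingCat.ofHom χ.hom) = (Spec C).fromSpecResidueField s from Spec.map_preimage _] at hψ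
  have hfib : IsPullback ((affProj 1 C).fiberι s) ((affProj 1 C).fiberToSpecResidueField s) (affProj 1 C)
      ((Spec C).fromSpecResidueField s) := IsPullback.of_hasPullback _ _
  let ι := hfib.isoIsPullback _ _ hψ
  letI : ((affProj 1 C).fiber s).Over (Spec (CommRingCat.of K)) := ⟨(affProj 1 C).fiberToSpecResidueField s⟩
  haveI : LocallyOfFiniteType (affProj 1 (K : Type u)) := by
    rw [HasRingHomProperty.Spec_iff (P := @LocallyOfFiniteType)]
    change (algebraMap K (MvPolynomial (Fin 1) K)).FiniteType
    rw [RingHom.finiteType_algebraMap]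
    infer_instance
  haveI : JacobsonSpace (Spec (CommRingCat.of (MvPolynomial (Fin 1) K))) :=
    LocallyOfFiniteType.jacobsonSpace (affProj 1 (K : Type u))
  refine ⟨(curveLike_iff _).1 ((curveLike_affineLine K).of_quasiFinite ι.hom), fun x _ => Or.inl ⟨⊤, trivial, ?_⟩⟩
  haveI : Smooth ((affProj 1 C).fiberToSpecResidueField s) := MorphismProperty.pullback_snd _ _ inferInstance
  change Smooth ((⊤ : ((affProj 1 C).fiber s).Opens).ι ≫ (affProj 1 C).fiberToSpecResidueField s)
  infer_instance

/-- A curve is not etale over affine space of dimension other than one. -/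
theorem eq_one_of_curveLike (n : ℕ) (K : Type u) [Field K] {Z : Scheme.{u}} [Nonempty Z]
    (e : Z ⟶ Spec (CommRingCat.of (MvPolynomial (Fin n) K))) [Etale e] (hZ : CurveLike Z) : n = 1 := by
  haveI : LocallyOfFiniteType (affProj n K) := by
    rw [HasRingHomProperty.Spec_iff (P := @LocallyOfFiniteType)]
    change (algebraMap K (MvPolynomial (Fin n) K)).FiniteType
    rw [RingHom.finiteType_algebraMap]
    infer_instance
  haveI : JacobsonSpace (Spec (CommRingCat.of (MvPolynomial (Fin n) K))) :=
    LocallyOfFiniteType.jacobsonSpace (affProj n K)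
  haveI : JacobsonSpace Z := LocallyOfFiniteType.jacobsonSpace (e ≫ affProj n K)
  obtain ⟨z, -, hz⟩ := exists_closed_specialization (Classical.arbitrary Z)
  let em : PrimeSpectrum (MvPolynomial (Fin n) K) := e z
  haveI hm : em.asIdeal.IsMaximal := (PrimeSpectrum.isClosed_singleton_iff_isMaximal em).1
    (e.closePoints_subset_preimage_closedPoints hz)
  have hht : (em.asIdeal.height : WithBot ℕ∞) = (n : WithBot ℕ∞) := by
    rw [Groth.L22.AffineDim.height_of_isMaximal K, MvPolynomial.ringKrullDim_of_isNoetherianRing,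
      ringKrullDim_eq_zero_of_field, Nat.card_fin, zero_add]
  have hht' : em.asIdeal.height = (n : ℕ∞) := by exact_mod_cast hht
  rcases Nat.lt_or_ge n 1 with h0 | h1
  · obtain ⟨y, hy, hyz⟩ := hZ.2 z hz
    refine absurd (eq_of_specializes e hyz ?_) hy
    obtain rfl : n = 0 := by omega
    haveI : Subsingleton (PrimeSpectrum (MvPolynomial (Fin 0) K)) :=
      (PrimeSpectrum.homeomorphOfRingEquiv (MvPolynomial.isEmptyAlgEquiv K (Fin 0)).toRingEquiv).injective.subsingleton
    exact Subsingleton.elim (α := PrimeSpectrum (MvPolynomial (Fin 0) K)) (e y) (e z)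
  refine le_antisymm ?_ h1
  by_contra hn
  have hnot : ¬ em.asIdeal.height ≤ ((1 : ℕ) : ℕ∞) := by
    rw [hht']
    exact_mod_cast hn
  rw [Ideal.height_le_iff] at hnot
  push Not at hnot
  obtain ⟨q, hq, hqlt, hqh⟩ := hnot
  haveI := hq
  have hq0 : q ≠ ⊥ := by
    rintro rfl
    simp at hqh
  let q2 : PrimeSpectrum (MvPolynomial (Fin n) K) := ⟨q, hq⟩
  let q1 : PrimeSpectrum (MvPolynomial (Fin n) K) := ⟨⊥, Ideal.isPrime_bot⟩
  have s2 : q2 ⤳ em := (PrimeSpectrum.le_iff_specializes q2 em).1 hqlt.le
  have s1 : q1 ⤳ q2 := (PrimeSpectrum.le_iff_specializes q1 q2).1 bot_le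
  obtain ⟨b, hb, hb'⟩ := Flat.generalizingMap e s2
  obtain ⟨a, ha, ha'⟩ := Flat.generalizingMap e (show q1 ⤳ e b by rw [hb']; exact s1)
  rcases hZ.1 a b z ha hb with h | h
  · exact hq0 (congrArg PrimeSpectrum.asIdeal (show q1 = q2 by rw [← ha', ← hb', h])).symm
  · exact hqlt.ne (congrArg PrimeSpectrum.asIdeal (show q2 = em by rw [← hb', h]))

end Groth.L21.Nodal
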