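import Groth.Agent.L21.Nodal.FieldChange
import Groth.Agent.L21.Nodal.EtaleLocal
import Mathlib.AlgebraicGeometry.Morphisms.FormallyUnramified
import Mathlib.RingTheory.Unramified.Finite

/-! A nodal family composed with an etale morphism to a further base is a nodal family. -/

set_option autoImplicit false
universe u

open CategoryTheory CategoryTheory.Limits AlgebraicGeometry TopologicalSpace IsLocalRing

noncomputable section

namespace Groth.L21.Nodal

variable {X S S' : Scheme.{u}} (e : S' ⟶ S) [Etale e] (f : X ⟶ S')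

theorem finiteDimensional_residueFieldMap (s' : S') :
    letI := (e.residueFieldMap s').hom.toAlgebra
    FiniteDimensional (S.residueField (e s')) (S'.residueField s') := by
  letI := (e.residueFieldMap s').hom.toAlgebra
  haveI : Algebra.IsSeparable (S.residueField (e s')) (S'.residueField s') := inferInstance
  have h1 : (e.residueFieldMap s').hom.EssFiniteType := by
    have h2 : ((S'.residue s').hom.comp (e.stalkMap s').hom).EssFiniteType :=
      RingHom.EssFiniteType.comp (LocallyOfFiniteType.stalkMap e s')
        (RingHom.FiniteType.of_surjective _ (S'.residue_surjective s')).essFiniteType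
    rw [← CommRingCat.hom_comp, ← Scheme.residue_residueFieldMap, CommRingCat.hom_comp] at h2
    exact RingHom.EssFiniteType.of_comp _ h2
  haveI : Algebra.EssFiniteType (S.residueField (e s')) (S'.residueField s') :=
    RingHom.essFiniteType_algebraMap.1 h1
  haveI : Algebra.FormallyEtale (S.residueField (e s')) (S'.residueField s') :=
    Algebra.FormallyEtale.of_isSeparable _ _
  exact Algebra.FormallyUnramified.finite_of_free _ _

theorem exists_pieceMap (hf : Curv2.IsNodalFamily f) (s : S) (s' : S') (hs : e s' = s) :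
    ∃ (φ : f.fiber s' ⟶ (f ≫ e).fiber s), φ ≫ (f ≫ e).fiberι s = f.fiberι s' ∧ Etale φ ∧
      (letI : (f.fiber s').Over (Spec (S.residueField s)) := ⟨φ ≫ (f ≫ e).fiberToSpecResidueField s⟩;
        Curv2.AtWorstNodal (S.residueField s) (f.fiber s')) := by
  subst hs
  letI := (e.residueFieldMap s').hom.toAlgebra
  haveI := finiteDimensional_residueFieldMap e s'
  haveI : Algebra.IsSeparable (S.residueField (e s')) (S'.residueField s') := inferInstance
  let r := Spec.map (e.residueFieldMap s')
  haveI hr : Etale r := etale_SpecMap (S.residueField (e s')) (S'.residueField s')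
  let b := S.fromSpecResidueField (e s')
  have hrb : r ≫ b = S'.fromSpecResidueField s' ≫ e :=
    Scheme.Hom.SpecMap_residueFieldMap_fromSpecResidueField e s'
  let P := pullback e b
  let sec : Spec (S'.residueField s') ⟶ P := pullback.lift (S'.fromSpecResidueField s') r hrb.symm
  haveI : Etale (pullback.snd e b) := MorphismProperty.pullback_snd e b inferInstance
  haveI : Etale sec := by
    haveI : Etale (sec ≫ pullback.snd e b) := by rw [pullback.lift_snd]; exact hr
    exact Etale.of_comp sec (pullback.snd e b)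
  let F := (f ≫ e).fiber (e s')
  have hfac : (f ≫ e).fiberι (e s') ≫ f ≫ e = (f ≫ e).fiberToSpecResidueField (e s') ≫ b :=
    (f ≫ e).fiber_fac (e s')
  let q : F ⟶ P := pullback.lift ((f ≫ e).fiberι (e s') ≫ f) ((f ≫ e).fiberToSpecResidueField (e s'))
    (by rw [Category.assoc]; exact hfac)
  let φ : f.fiber s' ⟶ F := pullback.lift (f.fiberι s') (f.fiberToSpecResidueField s' ≫ r) (by
    rw [Category.assoc]
    change f.fiberι s' ≫ f ≫ e = f.fiberToSpecResidueField s' ≫ r ≫ b
    rw [hrb, ← Category.assoc, f.fiber_fac, Category.assoc])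
  have h1 : φ ≫ (f ≫ e).fiberι (e s') = f.fiberι s' := pullback.lift_fst _ _ _
  have h2 : φ ≫ (f ≫ e).fiberToSpecResidueField (e s') = f.fiberToSpecResidueField s' ≫ r :=
    pullback.lift_snd _ _ _
  have q1 : q ≫ pullback.fst e b = (f ≫ e).fiberι (e s') ≫ f := pullback.lift_fst _ _ _
  have q2 : q ≫ pullback.snd e b = (f ≫ e).fiberToSpecResidueField (e s') := pullback.lift_snd _ _ _
  have sqA : IsPullback ((f ≫ e).fiberι (e s')) q f (pullback.fst e b) := by
    refine IsPullback.of_bot ?_ q1.symm (IsPullback.of_hasPullback e b)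
    rw [q2]
    exact IsPullback.of_hasPullback _ _
  have hsec : sec ≫ pullback.fst e b = S'.fromSpecResidueField s' := pullback.lift_fst _ _ _
  have hq : φ ≫ q = f.fiberToSpecResidueField s' ≫ sec := by
    apply pullback.hom_ext
    · rw [Category.assoc, q1, ← Category.assoc, h1, Category.assoc, hsec]
      exact f.fiber_fac s'
    · rw [Category.assoc, q2, h2, Category.assoc, pullback.lift_snd]
  have sqB : IsPullback φ (f.fiberToSpecResidueField s') q sec := by
    refine IsPullback.of_right ?_ hq sqA
    rw [h1, hsec]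
    exact IsPullback.of_hasPullback _ _
  refine ⟨φ, h1, MorphismProperty.of_isPullback sqB.flip ‹Etale sec›, ?_⟩
  rw [h2]
  letI : (f.fiber s').Over (Spec (CommRingCat.of (S'.residueField s'))) := ⟨f.fiberToSpecResidueField s'⟩
  letI : (f.fiber s').Over (Spec (CommRingCat.of (S.residueField (e s')))) :=
    ⟨f.fiberToSpecResidueField s' ≫ r⟩
  haveI := hf.2.1
  haveI : LocallyOfFiniteType (f.fiber s' ↘ Spec (CommRingCat.of (S'.residueField s'))) :=
    MorphismProperty.pullback_snd _ _ inferInstance
  haveI : LocallyOfFiniteType (f.fiber s' ↘ Spec (CommRingCat.of (S.residueField (e s')))) := by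
    haveI : LocallyOfFiniteType (f.fiberToSpecResidueField s') := MorphismProperty.pullback_snd _ _ inferInstance
    exact inferInstanceAs (LocallyOfFiniteType (f.fiberToSpecResidueField s' ≫ r))
  intro z hz
  rcases (hf.2.2 s').2 z hz with ⟨U, hzU, hU⟩ | hn
  · refine Or.inl ⟨U, hzU, ?_⟩
    haveI : Smooth (U.ι ≫ f.fiberToSpecResidueField s') := hU
    change Smooth (U.ι ≫ f.fiberToSpecResidueField s' ≫ r)
    rw [← Category.assoc]
    infer_instance
  · exact Or.inr ((isNode_iff_subfield (k := S.residueField (e s')) (k' := S'.residueField s') rfl z).1 hn)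

theorem postcomp_etale (hf : Curv2.IsNodalFamily f) : Curv2.IsNodalFamily (f ≫ e) := by
  haveI := hf.1
  haveI := hf.2.1
  refine ⟨inferInstance, inferInstance, fun s => ?_⟩
  choose φ hι het hn using fun i : {s' : S' // e s' = s} => exists_pieceMap e f hf s i.1 i.2
  letI : ((f ≫ e).fiber s).Over (Spec (S.residueField s)) := ⟨(f ≫ e).fiberToSpecResidueField s⟩
  letI : ∀ i : {s' : S' // e s' = s}, (f.fiber i.1).Over (Spec (S.residueField s)) := fun i =>
    ⟨φ i ≫ (f ≫ e).fiberToSpecResidueField s⟩
  haveI : LocallyOfFiniteType ((f ≫ e).fiberToSpecResidueField s) := MorphismProperty.pullback_snd _ _ inferInstance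
  haveI : LocallyOfFiniteType ((f ≫ e).fiber s ↘ Spec (S.residueField s)) :=
    ‹LocallyOfFiniteType ((f ≫ e).fiberToSpecResidueField s)›
  haveI : ∀ i : {s' : S' // e s' = s}, LocallyOfFiniteType (f.fiber i.1 ↘ Spec (S.residueField s)) := fun i => by
    haveI := het i
    exact inferInstanceAs (LocallyOfFiniteType (φ i ≫ (f ≫ e).fiberToSpecResidueField s))
  haveI : ∀ i : {s' : S' // e s' = s}, JacobsonSpace (f.fiber i.1) := fun i =>
    LocallyOfFiniteType.jacobsonSpace (f.fiber i.1 ↘ Spec (S.residueField s))
  have hsurj : ∀ x : (f ≫ e).fiber s, ∃ i, x ∈ Set.range (φ i) := fun x => by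
    have hx : e (f ((f ≫ e).fiberι s x)) = s := by
      have := Scheme.Hom.range_fiberι (f ≫ e) s ▸ Set.mem_range_self (f := (f ≫ e).fiberι s) x
      exact this
    obtain ⟨z, hz⟩ : (f ≫ e).fiberι s x ∈ Set.range (f.fiberι (f ((f ≫ e).fiberι s x))) := by
      rw [Scheme.Hom.range_fiberι]
      rfl
    refine ⟨⟨_, hx⟩, z, ((f ≫ e).fiberι s).isEmbedding.injective ?_⟩
    rw [← Scheme.Hom.comp_apply, hι, hz]
  exact ⟨(curveLike_iff _).1 (CurveLike.of_cover _ φ hsurj fun i => (curveLike_iff _).2 (hf.2.2 i.1).1),
    atWorstNodal_of_cover (k := S.residueField s) _ φ (fun _ => rfl) hsurj hn⟩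

end Groth.L21.Nodal
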