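import Groth.Agent.L21.Nodal.AlgNode

/-! The algebraic characterisation of nodes for formally smooth residue fields. -/

set_option autoImplicit false
universe u

open IsLocalRing

noncomputable section

namespace Groth.L21.Nodal

/-- A formally smooth residue field lifts to the completion. -/
theorem exists_coeffField_fs (k A : Type u) [Field k] [CommRing A] [IsLocalRing A] [IsNoetherianRing A]
    [Algebra k A] [Algebra.FormallySmooth k (ResidueField A)] :
    ∃ ι : ResidueField A →ₐ[k] AdicCompletion (maximalIdeal A) A,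
      ∀ a : A, ι (residue A a) - algebraMap A (AdicCompletion (maximalIdeal A) A) a ∈
        maximalIdeal (AdicCompletion (maximalIdeal A) A) := by
  obtain ⟨g, hg⟩ := Algebra.FormallySmooth.exists_adicCompletionEvalOneₐ_comp_eq (I := maximalIdeal A)
    (AlgHom.id k (ResidueField A) : ResidueField A →ₐ[k] A ⧸ maximalIdeal A)
  refine ⟨g, fun a => IsLocalRing.le_maximalIdeal
    (RingHom.ker_ne_top (AdicCompletion.evalOneₐ (maximalIdeal A)).toRingHom) ?_⟩
  rw [RingHom.mem_ker, map_sub]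
  refine sub_eq_zero.2 ((DFunLike.congr_fun hg (residue A a)).trans ?_)
  exact ((AdicCompletion.evalOneₐ (maximalIdeal A)).commutes a).symm

/-- A reduced ring with a nondegenerate quadratic cone in two variables is formally a node. -/
theorem node_of_quad (k A : Type u) [Field k] [CommRing A] [IsLocalRing A] [IsNoetherianRing A]
    [Algebra k A] [Algebra.FormallySmooth k (ResidueField A)] [IsReduced A]
    (hdim : Module.finrank (ResidueField A) (CotangentSpace A) = 2) (x y a b c : A)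
    (hx : x ∈ maximalIdeal A) (hy : y ∈ maximalIdeal A)
    (hgen : Ideal.span {x, y} ⊔ maximalIdeal A ^ 2 = maximalIdeal A)
    (hD : residue A (4 * a * c - b ^ 2) ≠ 0)
    (hq : a * x ^ 2 + b * x * y + c * y ^ 2 ∈ maximalIdeal A ^ 3) :
    ∃ a b c : ResidueField A, 4 * a * c - b ^ 2 ≠ 0 ∧
      ∃ e : AdicCompletion (maximalIdeal A) A ≃+*
          (MvPowerSeries (Fin 2) (ResidueField A) ⧸ Ideal.span
            {(MvPowerSeries.C a * MvPowerSeries.X 0 ^ 2 + MvPowerSeries.C b * MvPowerSeries.X 0 * MvPowerSeries.X 1 +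
              MvPowerSeries.C c * MvPowerSeries.X 1 ^ 2 : MvPowerSeries (Fin 2) (ResidueField A))}),
        ∀ t : k, e (algebraMap A _ (algebraMap k A t)) =
          Ideal.Quotient.mk _ (MvPowerSeries.C (algebraMap A (ResidueField A) (algebraMap k A t))) := by
  let S := AdicCompletion (IsLocalRing.maximalIdeal A) A
  let j : A →+* S := algebraMap A S
  have hj : ∀ (n : ℕ) (z : A), z ∈ IsLocalRing.maximalIdeal A ^ n → j z ∈ IsLocalRing.maximalIdeal S ^ n := fun n z hz => by
    rw [AdicCompletion.maximalIdeal_eq_map, ← Ideal.map_pow]; exact Ideal.mem_map_of_mem _ hz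
  have hj' : ∀ (n : ℕ) (z : A), j z ∈ IsLocalRing.maximalIdeal S ^ n → z ∈ IsLocalRing.maximalIdeal A ^ n :=
    fun n z hz => Groth.L21.Nodal.mem_pow_of_algebraMap_mem hz
  obtain ⟨ι, hι⟩ := exists_coeffField_fs k A
  have hgenA : Ideal.span {x, y} = IsLocalRing.maximalIdeal A := by
    refine le_antisymm (Ideal.span_le.2 ?_) (Submodule.le_of_le_smul_of_le_jacobson_bot (IsNoetherian.noetherian _)
      (IsLocalRing.maximalIdeal_le_jacobson ⊥) (by rw [Ideal.smul_eq_mul, ← pow_two, hgen]))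
    rintro _ (rfl | rfl) <;> assumption
  have hgenS : Ideal.span {j x, j y} = IsLocalRing.maximalIdeal S := by
    rw [AdicCompletion.maximalIdeal_eq_map, ← Set.image_pair, ← Ideal.map_span]
    exact congrArg _ hgenA
  have hjx : j x ∈ IsLocalRing.maximalIdeal S := hgenS ▸ Ideal.subset_span (Or.inl rfl)
  have hjy : j y ∈ IsLocalRing.maximalIdeal S := hgenS ▸ Ideal.subset_span (Or.inr rfl)
  let r := IsLocalRing.residue A
  have hq₀ : Groth.L21.Nodal.qf (ι (r a)) (ι (r b)) (ι (r c)) (j x) (j y) ∈ IsLocalRing.maximalIdeal S ^ 3 := by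
    have h1 : j (Groth.L21.Nodal.qf a b c x y) ∈ IsLocalRing.maximalIdeal S ^ 3 := hj 3 _ (by
      rw [Groth.L21.Nodal.qf, ← mul_assoc]; exact hq)
    rw [Groth.L21.Nodal.map_qf] at h1
    have key : ∀ (t : A) (z : S), z ∈ IsLocalRing.maximalIdeal S ^ 2 →
        (ι (r t) - j t) * z ∈ IsLocalRing.maximalIdeal S ^ 3 :=
      fun t z hz => by rw [pow_succ']; exact Ideal.mul_mem_mul (hι t) hz
    have h2 := add_mem h1 (add_mem (add_mem (key a (j x ^ 2) (Ideal.pow_mem_pow hjx 2))
      (key b (j x * j y) (by rw [pow_two]; exact Ideal.mul_mem_mul hjx hjy))) (key c (j y ^ 2) (Ideal.pow_mem_pow hjy 2)))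
    convert h2 using 1
    simp only [Groth.L21.Nodal.qf]
    ring
  have hdisc : 4 * r a * r c - r b ^ 2 ≠ 0 := by simpa [r, map_ofNat] using hD
  obtain ⟨a', b', c', α, β, γ, δ, ha', hdisc', hαδ, hT⟩ := Groth.L21.Nodal.exists_normal_form.{u} _ _ _ hdisc
  let d := α * δ - β * γ
  let x₀ := ι (δ / d) * j x - ι (β / d) * j y
  let y₀ := ι (α / d) * j y - ι (γ / d) * j x
  have hxu : ι α * x₀ + ι β * y₀ = j x := by
    have h1 : ι α * ι (δ / d) - ι β * ι (γ / d) = 1 := by
      rw [← map_mul, ← map_mul, ← map_sub, ← map_one ι, mul_div_assoc', mul_div_assoc', ← sub_div, div_self hαδ]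
    have h2 : ι β * ι (α / d) = ι α * ι (β / d) := by rw [← map_mul, ← map_mul]; congr 1; ring
    linear_combination (j x) * h1 + (j y) * h2
  have hyv : ι γ * x₀ + ι δ * y₀ = j y := by
    have h1 : ι δ * ι (α / d) - ι γ * ι (β / d) = 1 := by
      rw [← map_mul, ← map_mul, ← map_sub, ← map_one ι, mul_div_assoc', mul_div_assoc', ← sub_div, mul_comm δ α,
        mul_comm γ β, div_self hαδ]
    have h2 : ι γ * ι (δ / d) = ι δ * ι (γ / d) := by rw [← map_mul, ← map_mul]; congr 1; ring
    linear_combination (j y) * h1 + (j x) * h2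
  have hgen₀ : Ideal.span {x₀, y₀} = IsLocalRing.maximalIdeal S := by
    rw [← hgenS]
    refine le_antisymm ?_ ?_
    · rw [Ideal.span_le]
      rintro _ (rfl | rfl)
      · exact Ideal.mem_span_pair.2 ⟨ι (δ / d), -ι (β / d), by ring⟩
      · exact Ideal.mem_span_pair.2 ⟨-ι (γ / d), ι (α / d), by ring⟩
    · rw [Ideal.span_le]
      rintro _ (rfl | rfl)
      · exact Ideal.mem_span_pair.2 ⟨_, _, hxu⟩
      · exact Ideal.mem_span_pair.2 ⟨_, _, hyv⟩
  have hq₁ : Groth.L21.Nodal.qf (ι a') (ι b') (ι c') x₀ y₀ ∈ IsLocalRing.maximalIdeal S ^ 3 := by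
    have h1 := hT S ι.toRingHom x₀ y₀
    simp only [AlgHom.toRingHom_eq_coe, RingHom.coe_coe] at h1
    rw [hxu, hyv] at h1
    exact h1 ▸ hq₀
  obtain ⟨x₁, y₁, hgen₁, hq₂⟩ := Groth.L21.Nodal.exists_exact_quadratic (ι a') (ι b') (ι c') x₀ y₀ hgen₀ (by
    convert (IsUnit.mk0 _ hdisc').map ι using 1
    simp [map_ofNat]) hq₁
  letI : Algebra (IsLocalRing.ResidueField A) S := ι.toRingHom.toAlgebra
  obtain ⟨φ, hφ⟩ := Groth.L12.exists_evalPS (R := IsLocalRing.ResidueField A) (IsLocalRing.maximalIdeal S) ![x₁, y₁]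
    (fun i => by fin_cases i <;> exact hgen₁ ▸ Ideal.subset_span (by simp))
  have hφC : ∀ z, φ (MvPowerSeries.C z) = ι z := fun z => φ.commutes z
  have hI : (IsLocalRing.maximalIdeal (MvPowerSeries (Fin 2) (IsLocalRing.ResidueField A))).map φ.toRingHom =
      IsLocalRing.maximalIdeal S := by
    rw [← Groth.L21.Nodal.span_X_eq_maximalIdeal, Ideal.map_span, Set.image_pair, ← hgen₁,
      show φ.toRingHom (MvPowerSeries.X 0) = x₁ from hφ 0, show φ.toRingHom (MvPowerSeries.X 1) = y₁ from hφ 1]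
  have hsurj : Function.Surjective φ := by
    have hr : Ideal.span (Set.range (MvPowerSeries.X : Fin 2 → MvPowerSeries (Fin 2) (IsLocalRing.ResidueField A))) =
        IsLocalRing.maximalIdeal (MvPowerSeries (Fin 2) (IsLocalRing.ResidueField A)) := by
      rw [← Groth.L21.Nodal.span_X_eq_maximalIdeal]
      congr 1
      ext z
      simp [Fin.exists_fin_two, eq_comm]
    rw [← hr] at hI
    haveI : IsHausdorff ((Ideal.span (Set.range (MvPowerSeries.X : Fin 2 →
        MvPowerSeries (Fin 2) (IsLocalRing.ResidueField A)))).map φ.toRingHom) S := hI ▸ inferInstance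
    refine surjective_of_mk_map_comp_surjective (I := Ideal.span (Set.range (MvPowerSeries.X : Fin 2 →
        MvPowerSeries (Fin 2) (IsLocalRing.ResidueField A)))) φ.toRingHom fun z => ?_
    obtain ⟨s, rfl⟩ := Ideal.Quotient.mk_surjective z
    obtain ⟨t, ht⟩ := Groth.L01.CompletionExt.exists_sub_mem_pow 1 s
    rw [pow_one] at ht
    refine ⟨MvPowerSeries.C (r t), Ideal.Quotient.eq.2 ?_⟩
    rw [hI, show φ.toRingHom (MvPowerSeries.C (r t)) = ι (r t) from hφC _,
      show ι (r t) - s = (ι (r t) - algebraMap A S t) - (s - algebraMap A S t) by ring]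
    exact sub_mem (hι t) ht
  have hnf : ¬ (IsLocalRing.maximalIdeal A).IsPrincipal := fun h => by
    have := IsLocalRing.finrank_cotangentSpace_le_one_iff.2 h
    omega
  obtain ⟨z, hz, hzreg⟩ := Groth.L21.Nodal.exists_mem_nonZeroDivisors (A := A) (fun h => hnf (by
    rw [IsLocalRing.isField_iff_maximalIdeal_eq.1 h]; exact bot_isPrincipal))
  have hregS : IsSMulRegular S z := Module.Flat.isSMulRegular_of_nonZeroDivisors
    (mem_nonZeroDivisors_iff_right.2 fun s hs => hzreg s (by rw [mul_comm]; exact hs))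
  have hnpS : ¬ (IsLocalRing.maximalIdeal S).IsPrincipal := fun ⟨g, hg⟩ => hnf (by
    obtain ⟨g', hg'⟩ := Groth.L21.Nodal.exists_approx_mem_sq (s := g) (hg ▸ Submodule.mem_span_singleton_self g)
    refine ⟨g', le_antisymm (Submodule.le_of_le_smul_of_le_jacobson_bot (IsNoetherian.noetherian _)
      (IsLocalRing.maximalIdeal_le_jacobson ⊥) fun s hs => ?_) ?_⟩
    · have h1 : j s ∈ Submodule.span S {g} := hg ▸ (pow_one (IsLocalRing.maximalIdeal S) ▸ hj 1 s (by rw [pow_one]; exact hs))
      obtain ⟨w, hw⟩ := Submodule.mem_span_singleton.1 h1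
      obtain ⟨w', hw'⟩ := Groth.L01.CompletionExt.exists_sub_mem_pow 1 w
      rw [pow_one] at hw'
      rw [Ideal.smul_eq_mul, ← pow_two, show s = w' * g' + (s - w' * g') by ring]
      refine Submodule.add_mem_sup (Ideal.mem_span_singleton'.2 ⟨w', rfl⟩) (hj' 2 _ ?_)
      rw [map_sub, map_mul, ← hw, smul_eq_mul, show w * g - j w' * j g' =
        (w - j w') * g - j w' * (j g' - g) by ring]
      refine sub_mem ?_ (Ideal.mul_mem_left _ _ hg')
      rw [pow_two]
      exact Ideal.mul_mem_mul hw' (hg ▸ Submodule.mem_span_singleton_self g)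
    · rw [Submodule.span_singleton_le_iff_mem]
      refine pow_one (IsLocalRing.maximalIdeal A) ▸ hj' 1 g' ?_
      rw [pow_one, show j g' = (j g' - g) + g by ring]
      exact add_mem (Ideal.pow_le_self two_ne_zero hg') (hg ▸ Submodule.mem_span_singleton_self g))
  have hk := Groth.L21.Nodal.quad_ker a' b' c' ha' φ.toRingHom hsurj (by
    rw [Groth.L21.Nodal.map_qf]
    show Groth.L21.Nodal.qf (φ _) (φ _) (φ _) (φ _) (φ _) = 0
    rw [hφC, hφC, hφC, hφ 0, hφ 1]
    exact hq₂) (j z) (pow_one (IsLocalRing.maximalIdeal S) ▸ hj 1 z (by rw [pow_one]; exact hz))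
    (fun s hs => hregS.right_eq_zero_of_smul (by rw [Algebra.smul_def]; exact hs)) hnpS
  refine ⟨a', b', c', hdisc', ((Ideal.quotEquivOfEq (show Ideal.span _ = RingHom.ker φ.toRingHom by
    rw [hk]; simp only [Groth.L21.Nodal.qf, mul_assoc])).trans
    (RingHom.quotientKerEquivOfSurjective hsurj)).symm, fun t => ?_⟩
  rw [RingEquiv.symm_apply_eq]
  refine Eq.symm ((hφC _).trans ?_)
  exact (ι.commutes t).trans (IsScalarTower.algebraMap_apply k A S t)

/-- A formal node has a nondegenerate quadratic cone in two variables. -/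
theorem quad_of_node (k A : Type u) [Field k] [CommRing A] [IsLocalRing A] [IsNoetherianRing A]
    [Algebra k A] (h :
    ∃ a b c : ResidueField A, 4 * a * c - b ^ 2 ≠ 0 ∧
      ∃ e : AdicCompletion (maximalIdeal A) A ≃+*
          (MvPowerSeries (Fin 2) (ResidueField A) ⧸ Ideal.span
            {(MvPowerSeries.C a * MvPowerSeries.X 0 ^ 2 + MvPowerSeries.C b * MvPowerSeries.X 0 * MvPowerSeries.X 1 +
              MvPowerSeries.C c * MvPowerSeries.X 1 ^ 2 : MvPowerSeries (Fin 2) (ResidueField A))}),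
        ∀ t : k, e (algebraMap A _ (algebraMap k A t)) =
          Ideal.Quotient.mk _ (MvPowerSeries.C (algebraMap A (ResidueField A) (algebraMap k A t)))) :
    IsReduced A ∧ Module.finrank (ResidueField A) (CotangentSpace A) = 2 ∧
      ∃ x y a b c : A, x ∈ maximalIdeal A ∧ y ∈ maximalIdeal A ∧
        Ideal.span {x, y} ⊔ maximalIdeal A ^ 2 = maximalIdeal A ∧
        residue A (4 * a * c - b ^ 2) ≠ 0 ∧
        a * x ^ 2 + b * x * y + c * y ^ 2 ∈ maximalIdeal A ^ 3 := by
  let S := AdicCompletion (IsLocalRing.maximalIdeal A) A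
  let j : A →+* S := algebraMap A S
  have hj : ∀ (n : ℕ) (z : A), z ∈ IsLocalRing.maximalIdeal A ^ n → j z ∈ IsLocalRing.maximalIdeal S ^ n := fun n z hz => by
    rw [AdicCompletion.maximalIdeal_eq_map, ← Ideal.map_pow]; exact Ideal.mem_map_of_mem _ hz
  have hj' : ∀ (n : ℕ) (z : A), j z ∈ IsLocalRing.maximalIdeal S ^ n → z ∈ IsLocalRing.maximalIdeal A ^ n :=
    fun n z hz => Groth.L21.Nodal.mem_pow_of_algebraMap_mem hz
  obtain ⟨a₀, b₀, c₀, hD, e, he⟩ := h
  have hspan : Ideal.span {(MvPowerSeries.C a₀ * MvPowerSeries.X 0 ^ 2 +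
      MvPowerSeries.C b₀ * MvPowerSeries.X 0 * MvPowerSeries.X 1 +
      MvPowerSeries.C c₀ * MvPowerSeries.X 1 ^ 2 : MvPowerSeries (Fin 2) (IsLocalRing.ResidueField A))} =
      Ideal.span {Groth.L21.Nodal.qf (MvPowerSeries.C a₀) (MvPowerSeries.C b₀) (MvPowerSeries.C c₀)
        (MvPowerSeries.X 0) (MvPowerSeries.X 1)} := by simp only [Groth.L21.Nodal.qf, mul_assoc]
  let e' := e.trans (Ideal.quotEquivOfEq hspan)
  obtain ⟨hredR, hnpR⟩ := Groth.L21.Nodal.quad_ring_props a₀ b₀ c₀ hD
  let π : MvPowerSeries (Fin 2) (IsLocalRing.ResidueField A) →+* S := e'.symm.toRingHom.comp (Ideal.Quotient.mk _)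
  have hπ : Function.Surjective π := e'.symm.surjective.comp Ideal.Quotient.mk_surjective
  haveI hredS : IsReduced S := ⟨fun s hs => by
    have := (hs.map e'.toRingHom).eq_zero
    exact (map_eq_zero_iff _ e'.injective).1 this⟩
  haveI : IsReduced A := ⟨fun s hs => by
    have h0 : j s = 0 := (hs.map j).eq_zero
    rw [← Submodule.mem_bot A, ← Ideal.iInf_pow_eq_bot_of_isLocalRing (IsLocalRing.maximalIdeal A)
      (IsLocalRing.maximalIdeal.isMaximal _).ne_top, Submodule.mem_iInf]
    exact fun n => hj' n s (h0 ▸ zero_mem _)⟩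
  have hmap : (IsLocalRing.maximalIdeal (MvPowerSeries (Fin 2) (IsLocalRing.ResidueField A))).map π =
      IsLocalRing.maximalIdeal S := IsLocalRing.map_maximalIdeal_of_surjective π hπ
  have hgenS : Ideal.span {π (MvPowerSeries.X 0), π (MvPowerSeries.X 1)} = IsLocalRing.maximalIdeal S := by
    rw [← hmap, ← Groth.L21.Nodal.span_X_eq_maximalIdeal, Ideal.map_span, Set.image_pair]
  let X := π (MvPowerSeries.X 0)
  let Y := π (MvPowerSeries.X 1)
  have hX : X ∈ IsLocalRing.maximalIdeal S := hgenS ▸ Ideal.subset_span (Or.inl rfl)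
  have hY : Y ∈ IsLocalRing.maximalIdeal S := hgenS ▸ Ideal.subset_span (Or.inr rfl)
  obtain ⟨u, hu⟩ := Groth.L21.Nodal.exists_approx_mem_sq hX
  obtain ⟨v, hv⟩ := Groth.L21.Nodal.exists_approx_mem_sq hY
  have h2 : IsLocalRing.maximalIdeal S ^ 2 ≤ IsLocalRing.maximalIdeal S := Ideal.pow_le_self two_ne_zero
  have hju : j u ∈ IsLocalRing.maximalIdeal S := by
    rw [show j u = (j u - X) + X by ring]; exact add_mem (h2 hu) hX
  have hjv : j v ∈ IsLocalRing.maximalIdeal S := by
    rw [show j v = (j v - Y) + Y by ring]; exact add_mem (h2 hv) hY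
  have hum : u ∈ IsLocalRing.maximalIdeal A := pow_one (IsLocalRing.maximalIdeal A) ▸ hj' 1 u (by rw [pow_one]; exact hju)
  have hvm : v ∈ IsLocalRing.maximalIdeal A := pow_one (IsLocalRing.maximalIdeal A) ▸ hj' 1 v (by rw [pow_one]; exact hjv)
  have hgen : Ideal.span {u, v} ⊔ IsLocalRing.maximalIdeal A ^ 2 = IsLocalRing.maximalIdeal A := by
    refine le_antisymm (sup_le (Ideal.span_le.2 ?_) (Ideal.pow_le_self two_ne_zero)) fun s hs => ?_
    · rintro _ (rfl | rfl) <;> assumption
    · have h1 : j s ∈ Ideal.span {X, Y} := hgenS ▸ (pow_one (IsLocalRing.maximalIdeal S) ▸ hj 1 s (by rw [pow_one]; exact hs))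
      obtain ⟨p, q, hpq⟩ := Ideal.mem_span_pair.1 h1
      obtain ⟨p', hp'⟩ := Groth.L01.CompletionExt.exists_sub_mem_pow 1 p
      obtain ⟨q', hq'⟩ := Groth.L01.CompletionExt.exists_sub_mem_pow 1 q
      rw [pow_one] at hp' hq'
      rw [show s = (p' * u + q' * v) + (s - (p' * u + q' * v)) by ring]
      refine Submodule.add_mem_sup (Ideal.mem_span_pair.2 ⟨p', q', rfl⟩) (hj' 2 _ ?_)
      rw [map_sub, map_add, map_mul, map_mul, ← hpq,
        show p * X + q * Y - (j p' * j u + j q' * j v) =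
          (p - j p') * X + (q - j q') * Y - j p' * (j u - X) - j q' * (j v - Y) by ring]
      refine sub_mem (sub_mem (add_mem ?_ ?_) (Ideal.mul_mem_left _ _ hu)) (Ideal.mul_mem_left _ _ hv)
      · rw [pow_two]; exact Ideal.mul_mem_mul hp' hX
      · rw [pow_two]; exact Ideal.mul_mem_mul hq' hY
  obtain ⟨a, ha⟩ := Groth.L01.CompletionExt.exists_sub_mem_pow 1 (π (MvPowerSeries.C a₀))
  obtain ⟨b, hb⟩ := Groth.L01.CompletionExt.exists_sub_mem_pow 1 (π (MvPowerSeries.C b₀))
  obtain ⟨c, hc⟩ := Groth.L01.CompletionExt.exists_sub_mem_pow 1 (π (MvPowerSeries.C c₀))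
  rw [pow_one] at ha hb hc
  have hnp : ¬ (IsLocalRing.maximalIdeal A).IsPrincipal := fun ⟨g, hg⟩ => hnpR (by
    refine ⟨e' (j g), ?_⟩
    have h1 : IsLocalRing.maximalIdeal S = Ideal.span {j g} := by
      rw [AdicCompletion.maximalIdeal_eq_map, ← Set.image_singleton, ← Ideal.map_span]
      exact congrArg _ hg
    have h3 := congrArg (Ideal.map e'.toRingHom) h1
    rw [← hmap, Ideal.map_map, Ideal.map_span, Set.image_singleton] at h3
    rw [show e'.toRingHom.comp π = Ideal.Quotient.mk _ from RingHom.ext fun f => e'.apply_symm_apply _] at h3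
    exact h3)
  refine ⟨inferInstance, le_antisymm ?_ ?_, u, v, a, b, c, hum, hvm, hgen, ?_, ?_⟩
  · rw [← IsLocalRing.spanFinrank_maximalIdeal_eq_finrank_cotangentSpace]
    have h1 : Ideal.span {u, v} = IsLocalRing.maximalIdeal A := by
      refine le_antisymm (Ideal.span_le.2 ?_) (Submodule.le_of_le_smul_of_le_jacobson_bot (IsNoetherian.noetherian _)
        (IsLocalRing.maximalIdeal_le_jacobson ⊥) (by rw [Ideal.smul_eq_mul, ← pow_two, hgen]))
      rintro _ (rfl | rfl) <;> assumption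
    rw [← h1]
    refine (Submodule.spanFinrank_span_le_ncard_of_finite (Set.toFinite _)).trans ?_
    exact (Set.ncard_insert_le _ _).trans (by simp)
  · by_contra h
    exact hnp (IsLocalRing.finrank_cotangentSpace_le_one_iff.1 (by omega))
  · rw [IsLocalRing.residue_ne_zero_iff_isUnit]
    by_contra h
    have h1 : j (4 * a * c - b ^ 2) ∈ IsLocalRing.maximalIdeal S :=
      pow_one (IsLocalRing.maximalIdeal S) ▸ hj 1 _ (by rw [pow_one]; exact (IsLocalRing.mem_maximalIdeal _).2 h)
    have h3 : π (MvPowerSeries.C (4 * a₀ * c₀ - b₀ ^ 2)) ∈ IsLocalRing.maximalIdeal S := by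
      rw [← IsLocalRing.residue_eq_zero_iff] at h1 ⊢
      have ea := (IsLocalRing.residue_eq_zero_iff _).2 ha
      have eb := (IsLocalRing.residue_eq_zero_iff _).2 hb
      have ec := (IsLocalRing.residue_eq_zero_iff _).2 hc
      simp only [map_sub, map_mul, map_pow, map_ofNat, sub_eq_zero] at ea eb ec h1 ⊢
      rw [ea, eb, ec]
      exact h1
    exact (IsLocalRing.mem_maximalIdeal _).1 h3 (((IsUnit.mk0 _ hD).map MvPowerSeries.C).map π)
  · refine hj' 3 _ ?_
    have h0 : Groth.L21.Nodal.qf (π (MvPowerSeries.C a₀)) (π (MvPowerSeries.C b₀)) (π (MvPowerSeries.C c₀)) X Y = 0 := by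
      rw [← Groth.L21.Nodal.map_qf]
      show e'.symm (Ideal.Quotient.mk _ _) = 0
      rw [Ideal.Quotient.eq_zero_iff_mem.2 (Ideal.mem_span_singleton_self _), map_zero]
    simp only [Groth.L21.Nodal.qf] at h0
    set a' := π (MvPowerSeries.C a₀)
    set b' := π (MvPowerSeries.C b₀)
    set c' := π (MvPowerSeries.C c₀)
    have key : ∀ (s t : S), s ∈ IsLocalRing.maximalIdeal S → t ∈ IsLocalRing.maximalIdeal S ^ 2 →
        s * t ∈ IsLocalRing.maximalIdeal S ^ 3 := fun s t hs ht => by rw [pow_succ']; exact Ideal.mul_mem_mul hs ht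
    rw [map_add, map_add, map_mul, map_mul, map_mul, map_mul, map_pow, map_pow,
      show j a * j u ^ 2 + j b * j u * j v + j c * j v ^ 2 =
        (j u + X) * (j a * (j u - X)) + j u * (j b * (j v - Y)) + Y * (j b * (j u - X)) +
          (j v + Y) * (j c * (j v - Y)) - (a' - j a) * X ^ 2 - (b' - j b) * (X * Y) - (c' - j c) * Y ^ 2 by
        linear_combination h0]
    refine sub_mem (sub_mem (sub_mem (add_mem (add_mem (add_mem ?_ ?_) ?_) ?_) ?_) ?_) ?_
    · exact key _ _ (add_mem hju hX) (Ideal.mul_mem_left _ _ hu)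
    · exact key _ _ hju (Ideal.mul_mem_left _ _ hv)
    · exact key _ _ hY (Ideal.mul_mem_left _ _ hu)
    · exact key _ _ (add_mem hjv hY) (Ideal.mul_mem_left _ _ hv)
    · exact key _ _ ha (Ideal.pow_mem_pow hX 2)
    · exact key _ _ hb (by rw [pow_two]; exact Ideal.mul_mem_mul hX hY)
    · exact key _ _ hc (Ideal.pow_mem_pow hY 2)


end Groth.L21.Nodal
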