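import Mathlib.RingTheory.Etale.Kaehler
import Mathlib.RingTheory.Kaehler.Polynomial
import Mathlib.RingTheory.Kaehler.JacobiZariski
import Mathlib.RingTheory.Localization.Away.Basic
import Mathlib.RingTheory.RingHom.Etale
import Mathlib.LinearAlgebra.Determinant

/-! Étale coordinates on an algebra. -/

set_option autoImplicit false
universe u

noncomputable section

open scoped TensorProduct

namespace Groth.L21.Nodal

variable (R : Type u) [CommRing R] {P : Type u} [CommRing P] [Algebra R P]

/-- The family `x` gives formally étale coordinates on `P`. -/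
def Coords {n : ℕ} (x : Fin n → P) : Prop :=
  (MvPolynomial.aeval (R := R) x).toRingHom.FormallyEtale

variable {R}

theorem Coords.deriv_eq_zero {n : ℕ} {x : Fin n → P} (hx : Coords R x) {M : Type u} [AddCommGroup M] [Module P M]
    [Module R M] [IsScalarTower R P M] (d : Derivation R P M) (h : ∀ i, d (x i) = 0) (p : P) : d p = 0 := by
  letI := (MvPolynomial.aeval (R := R) x).toRingHom.toAlgebra
  haveI : IsScalarTower R (MvPolynomial (Fin n) R) P :=
    IsScalarTower.of_algebraMap_eq fun r => ((MvPolynomial.aeval x).commutes r).symm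
  haveI : Algebra.FormallyEtale (MvPolynomial (Fin n) R) P := hx
  have h0 : (d.liftKaehlerDifferential ∘ₗ (KaehlerDifferential.mapBaseChange R (MvPolynomial (Fin n) R) P)) = 0 := by
    refine ((KaehlerDifferential.mvPolynomialBasis R (Fin n)).baseChange P).ext fun i => ?_
    have : (KaehlerDifferential.mvPolynomialBasis R (Fin n)) i = KaehlerDifferential.D R _ (MvPolynomial.X i) := by
      apply (KaehlerDifferential.mvPolynomialBasis R (Fin n)).repr.injective
      simp
    simp only [LinearMap.comp_apply, LinearMap.zero_apply, Module.Basis.baseChange_apply, this,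
      KaehlerDifferential.mapBaseChange_tmul, KaehlerDifferential.map_D, one_smul,
      Derivation.liftKaehlerDifferential_comp_D, RingHom.algebraMap_toAlgebra, AlgHom.toRingHom_eq_coe,
      RingHom.coe_coe, MvPolynomial.aeval_X, h]
  obtain ⟨w, hw⟩ := (KaehlerDifferential.tensorKaehlerEquivOfFormallyEtale R (MvPolynomial (Fin n) R) P).surjective
    (KaehlerDifferential.D R P p)
  rw [← Derivation.liftKaehlerDifferential_comp_D d p, ← hw,
    KaehlerDifferential.tensorKaehlerEquivOfFormallyEtale_apply]
  exact LinearMap.congr_fun h0 w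

/-- The partial derivatives attached to coordinates. -/
theorem Coords.exists_deriv {n : ℕ} {x : Fin n → P} (hx : Coords R x) :
    ∃ D : Fin n → Derivation R P P, ∀ i j, D i (x j) = if i = j then 1 else 0 := by
  letI := (MvPolynomial.aeval (R := R) x).toRingHom.toAlgebra
  haveI : IsScalarTower R (MvPolynomial (Fin n) R) P :=
    IsScalarTower.of_algebraMap_eq fun r => ((MvPolynomial.aeval x).commutes r).symm
  haveI : Algebra.FormallyEtale (MvPolynomial (Fin n) R) P := hx
  let e := KaehlerDifferential.tensorKaehlerEquivOfFormallyEtale R (MvPolynomial (Fin n) R) P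
  let b := (KaehlerDifferential.mvPolynomialBasis R (Fin n)).baseChange P
  refine ⟨fun i => ((b.coord i).comp e.symm.toLinearMap).compDer (KaehlerDifferential.D R P), fun i j => ?_⟩
  show b.repr (e.symm (KaehlerDifferential.D R P (x j))) i = _
  have hxj : x j = algebraMap (MvPolynomial (Fin n) R) P (MvPolynomial.X j) := by
    simp [RingHom.algebraMap_toAlgebra]
  rw [hxj, KaehlerDifferential.tensorKaehlerEquivOfFormallyEtale_symm_D_algebraMap,
    Module.Basis.baseChange_repr_tmul, KaehlerDifferential.mvPolynomialBasis_repr_D_X, Finsupp.single_apply]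
  rcases eq_or_ne i j with h | h
  · subst h; simp
  · simp [h, Ne.symm h]

/-- Functions with invertible Jacobian are again coordinates. -/
theorem Coords.of_det {n : ℕ} {x : Fin n → P} (hx : Coords R x) (D : Fin n → Derivation R P P)
    (hD : ∀ i j, D i (x j) = if i = j then 1 else 0) (v : Fin n → P)
    (hdet : IsUnit (Matrix.of fun i j => D i (v j)).det) : Coords R v := by
  have hΩ : ∃ e : Module.Basis (Fin n) P Ω[P⁄R], ∀ (p : P) i, e.repr (KaehlerDifferential.D R P p) i = D i p := by
    letI := (MvPolynomial.aeval (R := R) x).toRingHom.toAlgebra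
    haveI : IsScalarTower R (MvPolynomial (Fin n) R) P :=
      IsScalarTower.of_algebraMap_eq fun r => ((MvPolynomial.aeval x).commutes r).symm
    haveI : Algebra.FormallyEtale (MvPolynomial (Fin n) R) P := hx
    haveI : Algebra.FormallySmooth R P := Algebra.FormallySmooth.comp R (MvPolynomial (Fin n) R) P
    let e₁ := KaehlerDifferential.tensorKaehlerEquivOfFormallyEtale R (MvPolynomial (Fin n) R) P
    let b := ((KaehlerDifferential.mvPolynomialBasis R (Fin n)).baseChange P).map e₁
    refine ⟨b, fun p i => ?_⟩
    have hj : ∀ j, b.repr (KaehlerDifferential.D R P (x j)) i = if i = j then (1 : P) else 0 := by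
      intro j
      have hxj : x j = algebraMap (MvPolynomial (Fin n) R) P (MvPolynomial.X j) := by
        simp [RingHom.algebraMap_toAlgebra]
      rw [hxj, Module.Basis.map_repr, LinearEquiv.trans_apply,
        KaehlerDifferential.tensorKaehlerEquivOfFormallyEtale_symm_D_algebraMap,
        Module.Basis.baseChange_repr_tmul, KaehlerDifferential.mvPolynomialBasis_repr_D_X, Finsupp.single_apply]
      rcases eq_or_ne i j with h | h
      · subst h; simp
      · simp [h, Ne.symm h]
    have := hx.deriv_eq_zero ((b.coord i).compDer (KaehlerDifferential.D R P) - D i) (fun j => by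
      show b.repr (KaehlerDifferential.D R P (x j)) i - D i (x j) = 0
      rw [hj, hD, sub_self]) p
    exact sub_eq_zero.1 this
  haveI : Algebra.FormallySmooth R P := by
    letI := (MvPolynomial.aeval (R := R) x).toRingHom.toAlgebra
    haveI : IsScalarTower R (MvPolynomial (Fin n) R) P :=
      IsScalarTower.of_algebraMap_eq fun r => ((MvPolynomial.aeval x).commutes r).symm
    haveI : Algebra.FormallyEtale (MvPolynomial (Fin n) R) P := hx
    exact Algebra.FormallySmooth.comp R (MvPolynomial (Fin n) R) P
  obtain ⟨e, he⟩ := hΩ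
  let w : Fin n → Ω[P⁄R] := fun j => KaehlerDifferential.D R P (v j)
  have hM : e.toMatrix w = Matrix.of fun i j => D i (v j) := by
    ext i j
    exact he (v j) i
  obtain ⟨hli, hsp⟩ := (Module.Basis.is_basis_iff_det e (v := w)).2 (by rw [Module.Basis.det_apply, hM]; exact hdet)
  let e' := Module.Basis.mk hli hsp.ge
  show (MvPolynomial.aeval (R := R) v).toRingHom.FormallyEtale
  letI := (MvPolynomial.aeval (R := R) v).toRingHom.toAlgebra
  haveI : IsScalarTower R (MvPolynomial (Fin n) R) P :=
    IsScalarTower.of_algebraMap_eq fun r => ((MvPolynomial.aeval v).commutes r).symm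
  let b := (KaehlerDifferential.mvPolynomialBasis R (Fin n)).baseChange P
  have hmap : KaehlerDifferential.mapBaseChange R (MvPolynomial (Fin n) R) P = (b.equiv e' (Equiv.refl _)).toLinearMap := by
    refine b.ext fun i => ?_
    have : (KaehlerDifferential.mvPolynomialBasis R (Fin n)) i = KaehlerDifferential.D R _ (MvPolynomial.X i) := by
      apply (KaehlerDifferential.mvPolynomialBasis R (Fin n)).repr.injective
      simp
    rw [LinearEquiv.coe_coe, Module.Basis.equiv_apply, Equiv.refl_apply]
    simp [b, e', w, this, RingHom.algebraMap_toAlgebra]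
  have hbij : Function.Bijective (KaehlerDifferential.mapBaseChange R (MvPolynomial (Fin n) R) P) := by
    rw [hmap]; exact (b.equiv e' (Equiv.refl _)).bijective
  refine ⟨⟨fun a c => ?_⟩, ⟨fun a c => ?_⟩⟩
  · obtain ⟨a, rfl⟩ := KaehlerDifferential.map_surjective R (MvPolynomial (Fin n) R) P a
    obtain ⟨c, rfl⟩ := KaehlerDifferential.map_surjective R (MvPolynomial (Fin n) R) P c
    rw [← sub_eq_zero, ← map_sub]
    obtain ⟨z, hz⟩ := hbij.2 (a - c)
    exact (KaehlerDifferential.exact_mapBaseChange_map R (MvPolynomial (Fin n) R) P _).2 ⟨z, hz⟩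
  · have hδ : ∀ z, Algebra.H1Cotangent.δ R (MvPolynomial (Fin n) R) P z = 0 := fun z =>
      hbij.1 (by rw [map_zero]; exact (Algebra.H1Cotangent.exact_δ_mapBaseChange R _ P _).2 ⟨z, rfl⟩)
    obtain ⟨a', rfl⟩ := (Algebra.H1Cotangent.exact_map_δ R (MvPolynomial (Fin n) R) P a).1 (hδ a)
    obtain ⟨c', rfl⟩ := (Algebra.H1Cotangent.exact_map_δ R (MvPolynomial (Fin n) R) P c).1 (hδ c)
    rw [Subsingleton.elim a' c']

/-- Coordinates survive formally étale extensions. -/
theorem Coords.comp {n : ℕ} {x : Fin n → P} (hx : Coords R x) {P' : Type u} [CommRing P'] [Algebra R P']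
    (φ : P →ₐ[R] P') (hφ : φ.toRingHom.FormallyEtale) : Coords R (fun i => φ (x i)) := by
  have : (MvPolynomial.aeval (R := R) fun i => φ (x i)).toRingHom = φ.toRingHom.comp (MvPolynomial.aeval x).toRingHom := by
    rw [show (MvPolynomial.aeval (R := R) fun i => φ (x i)) = φ.comp (MvPolynomial.aeval x) from
      MvPolynomial.algHom_ext fun i => by simp]
    rfl
  rw [Coords, this]
  exact RingHom.FormallyEtale.comp hx hφ

/-- Base change of formally étale algebras along a surjection. -/
theorem formallyEtale_quotient {S S' A C : Type u} [CommRing S] [CommRing S'] [CommRing A] [CommRing C]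
    (α : S →+* A) (hα : α.FormallyEtale) (β : S →+* S') (γ : S' →+* C) (π : A →+* C)
    (hβ : Function.Surjective β) (hπ : Function.Surjective π) (hcomm : π.comp α = γ.comp β)
    (hker : RingHom.ker π ≤ (RingHom.ker β).map α) : γ.FormallyEtale := by
  letI := α.toAlgebra
  letI := γ.toAlgebra
  haveI : Algebra.FormallyEtale S A := hα
  refine Algebra.FormallyEtale.iff_comp_bijective.2 fun B _ _ I hI => ?_
  letI : Algebra S B := ((algebraMap S' B).comp β).toAlgebra
  let res : (C →ₐ[S'] B) → (A →ₐ[S] B) := fun g =>
    { toRingHom := g.toRingHom.comp π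
      commutes' := fun s => by
        show g (π (α s)) = algebraMap S' B (β s)
        rw [show π (α s) = γ (β s) from RingHom.congr_fun hcomm s]
        exact g.commutes _ }
  obtain ⟨hinj, hsurj⟩ := Algebra.FormallyEtale.comp_bijective S A I hI
  constructor
  · intro g₁ g₂ h
    have := @hinj (res g₁) (res g₂) (AlgHom.ext fun a => DFunLike.congr_fun h (π a))
    refine AlgHom.ext fun z => ?_
    obtain ⟨a, rfl⟩ := hπ z
    exact DFunLike.congr_fun this a
  · intro f
    let f' : A →ₐ[S] B ⧸ I :=
      { toRingHom := f.toRingHom.comp π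
        commutes' := fun s => by
          show f (π (α s)) = Ideal.Quotient.mk I (algebraMap S' B (β s))
          rw [show π (α s) = γ (β s) from RingHom.congr_fun hcomm s]
          exact f.commutes _ }
    obtain ⟨g, hg⟩ := hsurj f'
    have hk : RingHom.ker π ≤ RingHom.ker g.toRingHom := hker.trans (Ideal.map_le_iff_le_comap.2 fun s hs => by
      show g (α s) = 0
      rw [show g (α s) = algebraMap S' B (β s) from g.commutes s, RingHom.mem_ker.1 hs, map_zero])
    let g' := RingHom.liftOfSurjective π hπ ⟨g.toRingHom, hk⟩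
    have hg' : ∀ a, g' (π a) = g a := RingHom.liftOfRightInverse_comp_apply π _ _ _
    refine ⟨{ g' with commutes' := fun s' => ?_ }, AlgHom.ext fun z => ?_⟩
    · obtain ⟨s, rfl⟩ := hβ s'
      show g' (γ (β s)) = algebraMap S' B (β s)
      rw [← show π (α s) = γ (β s) from RingHom.congr_fun hcomm s, hg']
      exact g.commutes s
    · obtain ⟨a, rfl⟩ := hπ z
      show Ideal.Quotient.mk I (g' (π a)) = f (π a)
      rw [hg']
      exact DFunLike.congr_fun hg a

theorem formallyEtale_localizationAway {A : Type u} [CommRing A] (a : A) :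
    (algebraMap A (Localization.Away a)).FormallyEtale :=
  RingHom.formallyEtale_algebraMap.2 (Algebra.FormallyEtale.of_isLocalization (Submonoid.powers a))

/-- The Taylor formula along a retraction. -/
theorem Coords.ker_le_sup_sq {n : ℕ} {x : Fin n → P} (hx : Coords R x) (D : Fin n → Derivation R P P)
    (hD : ∀ i j, D i (x j) = if i = j then 1 else 0) (σ : P →ₐ[R] R) :
    RingHom.ker σ ≤ Ideal.span (Set.range fun i => x i - algebraMap R P (σ (x i))) ⊔ RingHom.ker σ ^ 2 := by
  set I := RingHom.ker σ with hI
  set J := Ideal.span (Set.range fun i => x i - algebraMap R P (σ (x i))) ⊔ I ^ 2 with hJ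
  have hJI : J ≤ I := sup_le (Ideal.span_le.2 (by
    rintro _ ⟨i, rfl⟩
    simp [hI])) (Ideal.pow_le_self two_ne_zero)
  letI := (MvPolynomial.aeval (R := R) x).toRingHom.toAlgebra
  haveI : IsScalarTower R (MvPolynomial (Fin n) R) P :=
    IsScalarTower.of_algebraMap_eq fun r => ((MvPolynomial.aeval x).commutes r).symm
  haveI : Algebra.FormallyEtale (MvPolynomial (Fin n) R) P := hx
  let φ₁ : P →ₐ[R] P ⧸ J := Ideal.Quotient.mkₐ R J
  let φ₂ : P →ₐ[R] P ⧸ J := (Algebra.ofId R (P ⧸ J)).comp σ
  have key : ∀ i, φ₁ (x i) = φ₂ (x i) := fun i => by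
    show Ideal.Quotient.mk J (x i) = Ideal.Quotient.mk J (algebraMap R P (σ (x i)))
    exact Ideal.Quotient.eq.2 (Submodule.mem_sup_left (Ideal.subset_span ⟨i, rfl⟩))
  have hpoly : φ₁.comp (MvPolynomial.aeval x) = φ₂.comp (MvPolynomial.aeval x) :=
    MvPolynomial.algHom_ext fun i => by simpa using key i
  let ψ : (φ : P →ₐ[R] P ⧸ J) → (φ.comp (MvPolynomial.aeval x) = φ₁.comp (MvPolynomial.aeval x)) →
      P →ₐ[MvPolynomial (Fin n) R] P ⧸ J := fun φ h =>
    { toRingHom := φ.toRingHom
      commutes' := fun s => DFunLike.congr_fun h s }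
  have hsq : (I.map (Ideal.Quotient.mk J)) ^ 2 = ⊥ := by
    rw [← Ideal.map_pow, Ideal.map_eq_bot_iff_le_ker, Ideal.mk_ker]
    exact le_sup_right
  have h12 : ψ φ₁ rfl = ψ φ₂ hpoly.symm := by
    refine Algebra.FormallyUnramified.comp_injective _ hsq (AlgHom.ext fun p => Ideal.Quotient.eq.2 ?_)
    show Ideal.Quotient.mk J p - Ideal.Quotient.mk J (algebraMap R P (σ p)) ∈ I.map (Ideal.Quotient.mk J)
    rw [← map_sub]
    exact Ideal.mem_map_of_mem _ (by simp [hI])
  intro p hp
  have h3 : Ideal.Quotient.mk J p = Ideal.Quotient.mk J (algebraMap R P (σ p)) := DFunLike.congr_fun h12 p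
  rwa [RingHom.mem_ker.1 hp, map_zero, map_zero, Ideal.Quotient.eq_zero_iff_mem] at h3

end Groth.L21.Nodal
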