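import Groth.Agent.L21.Nodal.Coords
import Mathlib.RingTheory.FinitePresentation
import Mathlib.RingTheory.TensorProduct.Basic

/-! Base change and naturality of étale coordinates. -/

set_option autoImplicit false
universe u

noncomputable section

open scoped TensorProduct

namespace Groth.L21.Nodal

variable {R P : Type u} [CommRing R] [CommRing P] [Algebra R P]

/-- Partial derivatives commute with maps. -/
theorem Coords.deriv_comm {n : ℕ} {X : Fin n → P} (hX : Coords R X) (D : Fin n → Derivation R P P)
    (hD : ∀ i j, D i (X j) = if i = j then 1 else 0) {P' : Type u} [CommRing P'] [Algebra R P'] (φ : P →ₐ[R] P')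
    (D' : Fin n → Derivation R P' P') (hD' : ∀ i j, D' i (φ (X j)) = if i = j then 1 else 0) (i : Fin n) (p : P) :
    D' i (φ p) = φ (D i p) := by
  letI := φ.toRingHom.toAlgebra
  haveI : IsScalarTower R P P' := IsScalarTower.of_algebraMap_eq fun r => (φ.commutes r).symm
  let d : Derivation R P P' := (D' i).compAlgebraMap P - (Algebra.linearMap P P').compDer (D i)
  refine sub_eq_zero.1 (hX.deriv_eq_zero d (fun j => ?_) p)
  show D' i (φ (X j)) - φ (D i (X j)) = 0
  rw [hD', hD]
  split <;> simp

/-- Coordinates survive base change. -/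
theorem Coords.baseChange {n : ℕ} {X : Fin n → P} (hX : Coords R X) (C : Type u) [CommRing C] [Algebra R C] :
    Coords C (fun i => (1 : C) ⊗ₜ[R] X i) := by
  letI := (MvPolynomial.aeval (R := R) X).toRingHom.toAlgebra
  haveI : Algebra.FormallyEtale (MvPolynomial (Fin n) R) P := hX
  show (MvPolynomial.aeval (R := C) fun i => (1 : C) ⊗ₜ[R] X i).toRingHom.FormallyEtale
  letI := (MvPolynomial.aeval (R := C) fun i => (1 : C) ⊗ₜ[R] X i).toRingHom.toAlgebra
  refine Algebra.FormallyEtale.iff_comp_bijective.2 fun B _ _ I hI => ?_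
  letI algR : Algebra R B :=
    ((algebraMap (MvPolynomial (Fin n) C) B).comp (MvPolynomial.C.comp (algebraMap R C))).toAlgebra
  letI : Algebra (MvPolynomial (Fin n) R) B :=
    ((algebraMap (MvPolynomial (Fin n) C) B).comp (MvPolynomial.map (algebraMap R C))).toAlgebra
  have hamap : ∀ z : MvPolynomial (Fin n) R, (1 : C) ⊗ₜ[R] MvPolynomial.aeval X z =
      MvPolynomial.aeval (R := C) (fun i => (1 : C) ⊗ₜ[R] X i) (MvPolynomial.map (algebraMap R C) z) := fun z => by
    rw [MvPolynomial.aeval_map_algebraMap]
    exact (MvPolynomial.comp_aeval_apply X (Algebra.TensorProduct.includeRight : P →ₐ[R] C ⊗[R] P) z)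
  let res : (C ⊗[R] P →ₐ[MvPolynomial (Fin n) C] B) → (P →ₐ[MvPolynomial (Fin n) R] B) := fun g =>
    { toRingHom := g.toRingHom.comp (Algebra.TensorProduct.includeRight : P →ₐ[R] C ⊗[R] P).toRingHom
      commutes' := fun z => by
        show g ((1 : C) ⊗ₜ[R] MvPolynomial.aeval X z) = algebraMap (MvPolynomial (Fin n) C) B (MvPolynomial.map _ z)
        rw [hamap]
        exact g.commutes _ }
  have hC : ∀ (g : C ⊗[R] P →ₐ[MvPolynomial (Fin n) C] B) (c : C),
      g (c ⊗ₜ[R] 1) = algebraMap (MvPolynomial (Fin n) C) B (MvPolynomial.C c) := fun g c => by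
    rw [← g.commutes (MvPolynomial.C c)]
    show g _ = g (MvPolynomial.aeval _ (MvPolynomial.C c))
    rw [MvPolynomial.aeval_C]
    rfl
  obtain ⟨hinj, hsurj⟩ := Algebra.FormallyEtale.comp_bijective (MvPolynomial (Fin n) R) P I hI
  constructor
  · intro g₁ g₂ h
    have := @hinj (res g₁) (res g₂) (AlgHom.ext fun p => DFunLike.congr_fun h _)
    refine AlgHom.ext fun z => ?_
    induction z using TensorProduct.induction_on with
    | zero => simp
    | add a b ha hb => rw [map_add, map_add, ha, hb]
    | tmul c p =>
      rw [show c ⊗ₜ[R] p = (c ⊗ₜ[R] (1 : P)) * ((1 : C) ⊗ₜ[R] p) by simp, map_mul, map_mul, hC, hC]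
      exact congrArg _ (DFunLike.congr_fun this p)
  · intro f
    let f' : P →ₐ[MvPolynomial (Fin n) R] B ⧸ I :=
      { toRingHom := f.toRingHom.comp (Algebra.TensorProduct.includeRight : P →ₐ[R] C ⊗[R] P).toRingHom
        commutes' := fun z => by
          show f ((1 : C) ⊗ₜ[R] MvPolynomial.aeval X z) =
            Ideal.Quotient.mk I (algebraMap (MvPolynomial (Fin n) C) B (MvPolynomial.map _ z))
          rw [hamap]
          exact f.commutes _ }
    obtain ⟨g, hg⟩ := hsurj f'
    let gC : C →ₐ[R] B :=
      { toRingHom := (algebraMap (MvPolynomial (Fin n) C) B).comp MvPolynomial.C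
        commutes' := fun r => rfl }
    let gP : P →ₐ[R] B :=
      { toRingHom := g.toRingHom
        commutes' := fun r => by
          have := g.commutes (MvPolynomial.C r)
          rw [show algebraMap (MvPolynomial (Fin n) R) P (MvPolynomial.C r) = algebraMap R P r from
            MvPolynomial.aeval_C _ _] at this
          show g (algebraMap R P r) = _
          rw [this]
          show algebraMap (MvPolynomial (Fin n) C) B (MvPolynomial.map _ (MvPolynomial.C r)) = _
          rw [MvPolynomial.map_C]
          rfl }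
    let G : C ⊗[R] P →ₐ[R] B := Algebra.TensorProduct.lift gC gP fun _ _ => .all _ _
    have hG : ∀ c p, G (c ⊗ₜ[R] p) = algebraMap (MvPolynomial (Fin n) C) B (MvPolynomial.C c) * g p :=
      fun c p => Algebra.TensorProduct.lift_tmul gC gP _ c p
    have hGc : G.toRingHom.comp (algebraMap (MvPolynomial (Fin n) C) (C ⊗[R] P)) = algebraMap _ B := by
      refine MvPolynomial.ringHom_ext (fun c => ?_) fun i => ?_
      · show G (MvPolynomial.aeval _ (MvPolynomial.C c)) = _
        rw [MvPolynomial.aeval_C]
        show G (c ⊗ₜ[R] 1) = _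
        rw [hG, map_one, mul_one]
      · show G (MvPolynomial.aeval _ (MvPolynomial.X i)) = _
        rw [MvPolynomial.aeval_X, hG, map_one, map_one, one_mul]
        have := g.commutes (MvPolynomial.X i)
        rw [show algebraMap (MvPolynomial (Fin n) R) P (MvPolynomial.X i) = X i from MvPolynomial.aeval_X _ _] at this
        rw [this]
        show algebraMap (MvPolynomial (Fin n) C) B (MvPolynomial.map _ (MvPolynomial.X i)) = _
        rw [MvPolynomial.map_X]
    refine ⟨{ G.toRingHom with commutes' := fun z => RingHom.congr_fun hGc z }, AlgHom.ext fun z => ?_⟩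
    show Ideal.Quotient.mk I (G z) = f z
    induction z using TensorProduct.induction_on with
    | zero => simp
    | add a b ha hb => rw [map_add, map_add, map_add, ha, hb]
    | tmul c p =>
      rw [hG, map_mul, show c ⊗ₜ[R] p = (c ⊗ₜ[R] (1 : P)) * ((1 : C) ⊗ₜ[R] p) by simp, map_mul]
      congr 1
      · rw [show c ⊗ₜ[R] (1 : P) = algebraMap (MvPolynomial (Fin n) C) (C ⊗[R] P) (MvPolynomial.C c) from
          (MvPolynomial.aeval_C (R := C) (fun i => (1 : C) ⊗ₜ[R] X i) c).symm]
        exact (f.commutes _).symm
      · exact DFunLike.congr_fun hg p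

theorem etale_of_formallyEtale {A B : Type u} [CommRing A] [CommRing B] {f : A →+* B} (h : f.FormallyEtale)
    (hf : f.FinitePresentation) : f.Etale := by
  algebraize [f]
  exact { }

theorem finitePresentation_of_algHom {A B : Type u} [CommRing A] [CommRing B] [Algebra R A] [Algebra R B]
    [Algebra.FiniteType R A] [Algebra.FinitePresentation R B] (φ : A →ₐ[R] B) : φ.toRingHom.FinitePresentation := by
  letI := φ.toRingHom.toAlgebra
  haveI : IsScalarTower R A B := IsScalarTower.of_algebraMap_eq fun r => (φ.commutes r).symm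
  exact Algebra.FinitePresentation.of_restrict_scalars_finitePresentation R A B

end Groth.L21.Nodal
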