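import Groth.Agent.L21.Nodal.QuadBasic
import Mathlib.RingTheory.MvPowerSeries.Substitution
import Mathlib.RingTheory.MvPowerSeries.Equiv
import Mathlib.RingTheory.Filtration

/-!
Completions at nodes: a local ring becomes an ordinary double point after extending the ground field to an
algebraically closed one if and only if its completion is cut out by a nondegenerate quadratic form.
-/

set_option autoImplicit false
universe u

open IsLocalRing

noncomputable section

namespace Groth.L21.Nodal

section Branch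

variable {F : Type u} [Field F]

/-- The constant term of an element of `F[[u, v]]/(uv)`. -/
def cc : R2 F →+* F := (PowerSeries.constantCoeff).comp (branch F 0)

theorem cc_branch (i : Fin 2) (z : R2 F) : PowerSeries.constantCoeff (branch F i z) = cc z := by
  obtain ⟨f, rfl⟩ := Ideal.Quotient.mk_surjective z
  simp only [cc, RingHom.comp_apply, branch_mk, constantCoeff_q]

theorem cc_C (c : F) : cc (Ideal.Quotient.mk _ (MvPowerSeries.C c) : R2 F) = c := by
  simp [cc, branch_C]

theorem mem_R2max_iff_cc (z : R2 F) : z ∈ R2max F ↔ cc z = 0 := by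
  rw [mem_R2max_iff z 0, PowerSeries.X_dvd_iff]
  rfl

/-- Two generators of the maximal ideal have independent linear parts. -/
theorem det_lin_ne_zero {z w : R2 F} (hgen : Ideal.span {z, w} = R2max F) :
    lin 0 z * lin 1 w - lin 1 z * lin 0 w ≠ 0 := by
  intro h0
  have hz : z ∈ R2max F := hgen ▸ Ideal.subset_span (Or.inl rfl)
  have hw : w ∈ R2max F := hgen ▸ Ideal.subset_span (Or.inr rfl)
  obtain ⟨r, s, hrs⟩ := Ideal.mem_span_pair.1
    (hgen.symm ▸ Ideal.subset_span (Or.inl rfl) : Ideal.Quotient.mk _ (MvPowerSeries.X 0) ∈ Ideal.span {z, w})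
  obtain ⟨r', s', hrs'⟩ := Ideal.mem_span_pair.1
    (hgen.symm ▸ Ideal.subset_span (Or.inr rfl) : Ideal.Quotient.mk _ (MvPowerSeries.X 1) ∈ Ideal.span {z, w})
  have e1 := congrArg (lin 0) hrs
  have e2 := congrArg (lin 1) hrs
  have e3 := congrArg (lin 0) hrs'
  have e4 := congrArg (lin 1) hrs'
  rw [lin_add, lin_mul _ _ hz, lin_mul _ _ hw] at e1 e2 e3 e4
  simp only [lin, branch_mk, Groth.L14.Node.q_X_self, q_X_zero, q_X_one, map_zero, PowerSeries.coeff_one_X]
    at e1 e2 e3 e4
  simp only [lin] at h0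
  exact zero_ne_one (α := F) <| by
    linear_combination (- (PowerSeries.coeff 1 (branch F 1 z) * PowerSeries.constantCoeff (branch F 0 r')
      + PowerSeries.coeff 1 (branch F 1 w) * PowerSeries.constantCoeff (branch F 0 s'))) * e1 +
      (PowerSeries.coeff 1 (branch F 0 z) * PowerSeries.constantCoeff (branch F 0 r')
      + PowerSeries.coeff 1 (branch F 0 w) * PowerSeries.constantCoeff (branch F 0 s')) * e2 +
      e3 + (PowerSeries.constantCoeff (branch F 0 r) * PowerSeries.constantCoeff (branch F 0 s') -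
        PowerSeries.constantCoeff (branch F 0 r') * PowerSeries.constantCoeff (branch F 0 s)) * h0

/-- The linear parts of an approximate zero of a form are zeros of it. -/
theorem qf_lin_eq_zero {z w : R2 F} (hz : z ∈ R2max F) (hw : w ∈ R2max F) (A B C : R2 F)
    (h : qf A B C z w ∈ R2max F ^ 3) (i : Fin 2) : qf (cc A) (cc B) (cc C) (lin i z) (lin i w) = 0 := by
  obtain ⟨p, hp⟩ := (mem_R2max_iff z i).1 hz
  obtain ⟨p', hp'⟩ := (mem_R2max_iff w i).1 hw
  have hmem : qf A B C z w ∈ R2max F := Ideal.pow_le_self three_ne_zero h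
  have h3 := (R2max_pow_iff hmem 2).1 h i
  rw [map_qf, hp, hp', mul_comm PowerSeries.X p, mul_comm PowerSeries.X p', qf_mul,
    mul_comm _ (PowerSeries.X ^ 2), pow_succ, mul_dvd_mul_iff_left (pow_ne_zero 2 PowerSeries.X_ne_zero),
    PowerSeries.X_dvd_iff, map_qf, cc_branch, cc_branch, cc_branch] at h3
  simpa [lin, hp, hp', PowerSeries.coeff_succ_X_mul, PowerSeries.coeff_zero_eq_constantCoeff_apply] using h3

theorem lin_comb_eq_zero {z w : R2 F} (hz : z ∈ R2max F) (hw : w ∈ R2max F) (A B : R2 F) (N : ℕ)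
    (h : A * (z * w ^ N) + B * w ^ (N + 1) = 0) (i : Fin 2) :
    (cc A * lin i z + cc B * lin i w) * lin i w ^ N = 0 := by
  obtain ⟨p, hp⟩ := (mem_R2max_iff z i).1 hz
  obtain ⟨p', hp'⟩ := (mem_R2max_iff w i).1 hw
  have h1 := congrArg (branch F i) h
  rw [map_add, map_mul, map_mul, map_mul, map_pow, map_pow, hp, hp', map_zero,
    show branch F i A * (PowerSeries.X * p * (PowerSeries.X * p') ^ N) + branch F i B * (PowerSeries.X * p') ^ (N + 1)
      = PowerSeries.X ^ (N + 1) * ((branch F i A * p + branch F i B * p') * p' ^ N) by ring,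
    mul_eq_zero] at h1
  have h2 := congrArg PowerSeries.constantCoeff (h1.resolve_left (pow_ne_zero _ PowerSeries.X_ne_zero))
  simp only [map_mul, map_add, map_pow, cc_branch, map_zero] at h2
  simpa [lin, hp, hp', PowerSeries.coeff_succ_X_mul, PowerSeries.coeff_zero_eq_constantCoeff_apply] using h2

end Branch

theorem span_X_eq_maximalIdeal (κ : Type u) [Field κ] :
    Ideal.span {(MvPowerSeries.X 0 : MvPowerSeries (Fin 2) κ), MvPowerSeries.X 1} =
      maximalIdeal (MvPowerSeries (Fin 2) κ) := by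
  refine le_antisymm ?_ fun f hf => ?_
  · rw [Ideal.span_le]
    rintro _ (rfl | rfl) <;>
      exact (mem_maximalIdeal _).2 fun h => by simpa using MvPowerSeries.isUnit_iff_constantCoeff.1 h
  · obtain ⟨g, h, rfl⟩ := eq_add_of_constantCoeff_eq_zero (f := f) (by
      by_contra hc
      exact (mem_maximalIdeal _).1 hf (MvPowerSeries.isUnit_iff_constantCoeff.2 (IsUnit.mk0 _ hc)))
    exact Ideal.mem_span_pair.2 ⟨g, h, by ring⟩

theorem sub_C_mem_maximalIdeal {κ : Type u} [Field κ] (f : MvPowerSeries (Fin 2) κ) :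
    f - MvPowerSeries.C (MvPowerSeries.constantCoeff f) ∈ maximalIdeal (MvPowerSeries (Fin 2) κ) :=
  (mem_maximalIdeal _).2 fun h => by simpa using MvPowerSeries.isUnit_iff_constantCoeff.1 h

section

variable {k κ F A B : Type u} [Field k] [Field κ] [Field F] [Algebra k κ] [Algebra k F]
  [CommRing A] [CommRing B] [IsLocalRing A] [IsLocalRing B] [IsNoetherianRing A] [IsNoetherianRing B]
  [Algebra k A] [Algebra F B] [Algebra A B] [Module.Flat A B] [IsLocalHom (algebraMap A B)]

/-- The completion at an ordinary double point over an algebraically closed field, seen from the ground field. -/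
theorem exists_completion_quad [FiniteDimensional k κ] [Algebra.IsSeparable k κ]
    (π : A →ₐ[k] κ) (hπ : Function.Surjective π) (hker : RingHom.ker π.toRingHom = maximalIdeal A)
    (hm : (maximalIdeal A).map (algebraMap A B) = maximalIdeal B)
    (hc : ∀ t : k, algebraMap A B (algebraMap k A t) = algebraMap F B (algebraMap k F t))
    (h : Curv2.IsOrdDoublePt F B) :
    ∃ a b c : κ, 4 * a * c - b ^ 2 ≠ 0 ∧
      ∃ e : AdicCompletion (maximalIdeal A) A ≃+*
          (MvPowerSeries (Fin 2) κ ⧸ Ideal.span {(MvPowerSeries.C a * MvPowerSeries.X 0 ^ 2 +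
            MvPowerSeries.C b * MvPowerSeries.X 0 * MvPowerSeries.X 1 +
            MvPowerSeries.C c * MvPowerSeries.X 1 ^ 2 : MvPowerSeries (Fin 2) κ)}),
        ∀ t : k, e (algebraMap A _ (algebraMap k A t)) = Ideal.Quotient.mk _ (MvPowerSeries.C (algebraMap k κ t)) := by
  classical
  obtain ⟨e, he⟩ := h
  obtain ⟨g, -, hga⟩ := exists_completion_map A B hm
  obtain ⟨ι, hι⟩ := exists_coeffField k κ A π hπ hker
  let S := AdicCompletion (maximalIdeal A) A
  let T := AdicCompletion (maximalIdeal B) B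
  let ψB : B →+* R2 F := e.toRingHom.comp (algebraMap B T)
  have heT : (maximalIdeal T).map e.toRingHom = R2max F := map_maximalIdeal_equiv e
  have hψBmax : (maximalIdeal B).map ψB = R2max F := by
    rw [← Ideal.map_map, ← AdicCompletion.maximalIdeal_eq_map, heT]
  have hsep : ∀ (b : B) (j : ℕ), ψB b ∈ R2max F ^ j → b ∈ maximalIdeal B ^ j := by
    intro b j hb
    refine mem_pow_of_algebraMap_mem ?_
    rw [← heT, ← Ideal.map_pow] at hb
    obtain ⟨s, hs, hse⟩ := (Ideal.mem_map_iff_of_surjective e.toRingHom e.surjective).1 hb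
    have : s = algebraMap B T b := e.injective hse
    exact this ▸ hs
  let G : S →+* R2 F := e.toRingHom.comp g
  have hGa : ∀ a, G (algebraMap A S a) = ψB (algebraMap A B a) := fun a => congrArg e (hga a)
  have hGmax : (maximalIdeal S).map G = R2max F := by
    rw [AdicCompletion.maximalIdeal_eq_map, Ideal.map_map,
      show G.comp (algebraMap A S) = ψB.comp (algebraMap A B) from RingHom.ext hGa, ← Ideal.map_map, hm, hψBmax]
  have hGm : ∀ s ∈ maximalIdeal S, G s ∈ R2max F := fun s hs => hGmax ▸ Ideal.mem_map_of_mem G hs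
  -- the embedding of the residue field
  let σ : κ →+* F := cc.comp (G.comp ι.toRingHom)
  letI : Algebra k T := ((algebraMap F T).comp (algebraMap k F)).toAlgebra
  have hgk : ∀ t : k, g (algebraMap A S (algebraMap k A t)) = algebraMap k T t := fun t => by
    rw [hga, hc, ← IsScalarTower.algebraMap_apply]
    rfl
  have heF : ∀ x : F, e (algebraMap F T x) = Ideal.Quotient.mk _ (MvPowerSeries.C x) := fun x => by
    rw [IsScalarTower.algebraMap_apply F B T]
    exact he x
  have hι' : ∀ t : k, ι (algebraMap k κ t) = algebraMap A S (algebraMap k A t) := fun t => by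
    rw [AlgHom.commutes, ← IsScalarTower.algebraMap_apply]
  have hσk : ∀ t, σ (algebraMap k κ t) = algebraMap k F t := fun t => by
    change cc (e (g (ι (algebraMap k κ t)))) = _
    rw [hι', hgk]
    exact (congrArg cc (heF _)).trans (cc_C _)
  let f₁ : κ →ₐ[k] T := { g.comp ι.toRingHom with
    commutes' := fun t => (congrArg g (hι' t)).trans (hgk t) }
  let f₂ : κ →ₐ[k] T := { (algebraMap F T).comp σ with
    commutes' := fun t => congrArg (algebraMap F T) (hσk t) }
  have hf : f₁ = f₂ := eq_of_separable f₁ f₂ fun x => by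
    have h1 : e (f₁ x - f₂ x) ∈ R2max F := by
      rw [mem_R2max_iff_cc, map_sub, map_sub]
      change cc (e (g (ι x))) - cc (e (algebraMap F T (σ x))) = 0
      rw [heF, cc_C]
      exact sub_self _
    rw [← heT] at h1
    obtain ⟨s, hs, hse⟩ := (Ideal.mem_map_iff_of_surjective e.toRingHom e.surjective).1 h1
    exact (e.injective hse) ▸ hs
  have hGι : ∀ x : κ, G (ι x) = Ideal.Quotient.mk _ (MvPowerSeries.C (σ x)) := fun x =>
    (congrArg e (DFunLike.congr_fun hf x)).trans (heF (σ x))
  -- an approximate relation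
  have hψC : ∀ x : F, ψB (algebraMap F B x) = Ideal.Quotient.mk _ (MvPowerSeries.C x) := he
  obtain ⟨u, hu, v, hv, hgen, hdet, a, ⟨i₀, hi₀⟩, ha⟩ := exists_relation_gens hm ψB hψBmax hsep hψC
  let j : A →+* S := algebraMap A S
  have hj : ∀ (n : ℕ) (z : A), z ∈ maximalIdeal A ^ n → j z ∈ maximalIdeal S ^ n := fun n z hz => by
    rw [AdicCompletion.maximalIdeal_eq_map, ← Ideal.map_pow]; exact Ideal.mem_map_of_mem _ hz
  have hju : j u ∈ maximalIdeal S := by simpa using hj 1 u (by simpa using hu)
  have hjv : j v ∈ maximalIdeal S := by simpa using hj 1 v (by simpa using hv)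
  have hq : qf (ι (π (a 0))) (ι (π (a 1))) (ι (π (a 2))) (j u) (j v) ∈ maximalIdeal S ^ 3 := by
    have h1 : j (qf (a 0) (a 1) (a 2) u v) ∈ maximalIdeal S ^ 3 := hj 3 _ (by
      have : ∑ i, a i * ![u * u, u * v, v * v] i = qf (a 0) (a 1) (a 2) u v := by
        simp only [Fin.sum_univ_three, qf, Matrix.cons_val_zero, Matrix.cons_val_one, Matrix.cons_val]; ring
      exact this ▸ ha)
    rw [map_qf] at h1
    have key : ∀ (i : Fin 3) (z : S), z ∈ maximalIdeal S ^ 2 → (ι (π (a i)) - j (a i)) * z ∈ maximalIdeal S ^ 3 :=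
      fun i z hz => by rw [pow_succ']; exact Ideal.mul_mem_mul (hι _) hz
    have h2 := add_mem h1 (add_mem (add_mem (key 0 (j u ^ 2) (by rw [pow_two, pow_two]; exact Ideal.mul_mem_mul hju hju))
      (key 1 (j u * j v) (by rw [pow_two]; exact Ideal.mul_mem_mul hju hjv)))
      (key 2 (j v ^ 2) (by rw [pow_two, pow_two]; exact Ideal.mul_mem_mul hjv hjv)))
    convert h2 using 1
    simp only [qf]
    ring
  have hGu : G (j u) ∈ R2max F := hGm _ hju
  have hGv : G (j v) ∈ R2max F := hGm _ hjv
  have hzero : ∀ i, qf (σ (π (a 0))) (σ (π (a 1))) (σ (π (a 2))) (lin i (ψB (algebraMap A B u)))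
      (lin i (ψB (algebraMap A B v))) = 0 := fun i => by
    have := qf_lin_eq_zero hGu hGv (G (ι (π (a 0)))) (G (ι (π (a 1)))) (G (ι (π (a 2))))
      (by rw [← map_qf, ← hGmax, ← Ideal.map_pow]; exact Ideal.mem_map_of_mem G hq) i
    rwa [hGι, hGι, hGι, cc_C, cc_C, cc_C, hGa, hGa] at this
  have hne : σ (π (a 0)) ≠ 0 ∨ σ (π (a 1)) ≠ 0 ∨ σ (π (a 2)) ≠ 0 := by
    have : σ (π (a i₀)) ≠ 0 := fun h0 => hi₀ (hker ▸ (map_eq_zero σ).1 h0)
    fin_cases i₀
    · exact Or.inl this
    · exact Or.inr (Or.inl this)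
    · exact Or.inr (Or.inr this)
  have hdisc : 4 * π (a 0) * π (a 2) - π (a 1) ^ 2 ≠ 0 := by
    intro h0
    refine disc_ne_zero (σ (π (a 0))) (σ (π (a 1))) (σ (π (a 2))) _ _ _ _ (hzero 0) (hzero 1) hdet hne ?_
    simpa [map_ofNat] using congrArg σ h0
  -- normal form
  obtain ⟨a', b', c', α, β, γ, δ, ha', hdisc', hαδ, hT⟩ := exists_normal_form.{u} _ _ _ hdisc
  let d := α * δ - β * γ
  let x₀ := ι (δ / d) * j u - ι (β / d) * j v
  let y₀ := ι (α / d) * j v - ι (γ / d) * j u
  have hxu : ι α * x₀ + ι β * y₀ = j u := by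
    have h1 : ι α * ι (δ / d) - ι β * ι (γ / d) = 1 := by
      rw [← map_mul, ← map_mul, ← map_sub, ← map_one ι, mul_div_assoc', mul_div_assoc', ← sub_div, div_self hαδ]
    have h2 : ι β * ι (α / d) = ι α * ι (β / d) := by rw [← map_mul, ← map_mul]; congr 1; ring
    linear_combination (j u) * h1 + (j v) * h2
  have hyv : ι γ * x₀ + ι δ * y₀ = j v := by
    have h1 : ι δ * ι (α / d) - ι γ * ι (β / d) = 1 := by
      rw [← map_mul, ← map_mul, ← map_sub, ← map_one ι, mul_div_assoc', mul_div_assoc', ← sub_div, mul_comm δ α,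
        mul_comm γ β, div_self hαδ]
    have h2 : ι γ * ι (δ / d) = ι δ * ι (γ / d) := by rw [← map_mul, ← map_mul]; congr 1; ring
    linear_combination (j v) * h1 + (j u) * h2
  have hgen₀ : Ideal.span {x₀, y₀} = maximalIdeal S := by
    refine le_antisymm ?_ ?_
    · rw [Ideal.span_le]
      rintro _ (rfl | rfl) <;> exact sub_mem (Ideal.mul_mem_left _ _ ‹_›) (Ideal.mul_mem_left _ _ ‹_›)
    · have hj' : Ideal.span {j u, j v} = (maximalIdeal A).map j :=
        (Set.image_pair j u v ▸ (Ideal.map_span j {u, v}).symm).trans (congrArg (Ideal.map j) hgen)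
      rw [AdicCompletion.maximalIdeal_eq_map, ← hj', Ideal.span_le]
      rintro _ (rfl | rfl)
      · exact Ideal.mem_span_pair.2 ⟨_, _, hxu⟩
      · exact Ideal.mem_span_pair.2 ⟨_, _, hyv⟩
  have hD : IsUnit (4 * ι a' * ι c' - ι b' ^ 2) := by
    convert (IsUnit.mk0 _ hdisc').map ι using 1
    simp [map_ofNat]
  have hq₀ : qf (ι a') (ι b') (ι c') x₀ y₀ ∈ maximalIdeal S ^ 3 := by
    have h1 := hT S ι.toRingHom x₀ y₀
    simp only [AlgHom.toRingHom_eq_coe, RingHom.coe_coe] at h1
    rw [hxu, hyv] at h1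
    exact h1 ▸ hq
  obtain ⟨x, y, hgenS, hzeroS⟩ := exists_exact_quadratic (ι a') (ι b') (ι c') x₀ y₀ hgen₀ hD hq₀
  have hx : x ∈ maximalIdeal S := hgenS ▸ Ideal.subset_span (Or.inl rfl)
  have hy : y ∈ maximalIdeal S := hgenS ▸ Ideal.subset_span (Or.inr rfl)
  have hdetS : lin 0 (G x) * lin 1 (G y) - lin 1 (G x) * lin 0 (G y) ≠ 0 :=
    det_lin_ne_zero (by rw [← Set.image_pair, ← Ideal.map_span, hgenS, hGmax])
  have hrootS : ∀ i, qf (σ a') (σ b') (σ c') (lin i (G x)) (lin i (G y)) = 0 := fun i => by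
    have := qf_lin_eq_zero (hGm x hx) (hGm y hy) (G (ι a')) (G (ι b')) (G (ι c'))
      (by rw [← map_qf, hzeroS, map_zero]; exact zero_mem _) i
    rwa [hGι, hGι, hGι, cc_C, cc_C, cc_C] at this
  have hlw : ∀ i, lin i (G y) ≠ 0 := fun i h0 => by
    have h1 := hrootS i
    simp only [qf, h0, mul_zero, add_zero, ne_eq, OfNat.ofNat_ne_zero, not_false_eq_true, zero_pow] at h1
    have h2 : lin i (G x) = 0 :=
      (pow_eq_zero_iff two_ne_zero).1 ((mul_eq_zero.1 h1).resolve_left (by simpa using ha'))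
    refine hdetS ?_
    obtain rfl | rfl : i = 0 ∨ i = 1 := by omega
    · rw [h0, h2]; ring
    · rw [h0, h2]; ring
  -- the power series map
  letI : Algebra κ S := ι.toRingHom.toAlgebra
  obtain ⟨φ, hφ⟩ := Groth.L12.exists_evalPS (R := κ) (maximalIdeal S) ![x, y] (fun i => by fin_cases i <;> assumption)
  have hφC : ∀ z : κ, φ (MvPowerSeries.C z) = ι z := fun z => φ.commutes z
  have hI : (maximalIdeal (MvPowerSeries (Fin 2) κ)).map φ.toRingHom = maximalIdeal S := by
    rw [← span_X_eq_maximalIdeal, Ideal.map_span, Set.image_pair, ← hgenS,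
      show φ.toRingHom (MvPowerSeries.X 0) = x from hφ 0, show φ.toRingHom (MvPowerSeries.X 1) = y from hφ 1]
  have hsurj : Function.Surjective φ := by
    have hr : Ideal.span (Set.range (MvPowerSeries.X : Fin 2 → MvPowerSeries (Fin 2) κ)) =
        maximalIdeal (MvPowerSeries (Fin 2) κ) := by
      rw [← span_X_eq_maximalIdeal]
      congr 1
      ext z
      simp [Fin.exists_fin_two, eq_comm]
    rw [← hr] at hI
    haveI : IsHausdorff ((Ideal.span (Set.range (MvPowerSeries.X : Fin 2 → MvPowerSeries (Fin 2) κ))).map φ.toRingHom) S :=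
      hI ▸ inferInstance
    refine surjective_of_mk_map_comp_surjective
      (I := Ideal.span (Set.range (MvPowerSeries.X : Fin 2 → MvPowerSeries (Fin 2) κ))) φ.toRingHom fun z => ?_
    obtain ⟨s, rfl⟩ := Ideal.Quotient.mk_surjective z
    obtain ⟨r, hr⟩ := (AdicCompletion.residueField_map_bijective A).2 (residue _ s)
    obtain ⟨r, rfl⟩ := residue_surjective r
    rw [ResidueField.map_residue] at hr
    refine ⟨MvPowerSeries.C (π r), Ideal.Quotient.eq.2 ?_⟩
    rw [hI, show φ.toRingHom (MvPowerSeries.C (π r)) = ι (π r) from hφC _, show ι (π r) - s =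
      (ι (π r) - algebraMap A S r) + (algebraMap A S r - s) by ring]
    exact add_mem (hι r) ((residue_eq_zero_iff _).1 (by rw [map_sub]; exact sub_eq_zero.2 hr))
  let Q : MvPowerSeries (Fin 2) κ :=
    qf (MvPowerSeries.C a') (MvPowerSeries.C b') (MvPowerSeries.C c') (MvPowerSeries.X 0) (MvPowerSeries.X 1)
  have hφQ : φ.toRingHom Q = 0 := by
    rw [map_qf]
    show qf (φ _) (φ _) (φ _) (φ _) (φ _) = 0
    rw [hφC, hφC, hφC, hφ 0, hφ 1]
    exact hzeroS
  have hcc : ∀ f, cc (G (φ f)) = σ (MvPowerSeries.constantCoeff f) := fun f => by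
    have h1 : G (φ (f - MvPowerSeries.C (MvPowerSeries.constantCoeff f))) ∈ R2max F :=
      hGm _ (hI ▸ Ideal.mem_map_of_mem φ.toRingHom (sub_C_mem_maximalIdeal f))
    rw [mem_R2max_iff_cc, map_sub, hφC, map_sub, map_sub, hGι, cc_C, sub_eq_zero] at h1
    exact h1
  let J := Ideal.span {Q}
  let M := maximalIdeal (MvPowerSeries (Fin 2) κ)
  have hker' : ∀ n : ℕ, ∀ f, φ f = 0 → f ∈ J ⊔ M ^ n := by
    intro n
    induction n with
    | zero => intro f _; rw [pow_zero, Ideal.one_eq_top, sup_top_eq]; trivial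
    | succ n ih =>
      intro f hf
      cases n with
      | zero =>
        refine Submodule.mem_sup_right ?_
        rw [zero_add, pow_one]
        refine (mem_maximalIdeal _).2 fun h => ?_
        have := h.map φ
        rw [hf] at this
        exact not_isUnit_zero this
      | succ N =>
        obtain ⟨p, hp, r, hr, rfl⟩ := Submodule.mem_sup.1 (ih f hf)
        have hφp : φ p = 0 := by
          obtain ⟨w, rfl⟩ := Ideal.mem_span_singleton'.1 hp
          rw [map_mul, show φ Q = 0 from hφQ, mul_zero]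
        rw [map_add, hφp, zero_add] at hf
        refine add_mem (Submodule.mem_sup_left hp) ?_
        have hr' : r ∈ Ideal.span {(MvPowerSeries.X 0 : MvPowerSeries (Fin 2) κ), MvPowerSeries.X 1} ^ (N + 1) := by
          rw [span_X_eq_maximalIdeal]; exact hr
        obtain ⟨p', hp', s, hs, rfl⟩ := Submodule.mem_sup.1
          (pow_le_sup (MvPowerSeries.C a') (MvPowerSeries.C b') (MvPowerSeries.C c') _ _
            ((IsUnit.mk0 _ ha').map MvPowerSeries.C) N hr')
        obtain ⟨P, R, rfl⟩ := Ideal.mem_span_pair.1 hs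
        have hφp' : φ p' = 0 := by
          obtain ⟨w, rfl⟩ := Ideal.mem_span_singleton'.1 hp'
          rw [map_mul, show φ (qf _ _ _ _ _) = 0 from hφQ, mul_zero]
        rw [map_add, hφp', zero_add, map_add, map_mul, map_mul, map_mul, map_pow, map_pow, hφ 0, hφ 1] at hf
        simp only [Matrix.cons_val_zero, Matrix.cons_val_one] at hf
        have h2 := congrArg G hf
        rw [map_add, map_mul, map_mul, map_mul, map_pow, map_pow, map_zero] at h2
        have h3 : ∀ i, σ (MvPowerSeries.constantCoeff P) * lin i (G x) + σ (MvPowerSeries.constantCoeff R) * lin i (G y) = 0 :=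
          fun i => by
          rw [← hcc, ← hcc]
          exact (mul_eq_zero.1 (lin_comb_eq_zero (hGm x hx) (hGm y hy) _ _ N h2 i)).resolve_right
            (pow_ne_zero _ (hlw i))
        have hP : σ (MvPowerSeries.constantCoeff P) = 0 := (mul_eq_zero.1 (show _ * _ = (0 : F) by
          linear_combination (lin 1 (G y)) * h3 0 - (lin 0 (G y)) * h3 1)).resolve_right hdetS
        have hR : σ (MvPowerSeries.constantCoeff R) = 0 := (mul_eq_zero.1 (show _ * _ = (0 : F) by
          linear_combination (lin 0 (G x)) * h3 1 - (lin 1 (G x)) * h3 0)).resolve_right hdetS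
        have hPM : P ∈ M := by
          have := sub_C_mem_maximalIdeal P
          rwa [(map_eq_zero σ).1 hP, map_zero, sub_zero] at this
        have hRM : R ∈ M := by
          have := sub_C_mem_maximalIdeal R
          rwa [(map_eq_zero σ).1 hR, map_zero, sub_zero] at this
        have hX : ∀ i : Fin 2, (MvPowerSeries.X i : MvPowerSeries (Fin 2) κ) ∈ M := fun i => by
          show _ ∈ maximalIdeal _
          rw [← span_X_eq_maximalIdeal]
          exact Ideal.subset_span (by fin_cases i <;> simp)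
        refine add_mem (Submodule.mem_sup_left hp') (Submodule.mem_sup_right (add_mem ?_ ?_))
        · rw [pow_succ']
          exact Ideal.mul_mem_mul hPM (by rw [pow_succ']; exact Ideal.mul_mem_mul (hX 0) (Ideal.pow_mem_pow (hX 1) N))
        · rw [pow_succ' M]
          exact Ideal.mul_mem_mul hRM (Ideal.pow_mem_pow (hX 1) (N + 1))
  have hJM : J ≤ M := by
    rw [Ideal.span_singleton_le_iff_mem]
    refine (mem_maximalIdeal _).2 fun h => ?_
    have := h.map φ.toRingHom
    rw [hφQ] at this
    exact not_isUnit_zero this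
  have hk : RingHom.ker φ.toRingHom = J := by
    refine le_antisymm (fun f hf => ?_) ((Ideal.span_singleton_le_iff_mem _).2 hφQ)
    haveI : Nontrivial (MvPowerSeries (Fin 2) κ ⧸ J) :=
      Ideal.Quotient.nontrivial_iff.2 fun h => (maximalIdeal.isMaximal _).ne_top (top_le_iff.1 (h ▸ hJM))
    haveI : IsLocalRing (MvPowerSeries (Fin 2) κ ⧸ J) :=
      IsLocalRing.of_surjective' _ Ideal.Quotient.mk_surjective
    rw [← Ideal.Quotient.eq_zero_iff_mem, ← Submodule.mem_bot (MvPowerSeries (Fin 2) κ ⧸ J),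
      ← Ideal.iInf_pow_eq_bot_of_isLocalRing (maximalIdeal (MvPowerSeries (Fin 2) κ ⧸ J))
        (maximalIdeal.isMaximal _).ne_top, Submodule.mem_iInf]
    intro n
    rw [← IsLocalRing.map_maximalIdeal_of_surjective (Ideal.Quotient.mk J) Ideal.Quotient.mk_surjective,
      ← Ideal.map_pow, Ideal.mem_quotient_iff_mem_sup, sup_comm]
    exact hker' n f hf
  have hQ : Q = MvPowerSeries.C a' * MvPowerSeries.X 0 ^ 2 +
      MvPowerSeries.C b' * MvPowerSeries.X 0 * MvPowerSeries.X 1 + MvPowerSeries.C c' * MvPowerSeries.X 1 ^ 2 := by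
    simp only [Q, qf, mul_assoc]
  refine ⟨a', b', c', hdisc', ((Ideal.quotEquivOfEq (show Ideal.span _ = RingHom.ker φ.toRingHom by rw [hk, ← hQ])).trans
    (RingHom.quotientKerEquivOfSurjective hsurj)).symm, fun t => ?_⟩
  rw [RingEquiv.symm_apply_eq]
  exact ((hφC _).trans (hι' t)).symm

end

end Groth.L21.Nodal
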