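import Groth.Agent.L21.Nodal.DeformNode
import Groth.Agent.L21.Nodal.QuadCompletion
import Groth.Agent.L18.FiberStalk
import Groth.Prelude.Def_Curv2

/-! Nodes in the fibres of flat families: the completion of the total space. -/

set_option autoImplicit false
universe u

open CategoryTheory CategoryTheory.Limits AlgebraicGeometry IsLocalRing

noncomputable section

namespace Groth.L21.Nodal

section Fibre

variable {A B : Type u} [CommRing A] [IsLocalRing A] [IsNoetherianRing A]
  [CommRing B] [IsLocalRing B] [IsNoetherianRing B] [Algebra A B] [IsLocalHom (algebraMap A B)]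

local notation "Ah" => AdicCompletion (maximalIdeal A) A
local notation "Bh" => AdicCompletion (maximalIdeal B) B

/-- The completion maps onto the completion of the closed fibre with kernel in `m_A`. -/
theorem exists_fibre_completion {D : Type u} [CommRing D] [IsLocalRing D] [IsNoetherianRing D] (π : B →+* D)
    (hπ : Function.Surjective π) (hker : RingHom.ker π = (maximalIdeal A).map (algebraMap A B)) :
    ∃ Ψ : Bh →+* AdicCompletion (maximalIdeal D) D, Function.Surjective Ψ ∧
      (∀ b, Ψ (algebraMap B Bh b) = algebraMap D _ (π b)) ∧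
      ∀ z, Ψ z = 0 ↔ z ∈ (maximalIdeal A).map (algebraMap A Bh) := by
  let Dh := AdicCompletion (maximalIdeal D) D
  let f : B →+* Dh := (algebraMap D Dh).comp π
  have hfm : (maximalIdeal B).map f = maximalIdeal Dh := by
    rw [← Ideal.map_map, IsLocalRing.map_maximalIdeal_of_surjective π hπ, AdicCompletion.maximalIdeal_eq_map]
  obtain ⟨Ψ, hΨ, hΨm⟩ := Groth.L01.CompletionExt.exists_extend f hfm.le
  have hI : (maximalIdeal Bh).map Ψ = maximalIdeal Dh := by
    rw [AdicCompletion.maximalIdeal_eq_map, Ideal.map_map, show Ψ.comp (algebraMap B Bh) = f from RingHom.ext hΨ, hfm]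
  have hsurj : Function.Surjective Ψ := by
    haveI : IsHausdorff ((maximalIdeal Bh).map Ψ) Dh := hI ▸ inferInstance
    refine surjective_of_mk_map_comp_surjective (I := maximalIdeal Bh) Ψ fun z => ?_
    obtain ⟨s, rfl⟩ := Ideal.Quotient.mk_surjective z
    obtain ⟨d, hd⟩ := Groth.L01.CompletionExt.exists_sub_mem_pow 1 s
    rw [pow_one] at hd
    obtain ⟨b, rfl⟩ := hπ d
    refine ⟨algebraMap B Bh b, Ideal.Quotient.eq.2 ?_⟩
    rw [hI, hΨ, ← neg_sub]
    exact neg_mem hd
  refine ⟨Ψ, hsurj, hΨ, fun z => ⟨fun hz => ?_, fun hz => ?_⟩⟩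
  · refine mem_of_forall_mem_sup_pow map_maximalIdeal_le_completion fun n => ?_
    obtain ⟨b, hb⟩ := Groth.L01.CompletionExt.exists_sub_mem_pow n z
    have h1 : algebraMap D Dh (π b) ∈ maximalIdeal Dh ^ n := by
      have h2 : Ψ (z - algebraMap B Bh b) ∈ maximalIdeal Dh ^ n := by
        rw [← hI, ← Ideal.map_pow]; exact Ideal.mem_map_of_mem _ hb
      rw [map_sub, hz, hΨ, zero_sub, neg_mem_iff] at h2
      exact h2
    have h3 := mem_pow_of_algebraMap_mem h1
    rw [← IsLocalRing.map_maximalIdeal_of_surjective π hπ, ← Ideal.map_pow] at h3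
    obtain ⟨b', hb', hbb⟩ := (Ideal.mem_map_iff_of_surjective π hπ).1 h3
    have hk : b - b' ∈ (maximalIdeal A).map (algebraMap A B) := by
      rw [← hker, RingHom.mem_ker, map_sub, hbb, sub_self]
    rw [show z = algebraMap B Bh (b - b') + (algebraMap B Bh b' + (z - algebraMap B Bh b)) by rw [map_sub]; ring]
    refine Submodule.add_mem_sup ?_ (add_mem ?_ hb)
    · rw [IsScalarTower.algebraMap_eq A B Bh, ← Ideal.map_map]
      exact Ideal.mem_map_of_mem _ hk
    · rw [AdicCompletion.maximalIdeal_eq_map, ← Ideal.map_pow]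
      exact Ideal.mem_map_of_mem _ hb'
  · refine RingHom.mem_ker.1 ((Ideal.map_le_iff_le_comap.2 fun a ha => ?_) hz)
    rw [Ideal.mem_comap, RingHom.mem_ker, IsScalarTower.algebraMap_apply A B Bh, hΨ]
    show algebraMap D Dh (π (algebraMap A B a)) = 0
    rw [show π (algebraMap A B a) = 0 from RingHom.mem_ker.1 (hker ▸ Ideal.mem_map_of_mem _ ha), map_zero]

/-- The deformation of a node, as an isomorphism. -/
theorem exists_deform_iso [Module.Flat A B] (hres : ∀ b : B, ∃ a : A, b - algebraMap A B a ∈ maximalIdeal B)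
    (a b c : A) (hD : IsUnit (4 * a * c - b ^ 2)) (x y : Bh)
    (hgen : Ideal.span {x, y} ⊔ (maximalIdeal A).map (algebraMap A Bh) = maximalIdeal Bh)
    (hq : qf (algebraMap A Bh a) (algebraMap A Bh b) (algebraMap A Bh c) x y ∈
      (maximalIdeal A).map (algebraMap A Bh))
    (Ψ : Bh →+* MvPowerSeries (Fin 2) (ResidueField A) ⧸ Ideal.span
      {qf (MvPowerSeries.C (residue A a)) (MvPowerSeries.C (residue A b)) (MvPowerSeries.C (residue A c))
        (MvPowerSeries.X 0) (MvPowerSeries.X 1 : MvPowerSeries (Fin 2) (ResidueField A))})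
    (hΨ : Function.Surjective Ψ) (hΨM : ∀ z ∈ (maximalIdeal A).map (algebraMap A Bh), Ψ z = 0) :
    ∃ (α : Ah), α ∈ maximalIdeal Ah ∧
      ∃ ψ : (MvPowerSeries (Fin 2) Ah ⧸ Ideal.span
          {qf (MvPowerSeries.C (algebraMap A Ah a)) (MvPowerSeries.C (algebraMap A Ah b))
            (MvPowerSeries.C (algebraMap A Ah c)) (MvPowerSeries.X 0) (MvPowerSeries.X 1 : MvPowerSeries (Fin 2) Ah) -
              MvPowerSeries.C α}) ≃ₐ[A] Bh,
        ψ (Ideal.Quotient.mk _ (MvPowerSeries.X 0)) - x ∈ (maximalIdeal A).map (algebraMap A Bh) ∧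
        ψ (Ideal.Quotient.mk _ (MvPowerSeries.X 1)) - y ∈ (maximalIdeal A).map (algebraMap A Bh) := by
  obtain ⟨α, φ, hα, hsurj, hφQ, hx, hy⟩ := exists_deform_surj hres a b c hD x y hgen hq
  have hk := ker_deform a b c α hα φ hsurj hφQ Ψ hΨ hΨM
  exact ⟨α, hα, (Ideal.quotientEquivAlgOfEq A hk.symm).trans (Ideal.quotientKerAlgEquivOfSurjective hsurj), hx, hy⟩

/-- From the completion of the closed fibre. -/
theorem exists_deform_of_fibre [Module.Flat A B] {D : Type u} [CommRing D] [IsLocalRing D] [IsNoetherianRing D]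
    (π : B →+* D) (hπ : Function.Surjective π) (hker : RingHom.ker π = (maximalIdeal A).map (algebraMap A B))
    (a b c : A) (hD : IsUnit (4 * a * c - b ^ 2))
    (e : AdicCompletion (maximalIdeal D) D ≃+* MvPowerSeries (Fin 2) (ResidueField A) ⧸ Ideal.span
      {qf (MvPowerSeries.C (residue A a)) (MvPowerSeries.C (residue A b)) (MvPowerSeries.C (residue A c))
        (MvPowerSeries.X 0) (MvPowerSeries.X 1 : MvPowerSeries (Fin 2) (ResidueField A))})
    (he : ∀ r : A, e (algebraMap D _ (π (algebraMap A B r))) = Ideal.Quotient.mk _ (MvPowerSeries.C (residue A r))) :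
    ∃ (α : Ah), α ∈ maximalIdeal Ah ∧
      Nonempty ((MvPowerSeries (Fin 2) Ah ⧸ Ideal.span
          {qf (MvPowerSeries.C (algebraMap A Ah a)) (MvPowerSeries.C (algebraMap A Ah b))
            (MvPowerSeries.C (algebraMap A Ah c)) (MvPowerSeries.X 0) (MvPowerSeries.X 1 : MvPowerSeries (Fin 2) Ah) -
              MvPowerSeries.C α}) ≃ₐ[A] Bh) := by
  obtain ⟨Ψ₀, hΨ₀, hΨ₀π, hΨ₀k⟩ := exists_fibre_completion π hπ hker
  let Ψ := e.toRingHom.comp Ψ₀
  have hΨ : Function.Surjective Ψ := e.surjective.comp hΨ₀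
  have hΨk : ∀ z, Ψ z = 0 ↔ z ∈ (maximalIdeal A).map (algebraMap A Bh) := fun z =>
    (map_eq_zero_iff e.toRingHom e.injective).trans (hΨ₀k z)
  have hΨA : ∀ r : A, Ψ (algebraMap A Bh r) = Ideal.Quotient.mk _ (MvPowerSeries.C (residue A r)) := fun r => by
    rw [IsScalarTower.algebraMap_apply A B Bh]
    exact (congrArg e (hΨ₀π _)).trans (he r)
  let R₀ := MvPowerSeries (Fin 2) (ResidueField A) ⧸ Ideal.span
      {qf (MvPowerSeries.C (residue A a)) (MvPowerSeries.C (residue A b)) (MvPowerSeries.C (residue A c))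
        (MvPowerSeries.X 0) (MvPowerSeries.X 1 : MvPowerSeries (Fin 2) (ResidueField A))}
  haveI : Nontrivial R₀ := e.symm.toEquiv.nontrivial
  haveI : IsLocalRing R₀ := IsLocalRing.of_surjective' _ Ideal.Quotient.mk_surjective
  have hres : ∀ s : B, ∃ r : A, s - algebraMap A B r ∈ maximalIdeal B := by
    intro s
    obtain ⟨f, hf⟩ := Ideal.Quotient.mk_surjective (Ψ (algebraMap B Bh s))
    obtain ⟨r, hr⟩ := residue_surjective (MvPowerSeries.constantCoeff f)
    refine ⟨r, (mem_maximalIdeal _).2 fun hu => ?_⟩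
    have h1 := (hu.map (algebraMap B Bh)).map Ψ
    rw [map_sub, map_sub, ← IsScalarTower.algebraMap_apply, hΨA, ← hf, ← map_sub, hr] at h1
    refine (mem_maximalIdeal _).1 ?_ h1
    rw [← IsLocalRing.map_maximalIdeal_of_surjective (Ideal.Quotient.mk _) Ideal.Quotient.mk_surjective]
    exact Ideal.mem_map_of_mem _ (sub_C_mem_maximalIdeal f)
  obtain ⟨x, hx⟩ := hΨ (Ideal.Quotient.mk _ (MvPowerSeries.X 0))
  obtain ⟨y, hy⟩ := hΨ (Ideal.Quotient.mk _ (MvPowerSeries.X 1))
  have hspan : maximalIdeal R₀ = Ideal.span {Ψ x, Ψ y} := by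
    rw [← IsLocalRing.map_maximalIdeal_of_surjective (Ideal.Quotient.mk _) Ideal.Quotient.mk_surjective,
      ← span_X_eq_maximalIdeal, Ideal.map_span, Set.image_pair, hx, hy]
  have hgen : Ideal.span {x, y} ⊔ (maximalIdeal A).map (algebraMap A Bh) = maximalIdeal Bh := by
    refine le_antisymm (sup_le ?_ map_maximalIdeal_le_completion) fun s hs => ?_
    · rw [Ideal.span_le]
      intro z hz
      refine (mem_maximalIdeal _).2 fun hu => (mem_maximalIdeal _).1 ?_ (hu.map Ψ)
      rw [hspan]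
      rcases hz with hz | hz
      · exact Ideal.subset_span (Or.inl (congrArg Ψ hz))
      · exact Ideal.subset_span (Or.inr (congrArg Ψ (Set.mem_singleton_iff.1 hz)))
    · have h1 : Ψ s ∈ maximalIdeal R₀ := by
        rw [← IsLocalRing.map_maximalIdeal_of_surjective Ψ hΨ]
        exact Ideal.mem_map_of_mem _ hs
      rw [hspan, Ideal.mem_span_pair] at h1
      obtain ⟨β, γ, h⟩ := h1
      obtain ⟨β, rfl⟩ := hΨ β
      obtain ⟨γ, rfl⟩ := hΨ γ
      rw [show s = (β * x + γ * y) + (s - (β * x + γ * y)) by ring]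
      refine Submodule.add_mem_sup (Ideal.mem_span_pair.2 ⟨β, γ, rfl⟩) ((hΨk _).1 ?_)
      rw [map_sub, map_add, map_mul, map_mul, h, sub_self]
  have hq : qf (algebraMap A Bh a) (algebraMap A Bh b) (algebraMap A Bh c) x y ∈
      (maximalIdeal A).map (algebraMap A Bh) := by
    rw [← hΨk, map_qf, hΨA, hΨA, hΨA, hx, hy, ← map_qf]
    exact Ideal.Quotient.eq_zero_iff_mem.2 (Ideal.mem_span_singleton_self _)
  obtain ⟨α, hα, ψ, -, -⟩ := exists_deform_iso hres a b c hD x y hgen hq Ψ hΨ fun z hz => (hΨk z).2 hz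
  exact ⟨α, hα, ⟨ψ⟩⟩

end Fibre

section Scheme

theorem SpecMap_stalkMap (k : Type u) [Field k] (X : Scheme.{u}) [X.Over (Spec (CommRingCat.of k))] (x : X) :
    Spec.map (CommRingCat.ofHom (Curv2.stalkMap k X x)) = X.fromSpecStalk x ≫ (X ↘ Spec (CommRingCat.of k)) := by
  have e : CommRingCat.ofHom (Curv2.stalkMap k X x) =
      (Scheme.ΓSpecIso (CommRingCat.of k)).inv ≫ (X ↘ Spec (CommRingCat.of k)).appTop ≫
        X.presheaf.germ ⊤ x trivial := rfl
  rw [e]
  have hq : (X ↘ Spec (CommRingCat.of k)) = X.toSpecΓ ≫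
      Spec.map ((Scheme.ΓSpecIso (CommRingCat.of k)).inv ≫ (X ↘ Spec (CommRingCat.of k)).appTop) := by
    rw [Spec.map_comp, ← Scheme.toSpecΓ_naturality_assoc, ← SpecMap_ΓSpecIso_hom, ← Spec.map_comp]
    simp
  conv_rhs => rw [hq]
  rw [Scheme.fromSpecStalk_toSpecΓ_assoc, ← Spec.map_comp, Category.assoc]

variable {T S : Scheme.{u}}

/-- The local ring of the fibre as a quotient, compatibly with the residue field of the base. -/
theorem exists_fibre_stalk_hom (f : T ⟶ S) (t : T) :
    letI : (f.fiber (f t)).Over (Spec (CommRingCat.of (S.residueField (f t)))) := ⟨f.fiberToSpecResidueField (f t)⟩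
    ∃ π : T.presheaf.stalk t →+* (f.fiber (f t)).presheaf.stalk (f.asFiber t), Function.Surjective π ∧
      RingHom.ker π = (maximalIdeal (S.presheaf.stalk (f t))).map (f.stalkMap t).hom ∧
      ∀ r, π ((f.stalkMap t).hom r) =
        Curv2.stalkMap (S.residueField (f t)) (f.fiber (f t)) (f.asFiber t) (S.residue (f t) r) := by
  suffices H : ∀ (x : T) (F : Scheme.{u}) (ι : F ⟶ T) [IsPreimmersion ι] (p : F ⟶ Spec (S.residueField (f x)))
      (_ : IsPullback ι p f (S.fromSpecResidueField (f x))) (y : F) (_ : ι y = x),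
      letI : F.Over (Spec (CommRingCat.of (S.residueField (f x)))) := ⟨p⟩
      ∃ π : T.presheaf.stalk x →+* F.presheaf.stalk y, Function.Surjective π ∧
        RingHom.ker π = (maximalIdeal (S.presheaf.stalk (f x))).map (f.stalkMap x).hom ∧
        ∀ r, π ((f.stalkMap x).hom r) = Curv2.stalkMap (S.residueField (f x)) F y (S.residue (f x) r) from
    H t (f.fiber (f t)) (f.fiberι (f t)) (f.fiberToSpecResidueField (f t)) (IsPullback.of_hasPullback _ _)
      (f.asFiber t) (f.fiberι_asFiber t)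
  intro x F ι _ p hp y hy
  letI : F.Over (Spec (CommRingCat.of (S.residueField (f x)))) := ⟨p⟩
  subst hy
  refine ⟨(ι.stalkMap y).hom, ι.stalkMap_surjective y, Groth.L18.stalkMap_fiberι_aux f ι y _ rfl p hp, fun r => ?_⟩
  have hcond : f.stalkMap (ι y) ≫ ι.stalkMap y =
      S.residue (f (ι y)) ≫ CommRingCat.ofHom (Curv2.stalkMap (S.residueField (f (ι y))) F y) := by
    apply Spec.map_injective
    rw [← cancel_mono (S.fromSpecStalk (f (ι y)))]
    simp only [Spec.map_comp, Category.assoc, Scheme.SpecMap_stalkMap_fromSpecStalk]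
    rw [Scheme.SpecMap_stalkMap_fromSpecStalk_assoc]
    erw [SpecMap_stalkMap]
    show _ = (F.fromSpecStalk y ≫ p) ≫ S.fromSpecResidueField (f (ι y))
    rw [Category.assoc, ← hp.w]
  exact ConcreteCategory.congr_hom hcond r

end Scheme

end Groth.L21.Nodal
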