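import Groth.Agent.L21.Nodal.DeformNode
import Groth.Agent.L01.CompletionExt
import Groth.Agent.L21.Nodal.Extend
import Mathlib.RingTheory.Kaehler.Basic

/-! Differentials at a deformed node `x y = u` are cyclic away from `u = 0`. -/

set_option autoImplicit false
universe u

open IsLocalRing

noncomputable section

namespace Groth.L21.Nodal

/-- Away from `u = 0` derivations of a deformed node are determined by one value. -/
theorem exists_derivation_bound {R B : Type u} [CommRing R] [CommRing B] [IsLocalRing B] [IsNoetherianRing B]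
    [Algebra R B] [Algebra.EssFiniteType R B] (u : R)
    (H : ∀ n : ℕ, ∃ b₁ b₂ : B, b₁ ∈ maximalIdeal B ∧ b₂ ∈ maximalIdeal B ∧
      b₁ * b₂ - algebraMap R B u ∈ maximalIdeal B ^ n ∧
      ∀ b, ∃ r : R, b - algebraMap R B r ∈ Ideal.span {b₁, b₂} ⊔ maximalIdeal B ^ 2)
    (q : Ideal B) [hq : q.IsPrime] (hu : algebraMap R B u ∉ q) :
    ∃ e : B, ∀ (F : Type u) [Field F] (φ : B →+* F) (D : B →+ F), RingHom.ker φ = q →
      (∀ a b, D (a * b) = φ a * D b + φ b * D a) → (∀ r : R, D (algebraMap R B r) = 0) → D e = 0 → D = 0 := by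
  set M := maximalIdeal B with hM
  obtain ⟨k, hk⟩ : ∃ k, algebraMap R B u ∉ q ⊔ M ^ k := by
    by_contra h
    push Not at h
    exact hu (mem_of_forall_mem_sup_pow (le_maximalIdeal hq.ne_top) h)
  obtain ⟨b₁, b₂, hb₁, hb₂, hmul, hres⟩ := H (k + 1)
  let Ω := KaehlerDifferential R B
  let d := KaehlerDifferential.D R B
  let N : Submodule B Ω := Submodule.span B {d b₁, d b₂}
  let K : Ideal B :=
    { carrier := {z | z ∈ M ∧ d z ∈ N ⊔ M • ⊤}
      zero_mem' := ⟨zero_mem _, by rw [map_zero]; exact zero_mem _⟩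
      add_mem' := fun {a b} ha hb => ⟨add_mem ha.1 hb.1, by rw [map_add]; exact add_mem ha.2 hb.2⟩
      smul_mem' := fun c z hz => ⟨Ideal.mul_mem_left _ c hz.1, by
        rw [smul_eq_mul, Derivation.leibniz]
        exact add_mem (Submodule.smul_mem _ c hz.2)
          (Submodule.mem_sup_right (Submodule.smul_mem_smul hz.1 Submodule.mem_top))⟩ }
  have hle : Ideal.span {b₁, b₂} ⊔ M ^ 2 ≤ K := by
    refine sup_le ?_ ?_
    · rw [Ideal.span_le]
      rintro _ (rfl | rfl)
      · exact ⟨hb₁, Submodule.mem_sup_left (Submodule.subset_span (Or.inl rfl))⟩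
      · exact ⟨hb₂, Submodule.mem_sup_left (Submodule.subset_span (Or.inr rfl))⟩
    · rw [pow_two, Ideal.mul_le]
      intro a ha b hb
      refine ⟨Ideal.mul_mem_left _ a hb, ?_⟩
      rw [Derivation.leibniz]
      exact add_mem (Submodule.mem_sup_right (Submodule.smul_mem_smul ha Submodule.mem_top))
        (Submodule.mem_sup_right (Submodule.smul_mem_smul hb Submodule.mem_top))
  have hN : N = ⊤ := by
    refine top_le_iff.1 (Submodule.le_of_le_smul_of_le_jacobson_bot (I := M) (Module.Finite.fg_top (R := B) (M := Ω))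
      (IsLocalRing.maximalIdeal_le_jacobson ⊥) ?_)
    rw [← KaehlerDifferential.span_range_derivation R B, Submodule.span_le]
    rintro _ ⟨b, rfl⟩
    rw [KaehlerDifferential.span_range_derivation]
    obtain ⟨r, hr⟩ := hres b
    rw [show b = (b - algebraMap R B r) + algebraMap R B r by ring, map_add, Derivation.map_algebraMap, add_zero]
    exact (hle hr).2
  have hpow : ∀ (j : ℕ) (z : B), z ∈ M ^ (j + 1) → d z ∈ M ^ j • (⊤ : Submodule B Ω) := by
    intro j
    induction j with
    | zero => intro z _; rw [pow_zero, Ideal.one_eq_top, Submodule.top_smul]; trivial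
    | succ j ih =>
      intro z hz
      rw [pow_succ] at hz
      refine Submodule.mul_induction_on hz (fun a ha b hb => ?_) fun a b ha hb => by rw [map_add]; exact add_mem ha hb
      rw [Derivation.leibniz]
      refine add_mem (Submodule.smul_mem_smul ha Submodule.mem_top) ?_
      rw [pow_succ', mul_smul]
      exact Submodule.smul_mem_smul hb (ih a ha)
  have hrel := hpow k _ hmul
  rw [← hN, show N = Submodule.span B {d b₁} ⊔ Submodule.span B {d b₂} from Submodule.span_insert _ _,
    Submodule.smul_sup, Submodule.mem_sup] at hrel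
  obtain ⟨_, h1, _, h2, hsum⟩ := hrel
  obtain ⟨α, hα, rfl⟩ := Submodule.mem_smul_span_singleton.1 h1
  obtain ⟨β, hβ, rfl⟩ := Submodule.mem_smul_span_singleton.1 h2
  rw [map_sub, Derivation.map_algebraMap, sub_zero, Derivation.leibniz] at hsum
  have hor : b₂ - α ∉ q ∨ b₁ - β ∉ q := by
    by_contra h
    push Not at h
    refine hk ?_
    rw [show algebraMap R B u = (b₁ - β) * b₂ + (β * b₂ - (b₁ * b₂ - algebraMap R B u)) by ring]
    refine Submodule.add_mem_sup (Ideal.mul_mem_right _ _ h.2) (sub_mem (Ideal.mul_mem_right _ _ hβ) ?_)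
    exact Ideal.pow_le_pow_right (Nat.le_succ k) hmul
  -- the value that determines a derivation
  have main : ∀ (F : Type u) [Field F] (φ : B →+* F) (D : B →+ F), RingHom.ker φ = q →
      (∀ a b, D (a * b) = φ a * D b + φ b * D a) → (∀ r : R, D (algebraMap R B r) = 0) →
      φ (b₂ - α) * D b₁ + φ (b₁ - β) * D b₂ = 0 ∧ (D b₁ = 0 → D b₂ = 0 → D = 0) := by
    intro F _ φ D _ hleib hR
    letI := φ.toAlgebra
    letI : Algebra R F := (φ.comp (algebraMap R B)).toAlgebra
    haveI : IsScalarTower R B F := IsScalarTower.of_algebraMap_eq' rfl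
    let D' : Derivation R B F :=
      { toFun := D
        map_add' := map_add D
        map_smul' := fun r b => by
          rw [RingHom.id_apply, Algebra.smul_def, hleib, hR, mul_zero, add_zero, Algebra.smul_def]
          rfl
        map_one_eq_zero' := by
          have h := hleib 1 1
          simp only [map_one, one_mul] at h
          linear_combination -h
        leibniz' := fun a b => by
          show D (a * b) = a • D b + b • D a
          rw [hleib, Algebra.smul_def, Algebra.smul_def]
          rfl }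
    let L := D'.liftKaehlerDifferential
    have hL : ∀ b, L (d b) = D b := fun b => Derivation.liftKaehlerDifferential_comp_D D' b
    refine ⟨?_, fun h₁ h₂ => ?_⟩
    · have h := congrArg L hsum
      rw [map_add, map_add, map_smul, map_smul, map_smul, map_smul, hL, hL] at h
      simp only [Algebra.smul_def] at h
      change φ α * D b₁ + φ β * D b₂ = φ b₁ * D b₂ + φ b₂ * D b₁ at h
      rw [map_sub, map_sub]
      linear_combination -h
    · have hker : N ≤ LinearMap.ker L := by
        rw [Submodule.span_le]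
        rintro _ (rfl | rfl)
        · exact (hL b₁).trans h₁
        · exact (hL b₂).trans h₂
      ext b
      rw [← hL b]
      exact hker (hN ▸ Submodule.mem_top)
  rcases hor with h | h
  · refine ⟨b₂, fun F _ φ D hker hleib hR he => ?_⟩
    obtain ⟨hr, hz⟩ := main F φ D hker hleib hR
    rw [he, mul_zero, add_zero] at hr
    exact hz ((mul_eq_zero.1 hr).resolve_left fun h0 => h (by rw [← hker]; exact RingHom.mem_ker.2 h0)) he
  · refine ⟨b₁, fun F _ φ D hker hleib hR he => ?_⟩
    obtain ⟨hr, hz⟩ := main F φ D hker hleib hR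
    rw [he, mul_zero, zero_add] at hr
    exact hz he ((mul_eq_zero.1 hr).resolve_left fun h0 => h (by rw [← hker]; exact RingHom.mem_ker.2 h0))

theorem exists_eq_C_add {R : Type u} [CommRing R] (f : MvPowerSeries (Fin 2) R) :
    ∃ g h, f = MvPowerSeries.C (MvPowerSeries.constantCoeff f) + g * MvPowerSeries.X 0 + h * MvPowerSeries.X 1 := by
  classical
  let g : MvPowerSeries (Fin 2) R := fun m => MvPowerSeries.coeff (m + Finsupp.single 0 1) f
  let h : MvPowerSeries (Fin 2) R := fun m => if m 0 = 0 then MvPowerSeries.coeff (m + Finsupp.single 1 1) f else 0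
  have hg : ∀ m, MvPowerSeries.coeff m g = MvPowerSeries.coeff (m + Finsupp.single 0 1) f := fun m => rfl
  have hh : ∀ m, MvPowerSeries.coeff m h =
      if m 0 = 0 then MvPowerSeries.coeff (m + Finsupp.single 1 1) f else 0 := fun m => rfl
  refine ⟨g, h, MvPowerSeries.ext fun m => ?_⟩
  rw [MvPowerSeries.X, MvPowerSeries.X, map_add, map_add, MvPowerSeries.coeff_C, MvPowerSeries.coeff_mul_monomial,
    MvPowerSeries.coeff_mul_monomial, mul_one, mul_one, hg, hh]
  by_cases hm : m = 0
  · subst hm
    simp [Finsupp.single_le_iff]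
  rw [if_neg hm, zero_add]
  by_cases h0 : 1 ≤ m 0
  · rw [if_pos (Finsupp.single_le_iff.2 h0), tsub_add_cancel_of_le (Finsupp.single_le_iff.2 h0)]
    by_cases h1 : 1 ≤ m 1
    · rw [if_pos (Finsupp.single_le_iff.2 h1), if_neg, add_zero]
      rw [Finsupp.tsub_apply, Finsupp.single_apply, if_neg (by decide)]
      omega
    · rw [if_neg (fun e => h1 (Finsupp.single_le_iff.1 e)), add_zero]
  · have h1 : 1 ≤ m 1 := by
      by_contra h1
      exact hm (Finsupp.ext fun i => by fin_cases i <;> simp <;> omega)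
    rw [if_neg (fun e => h0 (Finsupp.single_le_iff.1 e)), if_pos (Finsupp.single_le_iff.2 h1), zero_add,
      tsub_add_cancel_of_le (Finsupp.single_le_iff.2 h1), if_pos]
    rw [Finsupp.tsub_apply, Finsupp.single_apply, if_neg (by decide)]
    omega

/-- Approximate coordinates from the completion of a deformed node. -/
theorem exists_approx_of_completion {R B : Type u} [CommRing R] [IsLocalRing R] [CommRing B] [IsLocalRing B]
    [IsNoetherianRing B] [Algebra R B] (u : R) (hu : u ∈ maximalIdeal R)
    (e : AdicCompletion (maximalIdeal B) B ≃+*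
      (MvPowerSeries (Fin 2) R ⧸ Ideal.span {MvPowerSeries.X 0 * MvPowerSeries.X 1 - MvPowerSeries.C u}))
    (he : ∀ c : R, e (algebraMap B (AdicCompletion (maximalIdeal B) B) (algebraMap R B c)) =
      Ideal.Quotient.mk _ (MvPowerSeries.C c)) (n : ℕ) :
    ∃ b₁ b₂ : B, b₁ ∈ maximalIdeal B ∧ b₂ ∈ maximalIdeal B ∧
      b₁ * b₂ - algebraMap R B u ∈ maximalIdeal B ^ n ∧
      ∀ b, ∃ r : R, b - algebraMap R B r ∈ Ideal.span {b₁, b₂} ⊔ maximalIdeal B ^ 2 := by
  set Bh := AdicCompletion (maximalIdeal B) B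
  set ι := algebraMap B Bh
  set mk := Ideal.Quotient.mk (Ideal.span
    {(MvPowerSeries.X 0 * MvPowerSeries.X 1 - MvPowerSeries.C u : MvPowerSeries (Fin 2) R)})
  let X : Fin 2 → Bh := fun i => e.symm (mk (MvPowerSeries.X i))
  have hX : ∀ i, X i ∈ maximalIdeal Bh := fun i => (mem_maximalIdeal _).2 fun h => by
    have h1 : IsUnit (mk (MvPowerSeries.X i)) := by
      have := h.map e.toRingHom
      simpa [X] using this
    obtain ⟨f, hf⟩ : ∃ f, mk f = ↑h1.unit⁻¹ := Ideal.Quotient.mk_surjective _
    have h2 : mk (MvPowerSeries.X i * f - 1) = 0 := by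
      rw [map_sub, map_mul, hf, map_one, IsUnit.mul_val_inv, sub_self]
    obtain ⟨c, hc⟩ := Ideal.mem_span_singleton.1 (Ideal.Quotient.eq_zero_iff_mem.1 h2)
    have h3 := congrArg MvPowerSeries.constantCoeff hc
    simp only [map_sub, map_mul, MvPowerSeries.constantCoeff_X, MvPowerSeries.constantCoeff_C, zero_mul, zero_sub,
      map_one] at h3
    refine (mem_maximalIdeal u).1 hu (IsUnit.of_mul_eq_one (MvPowerSeries.constantCoeff c) ?_)
    linear_combination h3
  choose a ha using fun i => Groth.L01.CompletionExt.exists_sub_mem_pow (n + 2) (X i)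
  have ha2 : ∀ i, X i - ι (a i) ∈ maximalIdeal Bh ^ 2 := fun i =>
    Ideal.pow_le_pow_right (Nat.le_add_left 2 n) (ha i)
  have ha1 : ∀ i, a i ∈ maximalIdeal B := fun i => by
    have h : ι (a i) ∈ maximalIdeal Bh ^ 1 := by
      rw [pow_one, show ι (a i) = X i - (X i - ι (a i)) by ring]
      exact sub_mem (hX i) (Ideal.pow_le_self two_ne_zero (ha2 i))
    simpa using mem_pow_of_algebraMap_mem h
  refine ⟨a 0, a 1, ha1 0, ha1 1, mem_pow_of_algebraMap_mem ?_, fun b => ?_⟩
  · have hrel : X 0 * X 1 = ι (algebraMap R B u) := by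
      refine e.injective ?_
      rw [he, map_mul, e.apply_symm_apply, e.apply_symm_apply, ← map_mul, ← sub_eq_zero, ← map_sub]
      exact Ideal.Quotient.eq_zero_iff_mem.2 (Ideal.mem_span_singleton_self _)
    refine Ideal.pow_le_pow_right (Nat.le_add_right n 2) ?_
    rw [map_sub, map_mul, ← hrel,
      show ι (a 0) * ι (a 1) - X 0 * X 1 = -((X 0 - ι (a 0)) * X 1 + (X 1 - ι (a 1)) * ι (a 0)) by ring]
    exact neg_mem (add_mem (Ideal.mul_mem_right _ _ (ha 0)) (Ideal.mul_mem_right _ _ (ha 1)))
  · obtain ⟨f, hf⟩ := Ideal.Quotient.mk_surjective (e (ι b))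
    obtain ⟨g, h, hfgh⟩ := exists_eq_C_add f
    obtain ⟨g', hg⟩ := Groth.L01.CompletionExt.exists_sub_mem_pow 1 (e.symm (mk g))
    obtain ⟨h', hh⟩ := Groth.L01.CompletionExt.exists_sub_mem_pow 1 (e.symm (mk h))
    rw [pow_one] at hg hh
    refine ⟨MvPowerSeries.constantCoeff f, ?_⟩
    have key : b - algebraMap R B (MvPowerSeries.constantCoeff f) - (g' * a 0 + h' * a 1) ∈ maximalIdeal B ^ 2 := by
      refine mem_pow_of_algebraMap_mem ?_
      have hb : ι b = ι (algebraMap R B (MvPowerSeries.constantCoeff f)) +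
          e.symm (mk g) * X 0 + e.symm (mk h) * X 1 := by
        refine e.injective ?_
        rw [map_add, map_add, map_mul, map_mul, he, e.apply_symm_apply, e.apply_symm_apply, e.apply_symm_apply,
          e.apply_symm_apply, ← map_mul, ← map_mul, ← map_add, ← map_add, ← hfgh, hf]
      change ι (b - _ - _) ∈ _
      rw [map_sub, map_sub, map_add, map_mul, map_mul, hb]
      rw [show ι (algebraMap R B (MvPowerSeries.constantCoeff f)) + e.symm (mk g) * X 0 + e.symm (mk h) * X 1 -
          ι (algebraMap R B (MvPowerSeries.constantCoeff f)) - (ι g' * ι (a 0) + ι h' * ι (a 1)) =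
          ((e.symm (mk g) - ι g') * X 0 + (e.symm (mk h) - ι h') * X 1) +
          (ι g' * (X 0 - ι (a 0)) + ι h' * (X 1 - ι (a 1))) by ring]
      refine add_mem (add_mem ?_ ?_) (add_mem (Ideal.mul_mem_left _ _ (ha2 0)) (Ideal.mul_mem_left _ _ (ha2 1)))
      · rw [pow_two]; exact Ideal.mul_mem_mul hg (hX 0)
      · rw [pow_two]; exact Ideal.mul_mem_mul hh (hX 1)
    rw [show b - algebraMap R B (MvPowerSeries.constantCoeff f) = (g' * a 0 + h' * a 1) +
      (b - algebraMap R B (MvPowerSeries.constantCoeff f) - (g' * a 0 + h' * a 1)) by ring]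
    exact Submodule.add_mem_sup (Ideal.mem_span_pair.2 ⟨g', h', rfl⟩) key

end Groth.L21.Nodal
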