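import Mathlib.RingTheory.LocalRing.ResidueField.Fiber
import Mathlib.RingTheory.FinitePresentation
import Mathlib.RingTheory.FiniteType
import Mathlib.RingTheory.Localization.AtPrime.Basic
import Mathlib.RingTheory.Etale.Kaehler
import Mathlib.RingTheory.Derivation.Basic
import Groth.Agent.L21.Nodal.QuadBasic

/-! Local rings of fibres, and derivatives of a quadric. -/

set_option autoImplicit false
universe u

open scoped TensorProduct

noncomputable section

namespace Groth.L21.Nodal

/-- The local ring of a fibre of a finite type algebra is Noetherian. -/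
theorem isNoetherianRing_fibre_quotient {R P : Type u} [CommRing R] [CommRing P] [Algebra R P]
    [Algebra.FiniteType R P] (Q : Ideal P) [Q.IsPrime] :
    IsNoetherianRing (Localization.AtPrime Q ⧸
      (Q.comap (algebraMap R P)).map (algebraMap R (Localization.AtPrime Q))) := by
  set p := Q.comap (algebraMap R P) with hp
  set L := Localization.AtPrime Q
  set J := p.map (algebraMap R L) with hJ
  have hpr : J ≤ IsLocalRing.maximalIdeal L := Ideal.map_le_iff_le_comap.2 fun r hr => by
    rw [Ideal.mem_comap, IsScalarTower.algebraMap_apply R P L]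
    exact (IsLocalization.AtPrime.to_map_mem_maximal_iff L Q _).2 hr
  haveI : Nontrivial (L ⧸ J) :=
    Ideal.Quotient.nontrivial_iff.2 fun h => (IsLocalRing.maximalIdeal.isMaximal L).ne_top (top_le_iff.1 (h ▸ hpr))
  haveI : IsLocalRing (L ⧸ J) := IsLocalRing.of_surjective' _ Ideal.Quotient.mk_surjective
  let κ : p.ResidueField →ₐ[R] L ⧸ J := Ideal.ResidueField.liftₐ p (Algebra.ofId R (L ⧸ J))
    (fun r hr => by
      rw [RingHom.mem_ker]
      show Ideal.Quotient.mk J (algebraMap R L r) = 0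
      exact Ideal.Quotient.eq_zero_iff_mem.2 (Ideal.mem_map_of_mem _ hr))
    (fun r hr => by
      show IsUnit (Ideal.Quotient.mk J (algebraMap R L r))
      rw [IsScalarTower.algebraMap_apply R P L]
      exact (IsLocalization.map_units L (⟨_, hr⟩ : Q.primeCompl)).map _)
  let Φ : p.ResidueField ⊗[R] P →ₐ[R] L ⧸ J :=
    Algebra.TensorProduct.lift κ ((Ideal.Quotient.mkₐ R J).comp (IsScalarTower.toAlgHom R P L)) fun _ _ => .all _ _
  have hΦ : ∀ x : P, Φ (1 ⊗ₜ x) = Ideal.Quotient.mk J (algebraMap P L x) := fun x => by simp [Φ]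
  haveI : IsNoetherianRing (p.ResidueField ⊗[R] P) :=
    Algebra.FiniteType.isNoetherianRing p.ResidueField _
  let 𝔮 : Ideal (p.ResidueField ⊗[R] P) := (IsLocalRing.maximalIdeal (L ⧸ J)).comap Φ
  haveI : 𝔮.IsPrime := Ideal.comap_isPrime _ _
  haveI : IsNoetherianRing (Localization.AtPrime 𝔮) := IsLocalization.isNoetherianRing 𝔮.primeCompl _ inferInstance
  let Ψ : Localization.AtPrime 𝔮 →+* L ⧸ J :=
    IsLocalization.lift (M := 𝔮.primeCompl) (g := Φ.toRingHom) fun s => by
      by_contra h
      exact s.2 h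
  refine isNoetherianRing_of_surjective _ _ Ψ fun z => ?_
  obtain ⟨z, rfl⟩ := Ideal.Quotient.mk_surjective z
  obtain ⟨a, s, rfl⟩ := IsLocalization.exists_mk'_eq Q.primeCompl z
  have hs : IsUnit (Φ (1 ⊗ₜ (s : P))) := by
    rw [hΦ]; exact (IsLocalization.map_units L s).map _
  have hs' : ((1 : p.ResidueField) ⊗ₜ[R] (s : P)) ∈ 𝔮.primeCompl := fun h =>
    (IsLocalRing.mem_maximalIdeal _).1 h hs
  refine ⟨IsLocalization.mk' _ ((1 : p.ResidueField) ⊗ₜ[R] a) ⟨_, hs'⟩, ?_⟩
  rw [IsLocalization.lift_mk'_spec]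
  show Φ (1 ⊗ₜ a) = Φ (1 ⊗ₜ (s : P)) * _
  rw [hΦ, hΦ, ← map_mul, IsLocalization.mk'_spec']

theorem deriv_mem_pow {R P : Type*} [CommRing R] [CommRing P] [Algebra R P] (D : Derivation R P P) (Q : Ideal P)
    (n : ℕ) (z : P) (hz : z ∈ Q ^ (n + 1)) : D z ∈ Q ^ n := by
  induction n generalizing z with
  | zero => rw [pow_zero, Ideal.one_eq_top]; trivial
  | succ n ih =>
    rw [pow_succ] at hz
    refine Submodule.mul_induction_on hz (fun a ha b hb => ?_) fun a b ha hb => by
      rw [map_add]; exact add_mem ha hb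
    rw [Derivation.leibniz, smul_eq_mul, smul_eq_mul]
    refine add_mem ?_ ?_
    · exact Ideal.mul_mem_right _ _ ha
    · rw [pow_succ']; exact Ideal.mul_mem_mul hb (ih a ha)

theorem deriv_mem_map {R P : Type*} [CommRing R] [CommRing P] [Algebra R P] (D : Derivation R P P) (p : Ideal R)
    (z : P) (hz : z ∈ p.map (algebraMap R P)) : D z ∈ p.map (algebraMap R P) := by
  rw [Ideal.map] at hz ⊢
  induction hz using Submodule.span_induction with
  | mem x hx => obtain ⟨r, hr, rfl⟩ := hx; simp
  | zero => simp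
  | add x y _ _ h1 h2 => rw [map_add]; exact add_mem h1 h2
  | smul a x hx h1 =>
    rw [smul_eq_mul, Derivation.leibniz, smul_eq_mul, smul_eq_mul]
    exact add_mem (Ideal.mul_mem_left _ _ h1) (Ideal.mul_mem_right _ _ hx)

/-- The derivatives of an equation whose leading part is a nondegenerate quadric. -/
theorem deriv_quad {R P : Type*} [CommRing R] [CommRing P] [Algebra R P] (Q : Ideal P) [hQ : Q.IsPrime]
    (p : Ideal R) (hp : p.map (algebraMap R P) ≤ Q) (D : Fin 2 → Derivation R P P) (x : Fin 2 → P)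
    (hD : ∀ i j, D i (x j) = if i = j then 1 else 0) (hx : ∀ i, x i ∈ Q) (F s a b c : P) (hs : s ∉ Q)
    (hF : F ∈ Q) (hE : s * F - qf a b c (x 0) (x 1) ∈ Q ^ 3 ⊔ p.map (algebraMap R P))
    (hdisc : 4 * a * c - b ^ 2 ∉ Q) :
    (∀ i, D i F ∈ Q) ∧ D 0 (D 0 F) * D 1 (D 1 F) - D 1 (D 0 F) * D 0 (D 1 F) ∉ Q := by
  obtain ⟨e, he, e', he', hee⟩ := Submodule.mem_sup.1 hE
  have hsF : s * F = qf a b c (x 0) (x 1) + (e + e') := by rw [hee]; ring
  have h1 : ∀ i, D i (e + e') ∈ Q := fun i => by
    rw [map_add]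
    exact add_mem (Ideal.pow_le_self two_ne_zero (deriv_mem_pow (D i) Q 2 e he)) (hp (deriv_mem_map (D i) p e' he'))
  have h2 : ∀ i j, D j (D i (e + e')) ∈ Q := fun i j => by
    rw [map_add, map_add]
    refine add_mem ?_ (hp (deriv_mem_map (D j) p _ (deriv_mem_map (D i) p e' he')))
    have := deriv_mem_pow (D j) Q 1 _ (deriv_mem_pow (D i) Q 2 e he)
    rwa [pow_one] at this
  have hq : ∀ i, D i (qf a b c (x 0) (x 1)) ∈ Q := fun i => by
    have z0 := fun j => Ideal.Quotient.eq_zero_iff_mem.2 (hx j)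
    rw [← Ideal.Quotient.eq_zero_iff_mem]
    simp [qf, Derivation.leibniz, Derivation.leibniz_pow, z0]
  have hDF : ∀ i, D i F ∈ Q := fun i => by
    have h := congrArg (D i) hsF
    rw [Derivation.leibniz, map_add, smul_eq_mul, smul_eq_mul] at h
    refine (hQ.mem_or_mem (x := s) (y := D i F) ?_).resolve_left hs
    rw [show s * D i F = D i (qf a b c (x 0) (x 1)) + D i (e + e') - F * D i s by linear_combination h]
    exact sub_mem (add_mem (hq i) (h1 i)) (Ideal.mul_mem_right _ _ hF)
  refine ⟨hDF, ?_⟩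
  let π := Ideal.Quotient.mk Q
  have z : ∀ {t}, t ∈ Q → π t = 0 := fun h => Ideal.Quotient.eq_zero_iff_mem.2 h
  have key : ∀ i j, π s * π (D j (D i F)) = π (D j (D i (qf a b c (x 0) (x 1)))) := fun i j => by
    have h := congrArg (fun t => π (D j t)) (congrArg (D i) hsF)
    simp only [Derivation.leibniz, map_add, smul_eq_mul, map_mul, z hF, z (hDF i), z (hDF j), zero_mul, mul_zero,
      add_zero, zero_add] at h
    have h' := z (h2 i j)
    simp only [map_add] at h'
    linear_combination h + h'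
  have k00 := key 0 0
  have k01 := key 0 1
  have k10 := key 1 0
  have k11 := key 1 1
  simp only [qf, map_add, Derivation.leibniz, Derivation.leibniz_pow, smul_eq_mul, nsmul_eq_mul, map_mul, hD,
    Derivation.map_natCast, Derivation.map_one_eq_zero, map_zero, map_natCast, map_one, map_pow, z (hx 0), z (hx 1), if_true,
    Fin.isValue, zero_ne_one, one_ne_zero, if_false, mul_zero, zero_mul, add_zero, zero_add, mul_one, one_mul,
    Nat.add_one_sub_one, pow_one, pow_zero, ne_eq, OfNat.ofNat_ne_zero, not_false_eq_true, zero_pow] at k00 k01 k10 k11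
  intro h
  refine hdisc (Ideal.Quotient.eq_zero_iff_mem.1 ?_)
  have h0 := z h
  simp only [map_sub, map_mul] at h0
  simp only [map_sub, map_mul, map_pow, map_ofNat]
  push_cast at k00 k11
  linear_combination (π s ^ 2) * h0 - (π s * π (D 1 (D 1 F))) * k00 - 2 * π a * k11 +
    (π s * π (D 0 (D 1 F))) * k01 + π b * k10

end Groth.L21.Nodal
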