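import Groth.Agent.L21.Nodal.LocalEq
import Groth.Agent.L21.Nodal.FibreRing
import Groth.Agent.L21.Nodal.Coords
import Mathlib.RingTheory.Unramified.LocalStructure
import Mathlib.RingTheory.Flat.Stability
import Mathlib.RingTheory.Smooth.Basic

/-! Near a node, a flat finitely presented algebra is one equation in an algebra with étale coordinates. -/

set_option autoImplicit false
universe u

open IsLocalRing

noncomputable section

namespace Groth.L21.Nodal

/-- An ideal of a localisation generated by one element, descended to the ring. -/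
theorem exists_notMem_mul_mem {P : Type u} [CommRing P] (Q : Ideal P) [Q.IsPrime] (I : Ideal P) (hI : I.FG) (F : P)
    (h : ∀ k ∈ I, algebraMap P (Localization.AtPrime Q) k ∈
      Ideal.span {algebraMap P (Localization.AtPrime Q) F}) :
    ∃ s ∉ Q, ∀ k ∈ I, s * k ∈ Ideal.span {F} := by
  obtain ⟨S, rfl⟩ := hI
  have hone : ∀ k ∈ S, ∃ s ∉ Q, s * k ∈ Ideal.span {F} := fun k hk => by
    have := h k (Ideal.subset_span hk)
    rw [← Set.image_singleton, ← Ideal.map_span, IsLocalization.algebraMap_mem_map_algebraMap_iff Q.primeCompl] at this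
    obtain ⟨m, hm, hmk⟩ := this
    exact ⟨m, hm, hmk⟩
  choose s hs hsk using hone
  refine ⟨∏ k : {k // k ∈ S}, s k.1 k.2, fun hmem => ?_, fun k hk => ?_⟩
  · obtain ⟨k, -, hk⟩ := (Ideal.IsPrime.prod_mem_iff).1 hmem
    exact hs k.1 k.2 hk
  · refine (Submodule.span_le (p := Submodule.comap (LinearMap.mulLeft P (∏ k : {k // k ∈ S}, s k.1 k.2)) (Ideal.span {F}))).2
      (fun k hk => ?_) hk
    show (∏ k : {k // k ∈ S}, s k.1 k.2) * k ∈ Ideal.span {F}
    obtain ⟨t, ht⟩ := Finset.dvd_prod_of_mem (fun k : {k // k ∈ S} => s k.1 k.2) (Finset.mem_univ ⟨k, hk⟩)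
    rw [show (∏ k : {k // k ∈ S}, s k.1 k.2) * k = t * (s k hk * k) by rw [ht]; ring]
    exact Ideal.mul_mem_left _ _ (hsk k hk)

/-- Parameters and a normalised form at a node, with parameters from the ring. -/
theorem exists_param {A : Type u} [CommRing A] (q : Ideal A) [q.IsPrime] {D : Type u} [CommRing D] [IsLocalRing D]
    (π : Localization.AtPrime q →+* D) (hπ : Function.Surjective π)
    (x y a b c : D) (hxy : Ideal.span {x, y} = maximalIdeal D) (hdisc : IsUnit (4 * a * c - b ^ 2))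
    (hq : qf a b c x y ∈ maximalIdeal D ^ 3) :
    ∃ (u v : A) (a' b' c' : D),
      Ideal.span {π (algebraMap A _ u), π (algebraMap A _ v)} = maximalIdeal D ∧ IsUnit a' ∧
      IsUnit (4 * a' * c' - b' ^ 2) ∧
      qf a' b' c' (π (algebraMap A _ u)) (π (algebraMap A _ v)) ∈ maximalIdeal D ^ 3 ∧
      maximalIdeal (Localization.AtPrime q) =
        RingHom.ker π ⊔ Ideal.span {algebraMap A _ u, algebraMap A _ v} := by
  let B := Localization.AtPrime q
  obtain ⟨x₁, y₁, a₁, b₁, c₁, hspan₁, ha₁, hdisc₁, hq₁⟩ := exists_unit_form x y a b c hdisc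
  have key : ∀ t : D, ∃ (u : A) (e : D), IsUnit e ∧ t = π (algebraMap A B u) * e := fun t => by
    obtain ⟨z, rfl⟩ := hπ t
    obtain ⟨u, s, rfl⟩ := IsLocalization.exists_mk'_eq q.primeCompl z
    obtain ⟨e, he⟩ := (IsLocalization.map_units B s).map π
    refine ⟨u, ↑e⁻¹, Units.isUnit _, ?_⟩
    rw [← IsLocalization.mk'_spec B u s, map_mul, ← he, mul_assoc, Units.mul_inv, mul_one]
  obtain ⟨u, e, he, hu⟩ := key x₁
  obtain ⟨v, f, hf, hv⟩ := key y₁
  have hgen : Ideal.span {π (algebraMap A B u), π (algebraMap A B v)} = maximalIdeal D := by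
    rw [← hxy, ← hspan₁, hu, hv, Ideal.span_insert, Ideal.span_insert, Ideal.span_singleton_mul_right_unit he,
      Ideal.span_singleton_mul_right_unit hf]
  have hmπ : (maximalIdeal B).map π = maximalIdeal D := IsLocalRing.map_maximalIdeal_of_surjective π hπ
  have hπm : ∀ z : B, π z ∈ maximalIdeal D → z ∈ maximalIdeal B := fun z hz =>
    (mem_maximalIdeal z).2 fun hu => (mem_maximalIdeal _).1 hz (hu.map π)
  refine ⟨u, v, a₁ * e ^ 2, b₁ * (e * f), c₁ * f ^ 2, hgen, ha₁.mul (he.pow 2), ?_, ?_, ?_⟩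
  · convert hdisc₁.mul ((he.pow 2).mul (hf.pow 2)) using 1
    ring
  · convert hq₁ ▸ hq using 1
    simp only [qf, hu, hv]
    ring
  · refine le_antisymm (fun z hz => ?_) (sup_le (fun z hz => hπm z (RingHom.mem_ker.1 hz ▸ zero_mem _)) ?_)
    · have : π z ∈ Ideal.span {π (algebraMap A B u), π (algebraMap A B v)} := hgen ▸ hmπ ▸ Ideal.mem_map_of_mem π hz
      obtain ⟨α, β, hαβ⟩ := Ideal.mem_span_pair.1 this
      obtain ⟨α, rfl⟩ := hπ α
      obtain ⟨β, rfl⟩ := hπ β
      rw [← sub_add_cancel z (α * algebraMap A B u + β * algebraMap A B v)]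
      refine Submodule.add_mem_sup ?_ (Ideal.mem_span_pair.2 ⟨α, β, rfl⟩)
      rw [RingHom.mem_ker, map_sub, map_add, map_mul, map_mul, hαβ, sub_self]
    · rw [Ideal.span_le]
      rintro _ (rfl | rfl)
      · exact hπm _ (hgen ▸ Ideal.subset_span (Or.inl rfl))
      · exact hπm _ (hgen ▸ Ideal.subset_span (Or.inr rfl))

theorem isUnramifiedAt_plane {R A : Type u} [CommRing R] [CommRing A] [Algebra R A] [Algebra.FiniteType R A]
    [Algebra (MvPolynomial (Fin 2) R) A] [IsScalarTower R (MvPolynomial (Fin 2) R) A]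
    (q : Ideal A) [q.IsPrime]
    (hsep : letI := (Ideal.ResidueField.map (q.comap (algebraMap R A)) q (algebraMap R A) rfl).toAlgebra
      Algebra.IsSeparable (q.comap (algebraMap R A)).ResidueField q.ResidueField)
    (u v : A) (hu : algebraMap (MvPolynomial (Fin 2) R) A (MvPolynomial.X 0) = u)
    (hv : algebraMap (MvPolynomial (Fin 2) R) A (MvPolynomial.X 1) = v)
    (hm : maximalIdeal (Localization.AtPrime q) =
      (q.comap (algebraMap R A)).map (algebraMap R _) ⊔ Ideal.span {algebraMap A _ u, algebraMap A _ v}) :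
    Algebra.IsUnramifiedAt (MvPolynomial (Fin 2) R) q := by
  set p := q.comap (algebraMap R A) with hp
  let B := Localization.AtPrime q
  haveI : Algebra.FiniteType (MvPolynomial (Fin 2) R) A := Algebra.FiniteType.of_restrictScalars_finiteType R _ _
  set q₀ := q.comap (algebraMap (MvPolynomial (Fin 2) R) A) with hq₀
  haveI : q.LiesOver q₀ := ⟨rfl⟩
  letI := Localization.AtPrime.algebraOfLiesOver q₀ q
  refine (Algebra.isUnramifiedAt_iff_map_eq (MvPolynomial (Fin 2) R) q₀ q).2 ⟨?_, le_antisymm ?_ ?_⟩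
  · letI := (Ideal.ResidueField.map p q (algebraMap R A) rfl).toAlgebra
    have hp₀ : p = q₀.comap (algebraMap R (MvPolynomial (Fin 2) R)) := by
      rw [hp, hq₀, Ideal.comap_comap, ← IsScalarTower.algebraMap_eq]
    letI := (Ideal.ResidueField.map p q₀ (algebraMap R _) hp₀).toAlgebra
    haveI : IsScalarTower p.ResidueField q₀.ResidueField q.ResidueField := by
      refine IsScalarTower.of_algebraMap_eq' (Ideal.ResidueField.ringHom_ext (RingHom.ext fun r => ?_))
      simp only [RingHom.comp_apply, RingHom.algebraMap_toAlgebra, Ideal.ResidueField.map_algebraMap]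
      simp only [← IsScalarTower.algebraMap_apply]
    haveI : Algebra.IsSeparable p.ResidueField q.ResidueField := hsep
    exact Algebra.isSeparable_tower_top_of_isSeparable p.ResidueField q₀.ResidueField q.ResidueField
  · refine Ideal.map_le_iff_le_comap.2 fun z hz => ?_
    rw [Ideal.mem_comap, IsScalarTower.algebraMap_apply (MvPolynomial (Fin 2) R) A B]
    exact (IsLocalization.AtPrime.to_map_mem_maximal_iff B q _).2 hz
  · rw [hm, sup_le_iff, Ideal.map_le_iff_le_comap, Ideal.span_le]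
    refine ⟨fun r hr => ?_, ?_⟩
    · rw [Ideal.mem_comap, IsScalarTower.algebraMap_apply R (MvPolynomial (Fin 2) R) B]
      refine Ideal.mem_map_of_mem _ ?_
      rw [hq₀, Ideal.mem_comap, ← IsScalarTower.algebraMap_apply]
      exact hr
    · have hi : ∀ i, MvPolynomial.X i ∈ q₀ → algebraMap A B (algebraMap (MvPolynomial (Fin 2) R) A (MvPolynomial.X i)) ∈
          q₀.map (algebraMap (MvPolynomial (Fin 2) R) B) := fun i h => by
        rw [← IsScalarTower.algebraMap_apply]
        exact Ideal.mem_map_of_mem _ h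
      have hin : ∀ i, MvPolynomial.X i ∈ q₀ := fun i => by
        rw [hq₀, Ideal.mem_comap, ← IsLocalization.AtPrime.to_map_mem_maximal_iff B q, hm]
        refine Submodule.mem_sup_right (Ideal.subset_span ?_)
        fin_cases i
        · exact Or.inl (by rw [← hu]; rfl)
        · exact Or.inr (by rw [← hv]; rfl)
      rintro _ (rfl | rfl)
      · rw [← hu]; exact hi 0 (hin 0)
      · rw [← hv]; exact hi 1 (hin 1)

theorem maximalIdeal_etale_plane {R P : Type u} [CommRing R] [CommRing P] [Algebra R P]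
    [Algebra (MvPolynomial (Fin 2) R) P] [IsScalarTower R (MvPolynomial (Fin 2) R) P]
    [Algebra.Etale (MvPolynomial (Fin 2) R) P] (Q : Ideal P) [Q.IsPrime]
    (hX : ∀ i, algebraMap (MvPolynomial (Fin 2) R) P (MvPolynomial.X i) ∈ Q) :
    maximalIdeal (Localization.AtPrime Q) =
      (Q.comap (algebraMap R P)).map (algebraMap R _) ⊔
        Ideal.span {algebraMap P _ (algebraMap (MvPolynomial (Fin 2) R) P (MvPolynomial.X 0)),
          algebraMap P _ (algebraMap (MvPolynomial (Fin 2) R) P (MvPolynomial.X 1))} := by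
  let L := Localization.AtPrime Q
  refine le_antisymm ?_ (sup_le (Ideal.map_le_iff_le_comap.2 fun r hr => ?_) (Ideal.span_le.2 ?_))
  · set Q₀ := Q.comap (algebraMap (MvPolynomial (Fin 2) R) P) with hQ₀
    haveI : Q.LiesOver Q₀ := ⟨rfl⟩
    letI := Localization.AtPrime.algebraOfLiesOver Q₀ Q
    haveI : Algebra.IsUnramifiedAt (MvPolynomial (Fin 2) R) Q :=
      Algebra.FormallyUnramified.comp (MvPolynomial (Fin 2) R) P L
    rw [← ((Algebra.isUnramifiedAt_iff_map_eq (MvPolynomial (Fin 2) R) Q₀ Q).1 inferInstance).2,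
      Ideal.map_le_iff_le_comap]
    intro z hz
    let V : Ideal (MvPolynomial (Fin 2) R) := Ideal.span (Set.range MvPolynomial.X)
    have hz' : z - MvPolynomial.C (MvPolynomial.constantCoeff z) ∈ V := by
      rw [← Ideal.Quotient.eq]
      refine DFunLike.congr_fun (f := (Ideal.Quotient.mk V))
        (g := (Ideal.Quotient.mk V).comp (MvPolynomial.C.comp MvPolynomial.constantCoeff))
        (MvPolynomial.ringHom_ext (fun r => by simp) fun i => ?_) z
      rw [Ideal.Quotient.eq_zero_iff_mem.2 (show MvPolynomial.X i ∈ V from Ideal.subset_span (Set.mem_range_self i))]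
      simp
    have hV : V.map (algebraMap (MvPolynomial (Fin 2) R) P) ≤ Q := by
      rw [Ideal.map_span, Ideal.span_le]
      rintro _ ⟨_, ⟨i, rfl⟩, rfl⟩
      exact hX i
    rw [Ideal.mem_comap, ← sub_add_cancel z (MvPolynomial.C (MvPolynomial.constantCoeff z)), map_add,
      IsScalarTower.algebraMap_apply (MvPolynomial (Fin 2) R) P L, add_comm]
    refine Submodule.add_mem_sup ?_ ?_
    · rw [← MvPolynomial.algebraMap_eq, ← IsScalarTower.algebraMap_apply]
      refine Ideal.mem_map_of_mem _ ?_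
      rw [Ideal.mem_comap, IsScalarTower.algebraMap_apply R (MvPolynomial (Fin 2) R) P, MvPolynomial.algebraMap_eq]
      have h1 := sub_mem (Ideal.mem_comap.1 hz) (hV (Ideal.mem_map_of_mem _ hz'))
      rwa [← map_sub, sub_sub_cancel] at h1
    · have := Ideal.mem_map_of_mem (algebraMap P L) (Ideal.mem_map_of_mem (algebraMap (MvPolynomial (Fin 2) R) P) hz')
      rw [Ideal.map_span, Ideal.map_span, ← Set.range_comp, ← Set.range_comp] at this
      refine Ideal.span_le.2 ?_ this
      rintro _ ⟨i, rfl⟩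
      refine Ideal.subset_span ?_
      fin_cases i
      · exact Or.inl rfl
      · exact Or.inr rfl
  · rw [Ideal.mem_comap, IsScalarTower.algebraMap_apply R P L]
    exact (IsLocalization.AtPrime.to_map_mem_maximal_iff L Q _).2 hr
  · rintro _ (rfl | rfl) <;> exact (IsLocalization.AtPrime.to_map_mem_maximal_iff L Q _).2 (hX _)

/-- The map of local rings attached to a surjection onto a basic open. -/
theorem exists_localMap {R A P : Type u} [CommRing R] [CommRing A] [Algebra R A] [CommRing P] [Algebra R P]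
    (q : Ideal A) [q.IsPrime] (g : A) (hg : g ∉ q) (φ : P →ₐ[R] Localization.Away g) (hφ : Function.Surjective φ)
    (Q : Ideal P) [Q.IsPrime] (hQ : Q = (q.map (algebraMap A (Localization.Away g))).comap φ) :
    Q.comap (algebraMap R P) = q.comap (algebraMap R A) ∧
    ∃ θ : Localization.AtPrime Q →ₐ[R] Localization.AtPrime q, Function.Surjective θ ∧
      RingHom.ker θ = (RingHom.ker φ).map (algebraMap P _) ∧
      ∀ (w : P) (z : A), φ w = algebraMap A _ z → θ (algebraMap P _ w) = algebraMap A _ z := by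
  let A' := Localization.Away g
  let B := Localization.AtPrime q
  let L := Localization.AtPrime Q
  have hgu : IsUnit (algebraMap A B g) := IsLocalization.map_units B (⟨g, hg⟩ : q.primeCompl)
  let κ : A' →+* B := IsLocalization.Away.lift g hgu
  have hκ : ∀ z : A, κ (algebraMap A A' z) = algebraMap A B z := fun z => IsLocalization.Away.lift_eq g hgu z
  have hqA' : q.map (algebraMap A A') = (maximalIdeal B).comap κ := by
    refine le_antisymm (Ideal.map_le_iff_le_comap.2 fun z hz => ?_) fun z hz => ?_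
    · rw [Ideal.mem_comap, Ideal.mem_comap, hκ]
      exact (IsLocalization.AtPrime.to_map_mem_maximal_iff B q _).2 hz
    · obtain ⟨w, s, rfl⟩ := IsLocalization.exists_mk'_eq (Submonoid.powers g) z
      refine (IsLocalization.mk'_mem_map_algebraMap_iff (Submonoid.powers g) A' q w s).2 ⟨1, one_mem _, ?_⟩
      rw [one_mul, ← IsLocalization.AtPrime.to_map_mem_maximal_iff B q, ← hκ, ← IsLocalization.mk'_spec A' w s, map_mul]
      exact Ideal.mul_mem_right _ _ hz
  let ρ : P →ₐ[R] B :=
    { toRingHom := κ.comp φ.toRingHom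
      commutes' := fun r => by
        show κ (φ (algebraMap R P r)) = _
        rw [AlgHom.commutes, IsScalarTower.algebraMap_apply R A A', hκ, ← IsScalarTower.algebraMap_apply] }
  have hQρ : ∀ w, w ∈ Q ↔ ρ w ∈ maximalIdeal B := fun w => by rw [hQ, hqA']; rfl
  refine ⟨Ideal.ext fun r => ?_, ?_⟩
  · rw [Ideal.mem_comap, Ideal.mem_comap, hQρ, AlgHom.commutes, IsScalarTower.algebraMap_apply R A B]
    exact IsLocalization.AtPrime.to_map_mem_maximal_iff B q _
  have hρu : ∀ s : Q.primeCompl, IsUnit (ρ s) := fun s => by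
    by_contra h
    exact s.2 ((hQρ _).2 h)
  let θ : L →ₐ[R] B := IsLocalization.liftAlgHom (M := Q.primeCompl) (f := ρ) hρu
  have hθ : ∀ z : P, θ (algebraMap P L z) = ρ z := fun z => IsLocalization.lift_eq _ z
  have hmk : ∀ (w : P) (s : Q.primeCompl), θ (IsLocalization.mk' L w s) * ρ s = ρ w := fun w s => by
    rw [← hθ s, ← map_mul, IsLocalization.mk'_spec, hθ]
  have hρc : ∀ (w : P) (z : A), φ w = algebraMap A A' z → ρ w = algebraMap A B z := fun w z h => by
    show κ (φ w) = _
    rw [h, hκ]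
  refine ⟨θ, fun z => ?_, le_antisymm (fun l hl => ?_) (Ideal.map_le_iff_le_comap.2 fun k hk => ?_),
    fun w z h => by rw [hθ]; exact hρc w z h⟩
  · obtain ⟨w, s, rfl⟩ := IsLocalization.exists_mk'_eq q.primeCompl z
    obtain ⟨w', hw⟩ := hφ (algebraMap A A' w)
    obtain ⟨s', hs⟩ := hφ (algebraMap A A' (s : A))
    have hu : IsUnit (ρ s') := by rw [hρc _ _ hs]; exact IsLocalization.map_units B s
    have hs' : s' ∈ Q.primeCompl := fun h => (mem_maximalIdeal _).1 ((hQρ _).1 h) hu
    refine ⟨IsLocalization.mk' L w' ⟨s', hs'⟩, ?_⟩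
    rw [← hu.mul_left_inj, hmk _ ⟨s', hs'⟩, hρc _ _ hw, hρc _ _ hs, IsLocalization.mk'_spec]
  · obtain ⟨w, s, rfl⟩ := IsLocalization.exists_mk'_eq Q.primeCompl l
    have hw : κ (φ w) = 0 := by
      show ρ w = 0
      rw [← hmk w s, RingHom.mem_ker.1 hl, zero_mul]
    obtain ⟨w₁, s₁, hws⟩ := IsLocalization.exists_mk'_eq (Submonoid.powers g) (φ w)
    have h1 : algebraMap A B w₁ = 0 := by
      rw [← hκ, ← IsLocalization.mk'_spec A' w₁ s₁, hws, map_mul, hw, zero_mul]
    obtain ⟨t, ht⟩ := (IsLocalization.map_eq_zero_iff q.primeCompl B w₁).1 h1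
    obtain ⟨t', ht'⟩ := hφ (algebraMap A A' (t : A))
    have hu : IsUnit (ρ t') := by rw [hρc _ _ ht']; exact IsLocalization.map_units B t
    have ht'Q : t' ∈ Q.primeCompl := fun h => (mem_maximalIdeal _).1 ((hQρ _).1 h) hu
    rw [IsLocalization.mk'_mem_map_algebraMap_iff Q.primeCompl]
    refine ⟨t', ht'Q, ?_⟩
    rw [RingHom.mem_ker, map_mul, ht', ← hws, IsLocalization.mul_mk'_eq_mk'_of_mul, ht, IsLocalization.mk'_zero]
  · show θ (algebraMap P L k) = 0
    rw [hθ]
    show κ (φ k) = 0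
    rw [RingHom.mem_ker.1 hk, map_zero]

/-- The kernel of the map of local rings is one equation with prescribed quadratic part. -/
theorem exists_generator {R L B D : Type u} [CommRing R] [CommRing L] [IsLocalRing L] [CommRing B]
    [CommRing D] [IsLocalRing D] [IsNoetherianRing D] [IsReduced D] [Algebra R L] [Algebra R B] [Module.Flat R B]
    (θ : L →ₐ[R] B) (hθs : Function.Surjective θ) (hfg : (RingHom.ker θ).FG) (π : B →+* D)
    (hπ : Function.Surjective π) (p : Ideal R) (hker : RingHom.ker π = p.map (algebraMap R B))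
    [IsNoetherianRing (L ⧸ p.map (algebraMap R L))] (X Y : L)
    (hmL : maximalIdeal L = p.map (algebraMap R L) ⊔ Ideal.span {X, Y}) (hnp : ¬ (maximalIdeal D).IsPrincipal)
    (a b c : D) (ha : IsUnit a) (hdisc : IsUnit (4 * a * c - b ^ 2))
    (hq : qf a b c (π (θ X)) (π (θ Y)) ∈ maximalIdeal D ^ 3) :
    ∃ F aL bL cL : L, RingHom.ker θ = Ideal.span {F} ∧ IsUnit (4 * aL * cL - bL ^ 2) ∧
      F - qf aL bL cL X Y ∈ maximalIdeal L ^ 3 ⊔ p.map (algebraMap R L) := by
  set J := p.map (algebraMap R L) with hJ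
  have hJm : J ≤ maximalIdeal L := le_sup_left.trans hmL.ge
  haveI : Nontrivial (L ⧸ J) :=
    Ideal.Quotient.nontrivial_iff.2 fun h => (maximalIdeal.isMaximal L).ne_top (top_le_iff.1 (h ▸ hJm))
  haveI : IsLocalRing (L ⧸ J) := IsLocalRing.of_surjective' _ Ideal.Quotient.mk_surjective
  have hcomm : (algebraMap R B) = θ.toRingHom.comp (algebraMap R L) := RingHom.ext fun r => (θ.commutes r).symm
  have hJker : ∀ z ∈ J, π (θ z) = 0 := fun z hz => by
    have := Ideal.mem_map_of_mem θ.toRingHom hz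
    rw [hJ, Ideal.map_map, ← hcomm, ← hker] at this
    exact RingHom.mem_ker.1 this
  let θ' : L ⧸ J →+* D := Ideal.Quotient.lift J (π.comp θ.toRingHom) hJker
  have hθ' : ∀ z : L, θ' (Ideal.Quotient.mk J z) = π (θ z) := fun z => rfl
  have hθ's : Function.Surjective θ' := fun z => by
    obtain ⟨w, rfl⟩ := hπ z
    obtain ⟨l, rfl⟩ := hθs w
    exact ⟨Ideal.Quotient.mk J l, rfl⟩
  haveI : IsLocalHom θ' := IsLocalHom.of_surjective θ' hθ's
  obtain ⟨aL, haL⟩ : ∃ z, θ' (Ideal.Quotient.mk J z) = a := by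
    obtain ⟨z, hz⟩ := hθ's a; obtain ⟨z, rfl⟩ := Ideal.Quotient.mk_surjective z; exact ⟨z, hz⟩
  obtain ⟨bL, hbL⟩ : ∃ z, θ' (Ideal.Quotient.mk J z) = b := by
    obtain ⟨z, hz⟩ := hθ's b; obtain ⟨z, rfl⟩ := Ideal.Quotient.mk_surjective z; exact ⟨z, hz⟩
  obtain ⟨cL, hcL⟩ : ∃ z, θ' (Ideal.Quotient.mk J z) = c := by
    obtain ⟨z, hz⟩ := hθ's c; obtain ⟨z, rfl⟩ := Ideal.Quotient.mk_surjective z; exact ⟨z, hz⟩
  have hunit : IsUnit (4 * aL * cL - bL ^ 2) := by
    by_contra h
    have h1 := Ideal.mem_map_of_mem (Ideal.Quotient.mk J) ((mem_maximalIdeal _).2 h)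
    rw [IsLocalRing.map_maximalIdeal_of_surjective _ Ideal.Quotient.mk_surjective] at h1
    refine (mem_maximalIdeal _).1 h1 (isUnit_of_map_unit θ' _ ?_)
    simpa [haL, hbL, hcL, map_ofNat] using hdisc
  have hmq : maximalIdeal (L ⧸ J) = Ideal.span {Ideal.Quotient.mk J X, Ideal.Quotient.mk J Y} := by
    rw [← IsLocalRing.map_maximalIdeal_of_surjective (Ideal.Quotient.mk J) Ideal.Quotient.mk_surjective, hmL,
      Ideal.map_sup, Ideal.map_quotient_self, bot_sup_eq, Ideal.map_span, Set.image_pair]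
  obtain ⟨z, hz, hzreg⟩ := exists_mem_nonZeroDivisors (A := D) (fun h => hnp (by
    rw [IsLocalRing.isField_iff_maximalIdeal_eq.1 h]; exact bot_isPrincipal))
  obtain ⟨Fb, hFb, hFq⟩ := ker_eq_span_of_quad θ' hθ's _ _ (Ideal.Quotient.mk J aL) (Ideal.Quotient.mk J bL)
    (Ideal.Quotient.mk J cL) hmq.symm (isUnit_of_map_unit θ' _ (haL ▸ ha))
    (by rw [map_qf, haL, hbL, hcL, hθ', hθ']; exact hq) z hz hzreg hnp
  obtain ⟨FL₀, hFL₀⟩ := Ideal.Quotient.mk_surjective Fb
  have hFb0 : θ' Fb = 0 := RingHom.mem_ker.1 (hFb ▸ Ideal.mem_span_singleton_self Fb)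
  obtain ⟨j, hj, hjθ⟩ : ∃ j ∈ J, θ j = θ FL₀ := by
    have h1 : θ FL₀ ∈ RingHom.ker π := by rw [RingHom.mem_ker, ← hθ', hFL₀, hFb0]
    rw [hker, hcomm, ← Ideal.map_map] at h1
    exact (Ideal.mem_map_iff_of_surjective θ.toRingHom hθs).1 h1
  set F := FL₀ - j with hF
  have hθF : θ F = 0 := by rw [hF, map_sub, hjθ, sub_self]
  have hmk : Ideal.Quotient.mk J F = Fb := by
    rw [hF, map_sub, hFL₀, Ideal.Quotient.eq_zero_iff_mem.2 hj, sub_zero]
  refine ⟨F, aL, bL, cL, le_antisymm ?_ ((Ideal.span_singleton_le_iff_mem _).2 hθF), hunit, ?_⟩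
  · refine Submodule.le_of_le_smul_of_le_jacobson_bot hfg (IsLocalRing.maximalIdeal_le_jacobson ⊥) fun l hl => ?_
    have h1 : Ideal.Quotient.mk J l ∈ RingHom.ker θ' := by
      rw [RingHom.mem_ker, hθ', RingHom.mem_ker.1 hl, map_zero]
    rw [hFb, Ideal.mem_span_singleton'] at h1
    obtain ⟨w, hw⟩ := h1
    obtain ⟨w, rfl⟩ := Ideal.Quotient.mk_surjective w
    have h2 : l - w * F ∈ J := by rw [← Ideal.Quotient.eq, map_mul, hmk, hw]
    have h3 := mem_smul_ker_of_flat θ hθs p
      (by rw [map_sub, map_mul, hθF, RingHom.mem_ker.1 hl, mul_zero, sub_zero]) h2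
    rw [← sub_add_cancel l (w * F), add_comm]
    refine Submodule.add_mem_sup (Ideal.mul_mem_left _ _ (Ideal.mem_span_singleton_self _)) ?_
    exact Ideal.mul_mono_left hJm h3
  · rw [← Ideal.mem_quotient_iff_mem_sup, Ideal.map_pow,
      IsLocalRing.map_maximalIdeal_of_surjective (Ideal.Quotient.mk J) Ideal.Quotient.mk_surjective, map_sub, map_qf, hmk]
    exact hFq

theorem exists_equation {R A : Type u} [CommRing R] [CommRing A] [Algebra R A] [Algebra.FinitePresentation R A]
    [Module.Flat R A] (q : Ideal A) [q.IsPrime]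
    (hsep : letI := (Ideal.ResidueField.map (q.comap (algebraMap R A)) q (algebraMap R A) rfl).toAlgebra
      Algebra.IsSeparable (q.comap (algebraMap R A)).ResidueField q.ResidueField)
    {D : Type u} [CommRing D] [IsLocalRing D] [IsNoetherianRing D] [IsReduced D]
    (π : Localization.AtPrime q →+* D) (hπ : Function.Surjective π)
    (hker : RingHom.ker π = (q.comap (algebraMap R A)).map (algebraMap R (Localization.AtPrime q)))
    (hnp : ¬ (maximalIdeal D).IsPrincipal)
    (x y a b c : D) (hxy : Ideal.span {x, y} = maximalIdeal D) (hdisc : IsUnit (4 * a * c - b ^ 2))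
    (hq : qf a b c x y ∈ maximalIdeal D ^ 3) :
    ∃ (g : A) (_ : g ∉ q) (P : Type u) (_ : CommRing P) (_ : Algebra R P) (_ : Algebra.FinitePresentation R P)
      (X : Fin 2 → P) (_ : Coords R X) (φ : P →ₐ[R] Localization.Away g) (_ : Function.Surjective φ)
      (Q : Ideal P) (_ : Q.IsPrime) (_ : Q = (q.map (algebraMap A (Localization.Away g))).comap φ)
      (F : P) (h : P), φ F = 0 ∧ h ∉ Q ∧ (∀ k, φ k = 0 → h * k ∈ Ideal.span {F}) ∧
      ∀ Dv : Fin 2 → Derivation R P P, (∀ i j, Dv i (X j) = if i = j then 1 else 0) →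
        (∀ i, Dv i F ∈ Q) ∧ Dv 0 (Dv 0 F) * Dv 1 (Dv 1 F) - Dv 1 (Dv 0 F) * Dv 0 (Dv 1 F) ∉ Q := by
  obtain ⟨u, v, a₁, b₁, c₁, hgenD, haD, hdiscD, hqD, hm⟩ := exists_param q π hπ x y a b c hxy hdisc hq
  rw [hker] at hm
  letI algA : Algebra (MvPolynomial (Fin 2) R) A := (MvPolynomial.aeval (R := R) ![u, v]).toRingHom.toAlgebra
  haveI : IsScalarTower R (MvPolynomial (Fin 2) R) A :=
    IsScalarTower.of_algebraMap_eq fun r => ((MvPolynomial.aeval ![u, v]).commutes r).symm
  haveI := isUnramifiedAt_plane q hsep u v (MvPolynomial.aeval_X _ _) (MvPolynomial.aeval_X _ _) hm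
  haveI : Algebra.FiniteType (MvPolynomial (Fin 2) R) A := Algebra.FiniteType.of_restrictScalars_finiteType R _ _
  obtain ⟨g, hg, ⟨Pr, φ, hφ⟩⟩ :=
    Algebra.IsUnramifiedAt.exists_hasStandardEtaleSurjectionOn (R := MvPolynomial (Fin 2) R) q
  let P := Pr.Ring
  letI : Algebra R P := ((algebraMap (MvPolynomial (Fin 2) R) P).comp (algebraMap R _)).toAlgebra
  haveI : IsScalarTower R (MvPolynomial (Fin 2) R) P := IsScalarTower.of_algebraMap_eq fun r => rfl
  haveI : Algebra.FinitePresentation R P := Algebra.FinitePresentation.trans R (MvPolynomial (Fin 2) R) P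
  let X : Fin 2 → P := fun i => algebraMap (MvPolynomial (Fin 2) R) P (MvPolynomial.X i)
  have hX : Coords R X := by
    have : (MvPolynomial.aeval (R := R) X) = IsScalarTower.toAlgHom R (MvPolynomial (Fin 2) R) P :=
      MvPolynomial.algHom_ext fun i => by simp [X]
    rw [Coords, this]
    exact RingHom.formallyEtale_algebraMap.2 inferInstance
  let A' := Localization.Away g
  let φR : P →ₐ[R] A' := φ.restrictScalars R
  haveI : Algebra.FinitePresentation R A' := by
    haveI := IsLocalization.Away.finitePresentation (S := A') g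
    exact Algebra.FinitePresentation.trans R A A'
  haveI : (q.map (algebraMap A A')).IsPrime :=
    IsLocalization.isPrime_of_isPrime_disjoint (Submonoid.powers g) _ _ inferInstance
      ((Ideal.disjoint_powers_iff_notMem_of_isPrime _).2 hg)
  let Q : Ideal P := (q.map (algebraMap A A')).comap φR
  haveI : Q.IsPrime := Ideal.comap_isPrime _ _
  obtain ⟨hp, θ, hθs, hkerθ, hθ⟩ := exists_localMap q g hg φR hφ Q rfl
  let L := Localization.AtPrime Q
  have hφX : ∀ i, φR (X i) = algebraMap A A' (![u, v] i) := fun i => by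
    show φ (algebraMap (MvPolynomial (Fin 2) R) P (MvPolynomial.X i)) = _
    rw [AlgHom.commutes, IsScalarTower.algebraMap_apply (MvPolynomial (Fin 2) R) A A']
    exact congrArg _ (MvPolynomial.aeval_X _ _)
  have hXQ : ∀ i, X i ∈ Q := fun i => by
    rw [Ideal.mem_comap, hφX]
    refine Ideal.mem_map_of_mem _ ?_
    rw [← IsLocalization.AtPrime.to_map_mem_maximal_iff (Localization.AtPrime q) q, hm]
    refine Submodule.mem_sup_right (Ideal.subset_span ?_)
    fin_cases i
    · exact Or.inl rfl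
    · exact Or.inr rfl
  have hmL := maximalIdeal_etale_plane (R := R) Q hXQ
  haveI : IsNoetherianRing (L ⧸ (Q.comap (algebraMap R P)).map (algebraMap R L)) := isNoetherianRing_fibre_quotient Q
  rw [hp] at hmL
  haveI : IsNoetherianRing (L ⧸ (q.comap (algebraMap R A)).map (algebraMap R L)) := hp ▸ inferInstance
  haveI : Module.Flat R (Localization.AtPrime q) := Module.Flat.trans R A _
  obtain ⟨FL, aL, bL, cL, hFL, hdL, hFLq⟩ := exists_generator θ hθs
    (hkerθ ▸ (Algebra.FinitePresentation.ker_fG_of_surjective φR hφ).map _) π hπ _ hker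
    (algebraMap P L (X 0)) (algebraMap P L (X 1)) hmL hnp a₁ b₁ c₁ haD hdiscD
    (by rw [hθ _ _ (hφX 0), hθ _ _ (hφX 1)]; exact hqD)
  -- denominators
  obtain ⟨F, w, hFk, hwF⟩ : ∃ (F : P) (w : Q.primeCompl), φR F = 0 ∧
      algebraMap P L F = algebraMap P L w * FL := by
    have h1 : FL ∈ (RingHom.ker φR).map (algebraMap P L) := hkerθ ▸ hFL ▸ Ideal.mem_span_singleton_self FL
    obtain ⟨⟨⟨F, hF⟩, w⟩, hw⟩ := (IsLocalization.mem_map_algebraMap_iff Q.primeCompl L).1 h1
    exact ⟨F, w, hF, by rw [mul_comm]; exact hw.symm⟩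
  obtain ⟨h, hh, hhk⟩ := exists_notMem_mul_mem Q (RingHom.ker φR)
    (Algebra.FinitePresentation.ker_fG_of_surjective φR hφ) F fun k hk => by
      rw [hwF, Ideal.span_singleton_mul_left_unit (IsLocalization.map_units L w), ← hFL, hkerθ]
      exact Ideal.mem_map_of_mem _ hk
  refine ⟨g, hg, P, inferInstance, inferInstance, inferInstance, X, hX, φR, hφ, Q, inferInstance, rfl, F, h, hFk, hh,
    fun k hk => hhk k hk, fun Dv hDv => ?_⟩
  obtain ⟨⟨a', sa⟩, ha'⟩ := IsLocalization.surj Q.primeCompl aL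
  obtain ⟨⟨b', sb⟩, hb'⟩ := IsLocalization.surj Q.primeCompl bL
  obtain ⟨⟨c', sc⟩, hc'⟩ := IsLocalization.surj Q.primeCompl cL
  let σ : P := sa * sb * sc
  let a'' : P := a' * sb * sc * w
  let b'' : P := sa * b' * sc * w
  let c'' : P := sa * sb * c' * w
  have hσ : σ ∈ Q.primeCompl := Q.primeCompl.mul_mem (Q.primeCompl.mul_mem sa.2 sb.2) sc.2
  have ea : algebraMap P L a'' = algebraMap P L σ * algebraMap P L w * aL := by
    simp only [a'', σ, map_mul]; rw [← ha']; ring
  have eb : algebraMap P L b'' = algebraMap P L σ * algebraMap P L w * bL := by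
    simp only [b'', σ, map_mul]; rw [← hb']; ring
  have ec : algebraMap P L c'' = algebraMap P L σ * algebraMap P L w * cL := by
    simp only [c'', σ, map_mul]; rw [← hc']; ring
  have hE : algebraMap P L (σ * F - qf a'' b'' c'' (X 0) (X 1)) ∈
      (Q ^ 3 ⊔ (q.comap (algebraMap R A)).map (algebraMap R P)).map (algebraMap P L) := by
    rw [Ideal.map_sup, Ideal.map_pow, Localization.AtPrime.map_eq_maximalIdeal, Ideal.map_map,
      ← IsScalarTower.algebraMap_eq, map_sub, map_mul, hwF, map_qf, ea, eb, ec]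
    convert Ideal.mul_mem_left _ (algebraMap P L σ * algebraMap P L w) hFLq using 1
    simp only [qf]
    ring
  obtain ⟨m, hm', hmE⟩ := (IsLocalization.algebraMap_mem_map_algebraMap_iff Q.primeCompl L _ _).1 hE
  refine deriv_quad Q (q.comap (algebraMap R A)) (by rw [← hp]; exact Ideal.map_comap_le) Dv X hDv hXQ F (m * σ)
    (m * a'') (m * b'') (m * c'') (Q.primeCompl.mul_mem hm' hσ) ?_ ?_ ?_
  · rw [Ideal.mem_comap, hFk]
    exact zero_mem _
  · convert hmE using 1
    simp only [qf]
    ring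
  · intro hmem
    have h1 : algebraMap P L (4 * (m * a'') * (m * c'') - (m * b'') ^ 2) ∈ maximalIdeal L :=
      (IsLocalization.AtPrime.to_map_mem_maximal_iff L Q _).2 hmem
    refine (mem_maximalIdeal _).1 h1 ?_
    have h2 : algebraMap P L (4 * (m * a'') * (m * c'') - (m * b'') ^ 2) =
        algebraMap P L (m * σ * w) ^ 2 * (4 * aL * cL - bL ^ 2) := by
      simp only [map_sub, map_mul, map_pow, map_ofNat, ea, eb, ec]
      ring
    rw [h2]
    exact ((IsLocalization.map_units L (⟨m * σ * w, Q.primeCompl.mul_mem (Q.primeCompl.mul_mem hm' hσ) w.2⟩ :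
      Q.primeCompl)).pow 2).mul hdL

end Groth.L21.Nodal
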