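import Groth.Agent.L21.Nodal.EtaleSplit
import Mathlib.RingTheory.RingHom.Etale
import Mathlib.LinearAlgebra.TensorProduct.RightExactness
import Mathlib.RingTheory.Localization.Away.Basic

/-! The étale local model of a node, algebraic form. -/

set_option autoImplicit false
universe u

noncomputable section

open scoped TensorProduct

namespace Groth.L21.Nodal

/-- The locus where the derivatives of `F` vanish, étale over the base near a nondegenerate critical point. -/
theorem exists_critical {R P : Type u} [CommRing R] [CommRing P] [Algebra R P] [Algebra.FinitePresentation R P]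
    {X : Fin 2 → P} (hX : Coords R X) (D : Fin 2 → Derivation R P P)
    (hD : ∀ i j, D i (X j) = if i = j then 1 else 0) (Q : Ideal P) [hQ : Q.IsPrime] (F : P)
    (hDF : ∀ i, D i F ∈ Q)
    (hH : D 0 (D 0 F) * D 1 (D 1 F) - D 1 (D 0 F) * D 0 (D 1 F) ∉ Q) :
    ∃ (C : Type u) (_ : CommRing C) (_ : Algebra R C) (_ : Algebra.Etale R C) (τ : P →ₐ[R] C) (qC : Ideal C),
      qC.IsPrime ∧ qC.comap τ.toRingHom = Q ∧ ∀ i, τ (D i F) = 0 := by
  set H := D 0 (D 0 F) * D 1 (D 1 F) - D 1 (D 0 F) * D 0 (D 1 F) with hHdef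
  let PH := Localization.Away H
  let j : P →ₐ[R] PH := IsScalarTower.toAlgHom R P PH
  have hXH : Coords R (fun l => j (X l)) := hX.comp j (formallyEtale_localizationAway H)
  obtain ⟨D', hD'⟩ := hXH.exists_deriv
  have hcomm : ∀ i z, D' i (j z) = j (D i z) := fun i z => hX.deriv_comm D hD j D' hD' i z
  let v : Fin 2 → PH := fun l => j (D l F)
  have hv : Coords R v := by
    refine hXH.of_det D' hD' v ?_
    rw [Matrix.det_fin_two]
    have : IsUnit (j H) := IsLocalization.Away.algebraMap_isUnit H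
    have e : D' 0 (j (D 0 F)) * D' 1 (j (D 1 F)) - D' 0 (j (D 1 F)) * D' 1 (j (D 0 F)) = j H := by
      simp only [hHdef, hcomm, map_sub j, map_mul j]
      ring
    exact e.symm ▸ this
  haveI : Algebra.FinitePresentation R PH := by
    haveI := IsLocalization.Away.finitePresentation (S := PH) H
    exact Algebra.FinitePresentation.trans R P PH
  let J : Ideal PH := Ideal.span (Set.range v)
  haveI : Algebra.FinitePresentation R (PH ⧸ J) := Algebra.FinitePresentation.quotient (Submodule.fg_span (Set.finite_range v))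
  have hfe : (algebraMap R (PH ⧸ J)).FormallyEtale := by
    refine formallyEtale_quotient (MvPolynomial.aeval (R := R) v).toRingHom hv
      (MvPolynomial.aeval (fun _ => (0 : R)) : MvPolynomial (Fin 2) R →ₐ[R] R).toRingHom (algebraMap R (PH ⧸ J))
      (Ideal.Quotient.mk J) (fun r => ⟨MvPolynomial.C r, by simp⟩) Ideal.Quotient.mk_surjective ?_ ?_
    · refine MvPolynomial.ringHom_ext (fun r => ?_) fun l => ?_
      · simp [← Ideal.Quotient.mk_algebraMap]
      · have : v l ∈ J := Ideal.subset_span (Set.mem_range_self l)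
        simp [Ideal.Quotient.eq_zero_iff_mem.2 this]
    · rw [Ideal.mk_ker, Ideal.span_le]
      rintro _ ⟨l, rfl⟩
      have h1 : (MvPolynomial.X l : MvPolynomial (Fin 2) R) ∈
          RingHom.ker (MvPolynomial.aeval (fun _ => (0 : R)) : MvPolynomial (Fin 2) R →ₐ[R] R).toRingHom := by simp
      simpa using Ideal.mem_map_of_mem (MvPolynomial.aeval (R := R) v).toRingHom h1
  haveI : Algebra.Etale R (PH ⧸ J) :=
    { formallyEtale := RingHom.formallyEtale_algebraMap.1 hfe }
  have hdisj := (Ideal.disjoint_powers_iff_notMem_of_isPrime (I := Q) H).2 hH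
  haveI hQH : (Q.map (algebraMap P PH)).IsPrime :=
    IsLocalization.isPrime_of_isPrime_disjoint (Submonoid.powers H) _ _ hQ hdisj
  have hJQ : RingHom.ker (Ideal.Quotient.mk J) ≤ Q.map (algebraMap P PH) := by
    rw [Ideal.mk_ker, Ideal.span_le]
    rintro _ ⟨l, rfl⟩
    exact Ideal.mem_map_of_mem _ (hDF l)
  refine ⟨PH ⧸ J, inferInstance, inferInstance, inferInstance, (Ideal.Quotient.mkₐ R J).comp j,
    (Q.map (algebraMap P PH)).map (Ideal.Quotient.mk J), Ideal.map_isPrime_of_surjective Ideal.Quotient.mk_surjective hJQ,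
    ?_, fun i => Ideal.Quotient.eq_zero_iff_mem.2 (Ideal.subset_span (Set.mem_range_self i))⟩
  rw [show ((Ideal.Quotient.mkₐ R J).comp j).toRingHom = (Ideal.Quotient.mk J).comp (algebraMap P PH) from rfl,
    ← Ideal.comap_comap, Ideal.comap_map_of_surjective _ Ideal.Quotient.mk_surjective, ← RingHom.ker_eq_comap_bot,
    sup_eq_left.2 hJQ]
  show (Q.map (algebraMap P PH)).under P = Q
  exact IsLocalization.under_map_of_isPrime_disjoint (Submonoid.powers H) PH hQ hdisj

theorem etale_of_quotient {S S' A C : Type u} [CommRing S] [CommRing S'] [CommRing A] [CommRing C]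
    (α : S →+* A) (hα : α.FormallyEtale) (β : S →+* S') (γ : S' →+* C) (π : A →+* C)
    (hβ : Function.Surjective β) (hπ : Function.Surjective π) (hcomm : π.comp α = γ.comp β)
    (hker : RingHom.ker π ≤ (RingHom.ker β).map α) (hγ : γ.FinitePresentation) : γ.Etale :=
  etale_of_formallyEtale (formallyEtale_quotient α hα β γ π hβ hπ hcomm hker) hγ

/-- The model `C[s, t]/(st + c)`. -/
abbrev NodeModel (C : Type u) [CommRing C] (c : C) : Type u :=
  MvPolynomial (Fin 2) C ⧸ Ideal.span {(MvPolynomial.X 0 * MvPolynomial.X 1 + MvPolynomial.C c : MvPolynomial (Fin 2) C)}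

theorem exists_model {R A : Type u} [CommRing R] [CommRing A] [Algebra R A] [Algebra.FinitePresentation R A]
    (q : Ideal A) [q.IsPrime] (g : A) (hg : g ∉ q) {P : Type u} [CommRing P] [Algebra R P]
    [Algebra.FinitePresentation R P] {X : Fin 2 → P} (hX : Coords R X) (φ : P →ₐ[R] Localization.Away g)
    (hφ : Function.Surjective φ) (Q : Ideal P) [Q.IsPrime]
    (hQ : Q = (q.map (algebraMap A (Localization.Away g))).comap φ) (F h : P) (hF : φ F = 0) (hh : h ∉ Q)
    (hk : ∀ k, φ k = 0 → h * k ∈ Ideal.span {F}) (D : Fin 2 → Derivation R P P)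
    (hD : ∀ i j, D i (X j) = if i = j then 1 else 0) (hDF : ∀ i, D i F ∈ Q)
    (hH : D 0 (D 0 F) * D 1 (D 1 F) - D 1 (D 0 F) * D 0 (D 1 F) ∉ Q) :
    ∃ (C : Type u) (_ : CommRing C) (_ : Algebra R C) (c : C) (E : Type u) (_ : CommRing E)
      (jA : A →+* E) (jC : C →+* E) (ε : NodeModel C c →+* E),
      (algebraMap R C).Etale ∧ jA.Etale ∧ ε.Etale ∧
      jA.comp (algebraMap R A) = jC.comp (algebraMap R C) ∧
      ε.comp (algebraMap C (NodeModel C c)) = jC ∧
      ∃ QE : Ideal E, QE.IsPrime ∧ QE.comap jA = q := by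
  obtain ⟨C, _, _, hC, τ, qC, hqC, hτQ, hτ⟩ := exists_critical hX D hD Q F hDF hH
  -- base change to `C`
  let A' := Localization.Away g
  haveI : Algebra.FinitePresentation R A' := by
    haveI := IsLocalization.Away.finitePresentation (S := A') g
    exact Algebra.FinitePresentation.trans R A A'
  let P' := C ⊗[R] P
  let incl : P →ₐ[R] P' := Algebra.TensorProduct.includeRight
  let σ : P' →ₐ[C] C := Algebra.TensorProduct.lift (AlgHom.id C C) τ fun _ _ => .all _ _
  have hσ : ∀ p, σ (incl p) = τ p := fun p => by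
    show σ ((1 : C) ⊗ₜ[R] p) = τ p
    exact (Algebra.TensorProduct.lift_tmul (AlgHom.id C C) τ (fun _ _ => .all _ _) 1 p).trans (one_mul _)
  let Q' : Ideal P' := qC.comap σ.toRingHom
  haveI : Q'.IsPrime := Ideal.comap_isPrime _ _
  have hQ' : ∀ p, incl p ∈ Q' ↔ p ∈ Q := fun p => by
    rw [← hτQ, Ideal.mem_comap, Ideal.mem_comap]
    show σ (incl p) ∈ qC ↔ _
    rw [hσ]
    rfl
  have hX' : Coords C (fun l => incl (X l)) := hX.baseChange C
  obtain ⟨D', hD'⟩ := hX'.exists_deriv
  have hcomm : ∀ i p, D' i (incl p) = incl (D i p) :=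
    fun i p => hX.deriv_comm D hD incl (fun l => (D' l).restrictScalars R) hD' i p
  obtain ⟨w, a, b, d, x, y, hw, ha, hdisc, hx, hy, hdet, hquad⟩ := exists_normalised hX' D' hD' σ Q'
    (fun z hz => by
      rw [Ideal.mem_comap]
      show σ z ∈ qC
      rw [RingHom.mem_ker.1 hz]
      exact zero_mem _) (incl F) (fun i => by rw [hcomm, hσ, hτ])
    (by rw [hcomm, hcomm, hcomm, hcomm, hcomm, hcomm, ← map_mul, ← map_mul, ← map_sub, hQ']; exact hH)
  set c := σ (incl F) with hc
  obtain ⟨P₃, _, _, i, hi, hP₃, Q₃, hQ₃, hQ₃Q, hih, v, hv, hst⟩ :=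
    exists_split hX' D' hD' Q' (incl F - algebraMap C P' c) (incl h) w a b d x y hw (mt (hQ' h).1 hh) ha hdisc hx hy
      hdet hquad
  have hiF : i (incl F) = MvPolynomial.aeval (R := C) v (MvPolynomial.X 0 * MvPolynomial.X 1 + MvPolynomial.C c) := by
    rw [map_add, map_mul, MvPolynomial.aeval_X, MvPolynomial.aeval_X, MvPolynomial.aeval_C, ← hst, map_sub,
      AlgHom.commutes, sub_add_cancel]
  let JE : Ideal P₃ := Ideal.span {i (incl F)}
  haveI : Algebra.FinitePresentation C (P₃ ⧸ JE) := Algebra.FinitePresentation.quotient (Submodule.fg_span_singleton _)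
  -- the map from the base change of `A`
  let φ' : P' →ₐ[C] C ⊗[R] A' := Algebra.TensorProduct.map (AlgHom.id C C) φ
  have hφ' : Function.Surjective φ' := Algebra.TensorProduct.map_surjective _ _ Function.surjective_id hφ
  have hker' : RingHom.ker φ' = (RingHom.ker φ).map incl := Algebra.TensorProduct.lTensor_ker φ hφ
  have hkill : RingHom.ker φ'.toRingHom ≤ RingHom.ker ((Ideal.Quotient.mk JE).comp i.toRingHom) := by
    show RingHom.ker φ' ≤ _
    rw [hker', Ideal.map_le_iff_le_comap]
    intro k hk'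
    rw [Ideal.mem_comap, RingHom.mem_ker]
    show Ideal.Quotient.mk JE (i (incl k)) = 0
    rw [Ideal.Quotient.eq_zero_iff_mem, ← Ideal.unit_mul_mem_iff_mem _ hih, ← map_mul, ← map_mul]
    obtain ⟨z, hz⟩ := Ideal.mem_span_singleton'.1 (hk k (RingHom.mem_ker.1 hk'))
    rw [← hz, map_mul, map_mul]
    exact Ideal.mul_mem_left _ _ (Ideal.mem_span_singleton_self _)
  let η₀ : C ⊗[R] A' →+* P₃ ⧸ JE := RingHom.liftOfSurjective φ'.toRingHom hφ' ⟨_, hkill⟩
  have hη₀ : ∀ z, η₀ (φ' z) = Ideal.Quotient.mk JE (i z) :=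
    RingHom.liftOfRightInverse_comp_apply φ'.toRingHom _ _ _
  let η : C ⊗[R] A' →ₐ[C] P₃ ⧸ JE :=
    { toRingHom := η₀
      commutes' := fun z => by
        show η₀ (algebraMap C (C ⊗[R] A') z) = _
        rw [← φ'.commutes z, hη₀, AlgHom.commutes]
        rfl }
  have hη : η.toRingHom.Etale := by
    refine etale_of_quotient i.toRingHom ?_ φ'.toRingHom η.toRingHom (Ideal.Quotient.mk JE) hφ'
      Ideal.Quotient.mk_surjective (RingHom.ext fun z => (hη₀ z).symm) ?_ (finitePresentation_of_algHom η)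
    · letI := i.toRingHom.toAlgebra
      haveI : Algebra.Etale P' P₃ := hi
      exact (inferInstance : Algebra.FormallyEtale P' P₃)
    · rw [Ideal.mk_ker, Ideal.span_le, Set.singleton_subset_iff]
      refine Ideal.mem_map_of_mem i.toRingHom ?_
      rw [RingHom.mem_ker]
      show φ' ((1 : C) ⊗ₜ[R] F) = 0
      rw [Algebra.TensorProduct.map_tmul, hF, TensorProduct.tmul_zero]
  let jA : A →+* P₃ ⧸ JE :=
    η.toRingHom.comp ((Algebra.TensorProduct.includeRight : A' →ₐ[R] C ⊗[R] A').toRingHom.comp (algebraMap A A'))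
  have hjA : jA.Etale := by
    refine RingHom.Etale.stableUnderComposition _ _ (RingHom.Etale.stableUnderComposition _ _ ?_ ?_) hη
    · exact RingHom.etale_algebraMap.2 (Algebra.Etale.of_isLocalizationAway g)
    · haveI := hC
      rw [show (Algebra.TensorProduct.includeRight : A' →ₐ[R] C ⊗[R] A').toRingHom =
          (Algebra.TensorProduct.comm R A' C).toRingEquiv.toRingHom.comp (algebraMap A' (A' ⊗[R] C)) from
        RingHom.ext fun z => by simp]
      exact RingHom.Etale.stableUnderComposition _ _ (RingHom.etale_algebraMap.2 inferInstance)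
        (RingHom.Etale.of_bijective (Algebra.TensorProduct.comm R A' C).bijective)
  have hle : Ideal.span {(MvPolynomial.X 0 * MvPolynomial.X 1 + MvPolynomial.C c : MvPolynomial (Fin 2) C)} ≤
      RingHom.ker ((Ideal.Quotient.mk JE).comp (MvPolynomial.aeval (R := C) v).toRingHom) := by
    rw [Ideal.span_le, Set.singleton_subset_iff, SetLike.mem_coe, RingHom.mem_ker]
    show Ideal.Quotient.mk JE (MvPolynomial.aeval (R := C) v _) = 0
    rw [← hiF]
    exact Ideal.Quotient.eq_zero_iff_mem.2 (Ideal.mem_span_singleton_self _)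
  let ε₀ : NodeModel C c →ₐ[C] P₃ ⧸ JE :=
    Ideal.Quotient.liftₐ _ ((Ideal.Quotient.mkₐ C JE).comp (MvPolynomial.aeval (R := C) v)) fun z hz => hle hz
  have hε : ε₀.toRingHom.Etale := by
    refine etale_of_quotient (MvPolynomial.aeval (R := C) v).toRingHom hv (Ideal.Quotient.mk _) ε₀.toRingHom
      (Ideal.Quotient.mk JE) Ideal.Quotient.mk_surjective Ideal.Quotient.mk_surjective rfl ?_
      (finitePresentation_of_algHom ε₀)
    rw [Ideal.mk_ker, Ideal.mk_ker, Ideal.map_span, Set.image_singleton]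
    show Ideal.span {i (incl F)} ≤ _
    rw [hiF]
    exact le_rfl
  have hJEQ : RingHom.ker (Ideal.Quotient.mk JE) ≤ Q₃ := by
    rw [Ideal.mk_ker, Ideal.span_le, Set.singleton_subset_iff, SetLike.mem_coe]
    show incl F ∈ Q₃.comap i.toRingHom
    rw [hQ₃Q, hQ', hQ, Ideal.mem_comap, hF]
    exact zero_mem _
  refine ⟨C, inferInstance, inferInstance, c, P₃ ⧸ JE, inferInstance, jA, algebraMap C (P₃ ⧸ JE), ε₀.toRingHom,
    RingHom.etale_algebraMap.2 hC, hjA, hε, RingHom.ext fun r => ?_, ε₀.comp_algebraMap,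
    Q₃.map (Ideal.Quotient.mk JE), Ideal.map_isPrime_of_surjective Ideal.Quotient.mk_surjective hJEQ, Ideal.ext fun z => ?_⟩
  · show η ((1 : C) ⊗ₜ[R] algebraMap A A' (algebraMap R A r)) = algebraMap C _ (algebraMap R C r)
    rw [← IsScalarTower.algebraMap_apply R A A',
      show ((1 : C) ⊗ₜ[R] algebraMap R A' r) = algebraMap C (C ⊗[R] A') (algebraMap R C r) by
        rw [Algebra.TensorProduct.algebraMap_apply, Algebra.algebraMap_self_apply, Algebra.algebraMap_eq_smul_one,
          Algebra.algebraMap_eq_smul_one, TensorProduct.tmul_smul, TensorProduct.smul_tmul'],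
      AlgHom.commutes]
  · obtain ⟨p, hp⟩ := hφ (algebraMap A A' z)
    have hz : jA z = Ideal.Quotient.mk JE (i (incl p)) := by
      show η ((1 : C) ⊗ₜ[R] algebraMap A A' z) = _
      rw [← hp]
      exact (congrArg η₀ (Algebra.TensorProduct.map_tmul (AlgHom.id C C) φ 1 p)).symm.trans (hη₀ _)
    rw [Ideal.mem_comap, hz, ← Ideal.mem_comap, Ideal.comap_map_of_surjective _ Ideal.Quotient.mk_surjective,
      ← RingHom.ker_eq_comap_bot, sup_eq_left.2 hJEQ]
    show incl p ∈ Q₃.comap i.toRingHom ↔ _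
    rw [hQ₃Q, hQ', hQ, Ideal.mem_comap, hp]
    have : (q.map (algebraMap A A')).under A = q := IsLocalization.under_map_of_isPrime_disjoint (Submonoid.powers g) A'
      inferInstance ((Ideal.disjoint_powers_iff_notMem_of_isPrime _).2 hg)
    exact (SetLike.ext_iff.1 this z)

end Groth.L21.Nodal
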