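import Groth.Agent.L21.Nodal.CoordsBase
import Groth.Agent.L21.Nodal.QuadBasic
import Mathlib.RingTheory.Etale.StandardEtale
import Mathlib.RingTheory.LocalRing.ResidueField.Ideal
import Mathlib.FieldTheory.IsAlgClosed.AlgebraicClosure
import Mathlib.RingTheory.Nakayama

/-! Splitting a nondegenerate quadric after an étale extension. -/

set_option autoImplicit false
universe u

noncomputable section

namespace Groth.L21.Nodal

/-- An étale extension containing a root of a quadratic with unit discriminant at `Q`. -/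
theorem exists_root_ext {P : Type u} [CommRing P] (Q : Ideal P) [hQ : Q.IsPrime] (b e u : P) (hu : u ∉ Q)
    (hdisc : b ^ 2 - 4 * e ∉ Q) :
    ∃ (P₂ : Type u) (_ : CommRing P₂) (_ : Algebra P P₂) (_ : Algebra.Etale P P₂) (T : P₂) (Q₂ : Ideal P₂),
      Q₂.IsPrime ∧ Q₂.comap (algebraMap P P₂) = Q ∧ T ^ 2 + algebraMap P P₂ b * T + algebraMap P P₂ e = 0 ∧
      IsUnit (2 * T + algebraMap P P₂ b) ∧ IsUnit (algebraMap P P₂ u) := by
  let f : Polynomial P := Polynomial.X ^ 2 + (Polynomial.C b * Polynomial.X + Polynomial.C e)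
  have hf : f.Monic := Polynomial.monic_X_pow_add (Polynomial.degree_linear_le.trans_lt (by norm_num))
  haveI : Nontrivial P := ⟨⟨u, 0, fun h => hu (h ▸ zero_mem Q)⟩⟩
  have hdeg : f.degree = 2 := by
    show (Polynomial.X ^ 2 + (Polynomial.C b * Polynomial.X + Polynomial.C e)).degree = 2
    rw [Polynomial.degree_add_eq_left_of_degree_lt, Polynomial.degree_X_pow]
    · rfl
    · rw [Polynomial.degree_X_pow]
      exact Polynomial.degree_linear_le.trans_lt (by norm_num)
  let pr : StandardEtalePair P :=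
    ⟨f, hf, Polynomial.derivative f * Polynomial.C u, Polynomial.C u, 0, 1, by rw [mul_zero, add_zero, pow_one]⟩
  have hev : ∀ {S : Type u} [CommRing S] [Algebra P S] (r : S),
      Polynomial.aeval r f = r ^ 2 + algebraMap P S b * r + algebraMap P S e ∧
      Polynomial.aeval r (Polynomial.derivative f * Polynomial.C u) = (2 * r + algebraMap P S b) * algebraMap P S u := by
    intro S _ _ r
    refine ⟨by simp [f, add_assoc], ?_⟩
    have hd : Polynomial.derivative f = Polynomial.C 2 * Polynomial.X + Polynomial.C b := by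
      simp [f, one_add_one_eq_two, Polynomial.C_ofNat]
    rw [hd]
    simp [map_ofNat]
  have hX := pr.hasMap_X
  have hu₂ : IsUnit ((2 * pr.X + algebraMap P pr.Ring b) * algebraMap P pr.Ring u) := (hev pr.X).2 ▸ hX.2
  let β : P →+* AlgebraicClosure Q.ResidueField :=
    (algebraMap Q.ResidueField (AlgebraicClosure Q.ResidueField)).comp (algebraMap P Q.ResidueField)
  have hβ : ∀ z, β z = 0 ↔ z ∈ Q := fun z => by
    rw [show β z = algebraMap Q.ResidueField (AlgebraicClosure Q.ResidueField) (algebraMap P Q.ResidueField z) from rfl,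
      map_eq_zero_iff _ (algebraMap Q.ResidueField (AlgebraicClosure Q.ResidueField)).injective,
      Ideal.algebraMap_residueField_eq_zero]
  letI : Algebra P (AlgebraicClosure Q.ResidueField) := β.toAlgebra
  obtain ⟨r, hr₀⟩ := IsAlgClosed.exists_root (f.map β) (by rw [hf.degree_map, hdeg]; norm_num)
  have hr : Polynomial.aeval r f = 0 := by
    rwa [Polynomial.IsRoot, Polynomial.eval_map] at hr₀
  have hr' : r ^ 2 + β b * r + β e = 0 := (hev r).1.symm.trans hr
  have hmap : pr.HasMap r := by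
    refine ⟨hr, isUnit_iff_ne_zero.2 ?_⟩
    show Polynomial.aeval r (Polynomial.derivative f * Polynomial.C u) ≠ 0
    rw [(hev r).2]
    refine mul_ne_zero (fun h2 => hdisc ((hβ _).1 ?_)) fun h2 => hu ((hβ _).1 h2)
    have h2' : 2 * r + β b = 0 := h2
    simp only [map_sub, map_mul, map_pow, map_ofNat]
    linear_combination (2 * r + β b) * h2' - 4 * hr'
  refine ⟨pr.Ring, inferInstance, inferInstance, inferInstance, pr.X, RingHom.ker (pr.lift r hmap).toRingHom,
    RingHom.ker_isPrime _, Ideal.ext fun z => ?_, (hev pr.X).1 ▸ hX.1, (IsUnit.mul_iff.1 hu₂).1, (IsUnit.mul_iff.1 hu₂).2⟩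
  rw [Ideal.mem_comap, RingHom.mem_ker]
  show pr.lift r hmap (algebraMap P pr.Ring z) = 0 ↔ _
  rw [AlgHom.commutes]
  exact hβ z

theorem exists_split {R P : Type u} [CommRing R] [CommRing P] [Algebra R P] [Algebra.FinitePresentation R P]
    {X : Fin 2 → P} (hX : Coords R X) (D : Fin 2 → Derivation R P P)
    (hD : ∀ i j, D i (X j) = if i = j then 1 else 0) (Q : Ideal P) [hQ : Q.IsPrime]
    (F' h w a b d x y : P) (hw : w ∉ Q) (hh : h ∉ Q) (ha : a ∉ Q) (hdisc : 4 * a * d - b ^ 2 ∉ Q)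
    (hx : x ∈ Q) (hy : y ∈ Q) (hdet : D 0 x * D 1 y - D 1 x * D 0 y ∉ Q) (hF : w * F' = qf a b d x y) :
    ∃ (P₃ : Type u) (_ : CommRing P₃) (_ : Algebra R P₃) (i : P →ₐ[R] P₃),
      i.toRingHom.Etale ∧ Algebra.FinitePresentation R P₃ ∧
      ∃ Q₃ : Ideal P₃, Q₃.IsPrime ∧ Q₃.comap i.toRingHom = Q ∧ IsUnit (i h) ∧
        ∃ v : Fin 2 → P₃, Coords R v ∧ i F' = v 0 * v 1 := by
  obtain ⟨P₂, _, _, _, T, Q₂, hQ₂, hQ₂Q, hT0, huT, huk⟩ := exists_root_ext Q b (a * d) (a * w * h)
    (fun hm => ((hQ.mem_or_mem hm).resolve_right hh |> hQ.mem_or_mem).elim ha hw)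
    (by
      intro hm
      exact hdisc (by rw [show 4 * a * d - b ^ 2 = -(b ^ 2 - 4 * (a * d)) by ring]; exact neg_mem hm))
  letI : Algebra R P₂ := ((algebraMap P P₂).comp (algebraMap R P)).toAlgebra
  haveI : IsScalarTower R P P₂ := IsScalarTower.of_algebraMap_eq fun r => rfl
  let ι := algebraMap P P₂
  rw [map_mul, map_mul] at huk
  obtain ⟨ai, hai⟩ := (IsUnit.mul_iff.1 (IsUnit.mul_iff.1 huk).1).1.exists_left_inv
  obtain ⟨wi, hwi⟩ := (IsUnit.mul_iff.1 (IsUnit.mul_iff.1 huk).1).2.exists_left_inv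
  -- derivations upstairs
  have hX₂ : Coords R (fun j => ι (X j)) :=
    hX.comp (IsScalarTower.toAlgHom R P P₂) (RingHom.formallyEtale_algebraMap.2 inferInstance)
  obtain ⟨D₂, hD₂⟩ := hX₂.exists_deriv
  have hcomm : ∀ i z, D₂ i (ι z) = ι (D i z) :=
    fun i z => hX.deriv_comm D hD (IsScalarTower.toAlgHom R P P₂) D₂ hD₂ i z
  let s : P₂ := wi * (ι a * ι x - T * ι y)
  let t : P₂ := ai * (ι a * ι x + (ι b + T) * ι y)
  have hst : ι F' = s * t := by
    have e : ι w * ι F' = ι a * ι x ^ 2 + ι b * (ι x * ι y) + ι d * ι y ^ 2 := by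
      rw [← map_mul, hF]; simp [qf]
    rw [map_mul] at hT0
    show ι F' = wi * (ι a * ι x - T * ι y) * (ai * (ι a * ι x + (ι b + T) * ι y))
    linear_combination wi * e - ι F' * hwi +
      (-(wi * (ι a * ι x ^ 2 + ι b * (ι x * ι y) + ι d * ι y ^ 2))) * hai + wi * ai * ι y ^ 2 * hT0
  let det : P₂ := D₂ 0 s * D₂ 1 t - D₂ 1 s * D₂ 0 t
  have hdet₂ : det ∉ Q₂ := by
    have zx : Ideal.Quotient.mk Q₂ (ι x) = 0 := Ideal.Quotient.eq_zero_iff_mem.2 (by
      rw [← Ideal.mem_comap, hQ₂Q]; exact hx)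
    have zy : Ideal.Quotient.mk Q₂ (ι y) = 0 := Ideal.Quotient.eq_zero_iff_mem.2 (by
      rw [← Ideal.mem_comap, hQ₂Q]; exact hy)
    intro hmem
    have hval : Ideal.Quotient.mk Q₂ det = Ideal.Quotient.mk Q₂
        ((wi * ai) * (ι a * (ι b + 2 * T)) * ι (D 0 x * D 1 y - D 1 x * D 0 y)) := by
      simp only [det, s, t, map_add, map_sub, map_mul, Derivation.leibniz, smul_eq_mul, hcomm, zx, zy, map_ofNat]
      ring
    rw [Ideal.Quotient.eq_zero_iff_mem.2 hmem, eq_comm, Ideal.Quotient.eq_zero_iff_mem] at hval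
    have hunit : IsUnit (wi * ai * (ι a * (ι b + 2 * T))) :=
      ((IsUnit.of_mul_eq_one _ hwi).mul (IsUnit.of_mul_eq_one _ hai)).mul
        ((IsUnit.mul_iff.1 (IsUnit.mul_iff.1 huk).1).1.mul (by rw [add_comm]; exact huT))
    rw [Ideal.unit_mul_mem_iff_mem _ hunit, ← Ideal.mem_comap, hQ₂Q] at hval
    exact hdet hval
  let P₃ := Localization.Away det
  let j : P₂ →ₐ[R] P₃ := IsScalarTower.toAlgHom R P₂ P₃
  have hX₃ : Coords R (fun l => j (ι (X l))) :=
    hX₂.comp j (formallyEtale_localizationAway det)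
  obtain ⟨D₃, hD₃⟩ := hX₃.exists_deriv
  have hcomm₃ : ∀ i z, D₃ i (j z) = j (D₂ i z) := fun i z => hX₂.deriv_comm D₂ hD₂ j D₃ hD₃ i z
  let v : Fin 2 → P₃ := ![j s, j t]
  have hv : Coords R v := by
    refine hX₃.of_det D₃ hD₃ v ?_
    rw [Matrix.det_fin_two]
    have : IsUnit (j det) := IsLocalization.Away.algebraMap_isUnit det
    have e : D₃ 0 (j s) * D₃ 1 (j t) - D₃ 0 (j t) * D₃ 1 (j s) = j det := by
      simp only [det, hcomm₃, map_sub j, map_mul j]
      ring
    exact e.symm ▸ this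
  haveI : IsScalarTower R P P₃ := IsScalarTower.of_algebraMap_eq fun r => by
    rw [IsScalarTower.algebraMap_apply P P₂ P₃, ← IsScalarTower.algebraMap_apply R P P₂,
      ← IsScalarTower.algebraMap_apply]
  haveI : Algebra.Etale P P₃ := inferInstance
  refine ⟨P₃, inferInstance, inferInstance, IsScalarTower.toAlgHom R P P₃, RingHom.etale_algebraMap.2 inferInstance,
    Algebra.FinitePresentation.trans R P P₃, Q₂.map (algebraMap P₂ P₃), ?_, ?_, ?_, v, hv, ?_⟩
  · exact IsLocalization.isPrime_of_isPrime_disjoint (Submonoid.powers det) _ _ hQ₂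
      ((Ideal.disjoint_powers_iff_notMem_of_isPrime _).2 hdet₂)
  · rw [show (IsScalarTower.toAlgHom R P P₃).toRingHom = (algebraMap P₂ P₃).comp ι from
      IsScalarTower.algebraMap_eq P P₂ P₃, ← Ideal.comap_comap]
    show ((Q₂.map (algebraMap P₂ P₃)).under P₂).comap ι = Q
    rw [IsLocalization.under_map_of_isPrime_disjoint (Submonoid.powers det) P₃ hQ₂
        ((Ideal.disjoint_powers_iff_notMem_of_isPrime _).2 hdet₂), hQ₂Q]
  · show IsUnit (algebraMap P P₃ h)
    rw [IsScalarTower.algebraMap_apply P P₂ P₃]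
    exact (IsUnit.mul_iff.1 huk).2.map _
  · show algebraMap P P₃ F' = v 0 * v 1
    rw [IsScalarTower.algebraMap_apply P P₂ P₃]
    show j (ι F') = j s * j t
    rw [← map_mul, hst]

/-- Along a retraction killing the derivatives, the equation is a nondegenerate quadric in two parameters. -/
theorem exists_normalised {R P : Type u} [CommRing R] [CommRing P] [Algebra R P] [Algebra.FinitePresentation R P]
    {X : Fin 2 → P} (hX : Coords R X) (D : Fin 2 → Derivation R P P)
    (hD : ∀ i j, D i (X j) = if i = j then 1 else 0) (σ : P →ₐ[R] R) (Q : Ideal P) [hQ : Q.IsPrime]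
    (hσQ : RingHom.ker σ ≤ Q) (F : P) (hDF : ∀ i, σ (D i F) = 0)
    (hH : D 0 (D 0 F) * D 1 (D 1 F) - D 1 (D 0 F) * D 0 (D 1 F) ∉ Q) :
    ∃ w a b d x y : P, w ∉ Q ∧ a ∉ Q ∧ 4 * a * d - b ^ 2 ∉ Q ∧ x ∈ Q ∧ y ∈ Q ∧
      D 0 x * D 1 y - D 1 x * D 0 y ∉ Q ∧ w * (F - algebraMap R P (σ F)) = qf a b d x y := by
  set I := RingHom.ker σ with hI
  let x₀ := X 0 - algebraMap R P (σ (X 0))
  let y₀ := X 1 - algebraMap R P (σ (X 1))
  have hc : ∀ z, z - algebraMap R P (σ z) ∈ I := fun z => by simp [hI]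
  have hDx : ∀ i l, D i (X l - algebraMap R P (σ (X l))) = if i = l then 1 else 0 := fun i l => by
    rw [map_sub, Derivation.map_algebraMap, sub_zero, hD]
  have hfg : I.FG := by
    have hs : Function.Surjective σ := fun r => ⟨algebraMap R P r, by simp⟩
    exact Algebra.FinitePresentation.ker_fG_of_surjective σ hs
  obtain ⟨r, hr1, hr⟩ : ∃ r : P, r - 1 ∈ I ∧ ∀ z ∈ I, r * z ∈ Ideal.span {x₀, y₀} := by
    have hle := hX.ker_le_sup_sq D hD σ
    rw [show Set.range (fun l => X l - algebraMap R P (σ (X l))) = {x₀, y₀} by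
      ext z; simp [Fin.exists_fin_two, x₀, y₀, eq_comm]] at hle
    set J := Ideal.span {x₀, y₀} with hJ
    set π := Ideal.Quotient.mk J
    obtain ⟨r, hr1, hr⟩ := Submodule.exists_sub_one_mem_and_smul_eq_zero_of_fg_of_le_smul (I.map π) (I.map π)
      (hfg.map π) (by
        rw [Ideal.smul_eq_mul, ← Ideal.map_mul, ← pow_two]
        refine (Ideal.map_mono hle).trans ?_
        rw [Ideal.map_sup, Ideal.map_quotient_self, bot_sup_eq])
    obtain ⟨z₀, hz₀, hz₀r⟩ := (Ideal.mem_map_iff_of_surjective π Ideal.Quotient.mk_surjective).1 hr1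
    refine ⟨z₀ + 1, by simpa using hz₀, fun z hz => ?_⟩
    rw [← Ideal.Quotient.eq_zero_iff_mem, map_mul, map_add, map_one, hz₀r, sub_add_cancel]
    exact hr _ (Ideal.mem_map_of_mem _ hz)
  have hσr : σ r = 1 := by
    have := RingHom.mem_ker.1 hr1
    rwa [map_sub, map_one, sub_eq_zero] at this
  have hrQ : r ∉ Q := fun h => hQ.ne_top ((Ideal.eq_top_iff_one Q).2 (by
    simpa using sub_mem h (hσQ hr1)))
  set G := F - algebraMap R P (σ F) with hG
  obtain ⟨α, β, hαβ⟩ := Ideal.mem_span_pair.1 (hr G (hc F))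
  have hDG : ∀ i, D i G = D i F := fun i => by rw [hG, map_sub, Derivation.map_algebraMap, sub_zero]
  have σx : σ x₀ = 0 := by simp [x₀]
  have σy : σ y₀ = 0 := by simp [y₀]
  have σG : σ G = 0 := by simp [hG]
  have hα : α ∈ I ∧ β ∈ I := by
    have key : ∀ i, σ (D i x₀) * σ α + σ (D i y₀) * σ β = 0 := fun i => by
      have h1 := congrArg (fun z => σ (D i z)) hαβ
      simp only [map_add, Derivation.leibniz, smul_eq_mul, map_mul, hDG, hDF, σx, σy, σG] at h1
      linear_combination h1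
    have k0 := key 0
    have k1 := key 1
    simp only [x₀, y₀, hDx] at k0 k1
    exact ⟨by simpa [hI] using k0, by simpa [hI] using k1⟩
  obtain ⟨a, b₁, hab⟩ := Ideal.mem_span_pair.1 (hr α hα.1)
  obtain ⟨b₂, d, hbd⟩ := Ideal.mem_span_pair.1 (hr β hα.2)
  have hE : r ^ 2 * G = qf a (b₁ + b₂) d x₀ y₀ := by
    simp only [qf]
    linear_combination -r * hαβ - x₀ * hab - y₀ * hbd
  have hdisc : 4 * a * d - (b₁ + b₂) ^ 2 ∉ Q := by
    have key : ∀ i l, σ (D l (D i F)) = σ (D l (D i (qf a (b₁ + b₂) d x₀ y₀))) := fun i l => by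
      rw [← hE]
      simp [Derivation.leibniz, Derivation.leibniz_pow, hσr, σG, hDG, hDF]
    have k00 := key 0 0
    have k01 := key 0 1
    have k10 := key 1 0
    have k11 := key 1 1
    simp only [x₀, y₀] at σx σy
    simp only [qf, x₀, y₀, map_add, Derivation.leibniz, Derivation.leibniz_pow, smul_eq_mul, nsmul_eq_mul, map_mul,
      hDx, σx, σy, Derivation.map_natCast, Derivation.map_one_eq_zero, map_zero, map_natCast, map_one, map_pow, if_true,
      Fin.isValue, zero_ne_one, one_ne_zero, if_false, mul_zero, zero_mul, add_zero, zero_add, mul_one, one_mul,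
      Nat.add_one_sub_one, pow_one, pow_zero, ne_eq, OfNat.ofNat_ne_zero, not_false_eq_true, zero_pow] at k00 k01 k10 k11
    intro hmem
    refine hH ?_
    have : σ (D 0 (D 0 F) * D 1 (D 1 F) - D 1 (D 0 F) * D 0 (D 1 F) - (4 * a * d - (b₁ + b₂) ^ 2)) = 0 := by
      simp only [map_sub, map_mul, map_add, map_pow, map_ofNat, k00, k01, k10, k11]
      push_cast
      ring
    have := add_mem (hσQ this) hmem
    rwa [sub_add_cancel] at this
  have hx : x₀ ∈ Q := hσQ σx
  have hy : y₀ ∈ Q := hσQ σy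
  have hw : r ^ 2 ∉ Q := fun h => hrQ (hQ.mem_of_pow_mem _ h)
  have h01 : D 0 x₀ = 1 ∧ D 1 x₀ = 0 ∧ D 0 y₀ = 0 ∧ D 1 y₀ = 1 := by simp [x₀, y₀, hDx, hD]
  obtain ⟨e00, e10, e01, e11⟩ := h01
  have hone : (1 : P) ∉ Q := fun h => hQ.ne_top ((Ideal.eq_top_iff_one Q).2 h)
  by_cases ha : a ∈ Q
  · by_cases hd : d ∈ Q
    · have hb : b₁ + b₂ ∉ Q := fun hb => hdisc
        (sub_mem (Ideal.mul_mem_left _ _ hd) (Ideal.pow_mem_of_mem _ hb 2 two_pos))
      refine ⟨r ^ 2, a + (b₁ + b₂) + d, (b₁ + b₂) + 2 * d, d, x₀, y₀ - x₀, hw, fun h => hb ?_, ?_, hx,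
        sub_mem hy hx, ?_, ?_⟩
      · have := sub_mem (sub_mem h ha) hd
        rwa [show a + (b₁ + b₂) + d - a - d = b₁ + b₂ by ring] at this
      · convert hdisc using 2; ring
      · simpa [map_sub, e00, e10, e01, e11] using hone
      · rw [hE]; simp only [qf]; ring
    · refine ⟨r ^ 2, d, b₁ + b₂, a, y₀, x₀, hw, hd, ?_, hy, hx, ?_, ?_⟩
      · convert hdisc using 2; ring
      · simpa [e00, e10, e01, e11] using hone
      · rw [hE]; simp only [qf]; ring
  · exact ⟨r ^ 2, a, b₁ + b₂, d, x₀, y₀, hw, ha, hdisc, hx, hy, by simpa [e00, e10, e01, e11] using hone, hE⟩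

end Groth.L21.Nodal
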