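import Groth.Agent.L21.Nodal.EtaleEquation
import Groth.Agent.L21.Nodal.EtaleModel
import Groth.Agent.L21.Nodal.QuadNode
import Groth.Agent.L21.Nodal.DeformFibre
import Groth.Agent.S1631
import Mathlib.AlgebraicGeometry.Morphisms.Etale
import Mathlib.AlgebraicGeometry.Pullbacks

/-! Étale local structure of a node in a flat family. -/

set_option autoImplicit false
universe u

open CategoryTheory CategoryTheory.Limits AlgebraicGeometry IsLocalRing

attribute [local instance] Curv2.resAlgebra Curv2.stalkAlgebra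

noncomputable section

namespace Groth.L21.Nodal

/-- Separability of the residue extension, transported from the fibre. -/
theorem hsep_of_fibre {R A k D : Type u} [CommRing R] [CommRing A] [Algebra R A] [Field k] [CommRing D]
    [IsLocalRing D] [Algebra k D] (q : Ideal A) [q.IsPrime] (π : Localization.AtPrime q →+* D)
    (hπ : Function.Surjective π) (γ : R →+* k) (hγ : RingHom.ker γ = q.comap (algebraMap R A))
    (hfrac : ∀ z : k, ∃ a s : R, s ∉ q.comap (algebraMap R A) ∧ z * γ s = γ a)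
    (hcomm : ∀ r : R, π (algebraMap R (Localization.AtPrime q) r) = algebraMap k D (γ r))
    (hsepD : Algebra.IsSeparable k (ResidueField D)) :
    letI := (Ideal.ResidueField.map (q.comap (algebraMap R A)) q (algebraMap R A) rfl).toAlgebra;
    Algebra.IsSeparable (q.comap (algebraMap R A)).ResidueField q.ResidueField := by
  letI := (Ideal.ResidueField.map (q.comap (algebraMap R A)) q (algebraMap R A) rfl).toAlgebra
  let p := q.comap (algebraMap R A)
  have hunit : p.primeCompl ≤ (IsUnit.submonoid k).comap γ := fun r hr =>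
    isUnit_iff_ne_zero.2 fun h => hr (hγ.le (RingHom.mem_ker.2 h))
  let e₁' : p.ResidueField →+* k := Ideal.ResidueField.lift p γ hγ.ge hunit
  have he₁' : Function.Bijective e₁' := ⟨e₁'.injective, fun z => by
    obtain ⟨a, s, hs, hz⟩ := hfrac z
    refine ⟨algebraMap R p.ResidueField a / algebraMap R p.ResidueField s, ?_⟩
    rw [map_div₀, Ideal.ResidueField.lift_algebraMap, Ideal.ResidueField.lift_algebraMap, div_eq_iff, hz]
    exact (hunit hs).ne_zero⟩
  haveI : IsLocalHom π := IsLocalHom.of_surjective π hπ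
  let e₂' : q.ResidueField →+* ResidueField D := IsLocalRing.ResidueField.map π
  have he₂' : Function.Bijective e₂' := ⟨e₂'.injective, fun z => by
    obtain ⟨z, rfl⟩ := IsLocalRing.residue_surjective z
    obtain ⟨w, rfl⟩ := hπ z
    exact ⟨IsLocalRing.residue _ w, rfl⟩⟩
  let e₁ := RingEquiv.ofBijective e₁' he₁'
  let e₂ := RingEquiv.ofBijective e₂' he₂'
  have he : (algebraMap k (ResidueField D)).comp e₁' = e₂'.comp (algebraMap p.ResidueField q.ResidueField) := by
    refine Ideal.ResidueField.ringHom_ext (RingHom.ext fun r => ?_)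
    show algebraMap k (ResidueField D) (e₁' (algebraMap R p.ResidueField r)) =
      e₂' (Ideal.ResidueField.map p q (algebraMap R A) rfl (algebraMap R p.ResidueField r))
    rw [Ideal.ResidueField.lift_algebraMap, Ideal.ResidueField.map_algebraMap]
    rw [IsScalarTower.algebraMap_apply k D (ResidueField D), ← hcomm,
      IsScalarTower.algebraMap_apply A (Localization.AtPrime q) q.ResidueField, ← IsScalarTower.algebraMap_apply R A]
    rfl
  haveI := hsepD
  refine Algebra.IsSeparable.of_equiv_equiv e₁.symm e₂.symm (RingHom.ext fun z => ?_)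
  obtain ⟨z, rfl⟩ := e₁.surjective z
  show algebraMap p.ResidueField q.ResidueField (e₁.symm (e₁ z)) = e₂.symm (algebraMap k (ResidueField D) (e₁' z))
  rw [e₁.symm_apply_apply, RingEquiv.eq_symm_apply]
  exact (RingHom.congr_fun he z).symm

/-- The classifying map of a node. -/
abbrev baseHom (C : Type u) [CommRing C] (c : C) : MvPolynomial (Fin 1) (ULift.{u} ℤ) →+* C :=
  MvPolynomial.eval₂Hom ((Int.castRingHom C).comp ULift.ringEquiv.toRingHom) (fun _ => -c)

/-- The universal node. -/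
abbrev UnivNode : Type u :=
  MvPolynomial (Fin 3) (ULift.{u} ℤ) ⧸ Ideal.span
    {(MvPolynomial.X 0 * MvPolynomial.X 1 - MvPolynomial.X 2 : MvPolynomial (Fin 3) (ULift.{u} ℤ))}

/-- The map from the universal node to a node model. -/
def univHom (C : Type u) [CommRing C] (c : C) : UnivNode.{u} →+* NodeModel C c :=
  Ideal.Quotient.lift _
    ((Ideal.Quotient.mk _).comp (MvPolynomial.eval₂Hom ((Int.castRingHom (MvPolynomial (Fin 2) C)).comp ULift.ringEquiv.toRingHom)
      ![MvPolynomial.X 0, MvPolynomial.X 1, -MvPolynomial.C c]))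
    (by
      intro z hz
      obtain ⟨w, rfl⟩ := Ideal.mem_span_singleton'.1 hz
      rw [map_mul]
      refine mul_eq_zero_of_right _ (Ideal.Quotient.eq_zero_iff_mem.2 ?_)
      simp only [map_sub, map_mul, MvPolynomial.eval₂Hom_X']
      simpa using Ideal.mem_span_singleton_self
        (MvPolynomial.X 0 * MvPolynomial.X 1 + MvPolynomial.C c : MvPolynomial (Fin 2) C))

theorem univHom_mk (C : Type u) [CommRing C] (c : C) (z : MvPolynomial (Fin 3) (ULift.{u} ℤ)) :
    univHom C c (Ideal.Quotient.mk _ z) = Ideal.Quotient.mk _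
      (MvPolynomial.eval₂Hom ((Int.castRingHom (MvPolynomial (Fin 2) C)).comp ULift.ringEquiv.toRingHom)
        ![MvPolynomial.X 0, MvPolynomial.X 1, -MvPolynomial.C c] z) := rfl

/-- The coefficient `a ↦ a` into the universal node. -/
abbrev univBase : MvPolynomial (Fin 1) (ULift.{u} ℤ) →+* UnivNode.{u} :=
  (Ideal.Quotient.mk _).comp
    (MvPolynomial.aeval (fun _ : Fin 1 => (MvPolynomial.X 2 : MvPolynomial (Fin 3) (ULift.{u} ℤ)))).toRingHom

theorem ringHom_ulift_int_ext {T : Type u} [CommRing T] (f g : ULift.{u} ℤ →+* T) : f = g :=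
  RingHom.ext fun z => by
    obtain ⟨n⟩ := z
    exact RingHom.congr_fun (RingHom.ext_int (f.comp ULift.ringEquiv.symm.toRingHom) (g.comp ULift.ringEquiv.symm.toRingHom)) n

theorem map_C_eq {T : Type u} [CommRing T] {σ : Type} (f g : MvPolynomial σ (ULift.{u} ℤ) →+* T) (r : ULift.{u} ℤ) :
    f (MvPolynomial.C r) = g (MvPolynomial.C r) :=
  RingHom.congr_fun (ringHom_ulift_int_ext (f.comp MvPolynomial.C) (g.comp MvPolynomial.C)) r

theorem isPushout_nodeModel (C : Type u) [CommRing C] (c : C) :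
    IsPushout (CommRingCat.ofHom (R := MvPolynomial (Fin 1) (ULift.{u} ℤ)) (S := UnivNode.{u}) univBase.{u}) (CommRingCat.ofHom (baseHom C c))
      (CommRingCat.ofHom (R := UnivNode.{u}) (S := NodeModel C c) (univHom C c)) (CommRingCat.ofHom (algebraMap C (NodeModel C c))) := by
  have hw : (univHom C c).comp univBase.{u} = (algebraMap C (NodeModel C c)).comp (baseHom C c) := by
    refine MvPolynomial.ringHom_ext (fun r => ?_) fun i => ?_
    · exact RingHom.congr_fun (ringHom_ulift_int_ext (((univHom C c).comp univBase.{u}).comp MvPolynomial.C)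
        (((algebraMap C (NodeModel C c)).comp (baseHom C c)).comp MvPolynomial.C)) r
    · simp [univHom_mk]
      rfl
  refine IsPushout.of_isColimit' ⟨CommRingCat.hom_ext hw⟩ (PushoutCocone.IsColimit.mk _ (fun s => ?_) ?_ ?_ ?_)
  · refine CommRingCat.ofHom (Ideal.Quotient.lift _ (MvPolynomial.eval₂Hom s.inr.hom
      ![s.inl.hom (Ideal.Quotient.mk _ (MvPolynomial.X 0)), s.inl.hom (Ideal.Quotient.mk _ (MvPolynomial.X 1))]) ?_)
    intro z hz
    obtain ⟨w, rfl⟩ := Ideal.mem_span_singleton'.1 hz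
    rw [map_mul]
    refine mul_eq_zero_of_right _ ?_
    have h2 := congrArg (fun φ => φ.hom (MvPolynomial.X 0)) s.condition
    simp only [CommRingCat.hom_comp, CommRingCat.hom_ofHom, RingHom.comp_apply, AlgHom.toRingHom_eq_coe,
      RingHom.coe_coe, MvPolynomial.aeval_X, MvPolynomial.eval₂Hom_X'] at h2
    have h3 : (Ideal.Quotient.mk (Ideal.span {(MvPolynomial.X 0 * MvPolynomial.X 1 - MvPolynomial.X 2 :
        MvPolynomial (Fin 3) (ULift.{u} ℤ))})) (MvPolynomial.X 0 * MvPolynomial.X 1) =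
        Ideal.Quotient.mk _ (MvPolynomial.X 2) := Ideal.Quotient.eq.2 (Ideal.mem_span_singleton_self _)
    simp only [map_add, map_mul, MvPolynomial.eval₂Hom_X', MvPolynomial.eval₂Hom_C, Matrix.cons_val_zero,
      Matrix.cons_val_one]
    rw [← map_mul, ← map_mul, h3, h2, ← map_add]
    simp
  · intro s
    refine CommRingCat.hom_ext (Ideal.Quotient.ringHom_ext (MvPolynomial.ringHom_ext (fun r => ?_) fun i => ?_))
    · exact map_C_eq _ _ r
    · have h2 := congrArg (fun φ => φ.hom (MvPolynomial.X 0)) s.condition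
      simp only [CommRingCat.hom_comp, CommRingCat.hom_ofHom, RingHom.comp_apply, AlgHom.toRingHom_eq_coe,
        RingHom.coe_coe, MvPolynomial.aeval_X, MvPolynomial.eval₂Hom_X'] at h2
      fin_cases i
      · simp [univHom_mk]
      · simp [univHom_mk]
      · simp [univHom_mk, h2]
  · intro s
    refine CommRingCat.hom_ext (RingHom.ext fun z => ?_)
    simp only [CommRingCat.hom_comp, CommRingCat.hom_ofHom, RingHom.comp_apply]
    exact MvPolynomial.eval₂Hom_C _ _ z
  · intro s m h₁ h₂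
    refine CommRingCat.hom_ext (Ideal.Quotient.ringHom_ext (MvPolynomial.ringHom_ext (fun z => ?_) fun i => ?_))
    · refine Eq.trans ?_ (MvPolynomial.eval₂Hom_C _ _ z).symm
      rw [← h₂]
      rfl
    · refine Eq.trans ?_ (MvPolynomial.eval₂Hom_X' _ _ i).symm
      rw [← h₁]
      fin_cases i
      · simp [univHom_mk]
      · simp [univHom_mk]

theorem etale_local_structure {X S : Scheme.{u}} (f : X ⟶ S) [Flat f] [LocallyOfFinitePresentation f] (x : X)
    (hx : @Curv2.IsNode (S.residueField (f.base x)) _ (f.fiber (f.base x)) ⟨f.fiberToSpecResidueField (f.base x)⟩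
      (f.asFiber x)) :
    ∃ (C : CommRingCat.{u}) (c : C) (U : Scheme.{u}) (gU : U ⟶ X) (gV : Spec C ⟶ S) (p : U ⟶ Spec C)
      (e : U ⟶ Spec (CommRingCat.of (NodeModel C c))),
      Etale gU ∧ Etale gV ∧ Etale e ∧ gU ≫ f = p ≫ gV ∧
      e ≫ Spec.map (CommRingCat.ofHom (algebraMap C (NodeModel C c))) = p ∧ x ∈ Set.range gU.base := by
  obtain ⟨V₀, hV₀, hxV, -⟩ := exists_isAffineOpen_mem_and_subset (X := S) (x := f x) (U := ⊤) trivial
  obtain ⟨U₀, hU₀, hxU, hUV⟩ := exists_isAffineOpen_mem_and_subset (x := x) (U := f ⁻¹ᵁ V₀) hxV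
  letI : Algebra Γ(S, V₀) Γ(X, U₀) := (f.appLE V₀ U₀ hUV).hom.toAlgebra
  haveI : Module.Flat Γ(S, V₀) Γ(X, U₀) := f.flat_appLE hV₀ hU₀ hUV
  haveI : Algebra.FinitePresentation Γ(S, V₀) Γ(X, U₀) := f.finitePresentation_appLE hV₀ hU₀ hUV
  set q := (hU₀.primeIdealOf ⟨x, hxU⟩).asIdeal with hq
  have hp : q.comap (algebraMap Γ(S, V₀) Γ(X, U₀)) = (hV₀.primeIdealOf ⟨f x, hUV hxU⟩).asIdeal :=
    congrArg PrimeSpectrum.asIdeal (IsAffineOpen.comap_primeIdealOf_appLE V₀ hV₀ U₀ hU₀ hUV hxU)
  letI := S.presheaf.algebra_section_stalk (⟨f x, hUV hxU⟩ : V₀)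
  haveI hlocS := hV₀.isLocalization_stalk ⟨f x, hUV hxU⟩
  letI := X.presheaf.algebra_section_stalk (⟨x, hxU⟩ : U₀)
  haveI hlocX : IsLocalization.AtPrime (X.presheaf.stalk x) q := hU₀.isLocalization_stalk ⟨x, hxU⟩
  letI : (f.fiber (f x)).Over (Spec (CommRingCat.of (S.residueField (f x)))) := ⟨f.fiberToSpecResidueField (f x)⟩
  haveI : LocallyOfFiniteType ((f.fiber (f x)) ↘ Spec (CommRingCat.of (S.residueField (f x)))) :=
    MorphismProperty.pullback_snd f (S.fromSpecResidueField (f x)) inferInstance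
  haveI : IsLocallyNoetherian (f.fiber (f x)) :=
    LocallyOfFiniteType.isLocallyNoetherian ((f.fiber (f x)) ↘ Spec (CommRingCat.of (S.residueField (f x))))
  obtain ⟨hsep, a₀, b₀, c₀, hD₀, e₀, he₀⟩ := (isNode_iff_quad (f.asFiber x) hx.1).1 hx
  obtain ⟨hsepD, hred, hfin, x₁, y₁, a₁, b₁, c₁, hx₁, hy₁, hgen, hdisc, hquad⟩ :=
    (Groth.Agent.S1631.result (S.residueField (f x)) ((f.fiber (f x)).presheaf.stalk (f.asFiber x))).2
      ⟨hsep, a₀, b₀, c₀, hD₀, e₀, he₀⟩
  haveI := hred
  have hgen' : Ideal.span {x₁, y₁} = maximalIdeal ((f.fiber (f x)).presheaf.stalk (f.asFiber x)) := by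
    refine le_antisymm (Ideal.span_le.2 ?_) (Submodule.le_of_le_smul_of_le_jacobson_bot (IsNoetherian.noetherian _)
      (IsLocalRing.maximalIdeal_le_jacobson ⊥) (by rw [Ideal.smul_eq_mul, ← pow_two, hgen]))
    rintro _ (rfl | rfl) <;> assumption
  have hnp : ¬ (maximalIdeal ((f.fiber (f x)).presheaf.stalk (f.asFiber x))).IsPrincipal := fun h => by
    have := IsLocalRing.finrank_cotangentSpace_le_one_iff.2 h
    omega
  obtain ⟨π₀, hπ₀, hker₀, hcomp₀⟩ := exists_fibre_stalk_hom f x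
  let eq' : Localization.AtPrime q ≃+* X.presheaf.stalk x :=
    (IsLocalization.algEquiv q.primeCompl (Localization.AtPrime q) (X.presheaf.stalk x)).toRingEquiv
  let π := π₀.comp eq'.toRingHom
  let γ : Γ(S, V₀) →+* S.residueField (f x) :=
    (S.residue (f x)).hom.comp (algebraMap Γ(S, V₀) (S.presheaf.stalk (f x)))
  have hgerm : ∀ r, eq' (algebraMap Γ(S, V₀) (Localization.AtPrime q) r) =
      (f.stalkMap x).hom (algebraMap Γ(S, V₀) (S.presheaf.stalk (f x)) r) := fun r => by
    rw [IsScalarTower.algebraMap_apply Γ(S, V₀) Γ(X, U₀) (Localization.AtPrime q)]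
    refine ((IsLocalization.algEquiv q.primeCompl (Localization.AtPrime q) (X.presheaf.stalk x)).commutes _).trans ?_
    show X.presheaf.germ U₀ x hxU (f.appLE V₀ U₀ hUV r) = f.stalkMap x (S.presheaf.germ V₀ (f x) (hUV hxU) r)
    simp [Scheme.Hom.appLE]
  have hcomm : ∀ r, π (algebraMap Γ(S, V₀) (Localization.AtPrime q) r) =
      algebraMap (S.residueField (f x)) ((f.fiber (f x)).presheaf.stalk (f.asFiber x)) (γ r) := fun r => by
    show π₀ (eq' (algebraMap Γ(S, V₀) (Localization.AtPrime q) r)) = _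
    rw [hgerm, hcomp₀]
    rfl
  have hkerπ : RingHom.ker π =
      (q.comap (algebraMap Γ(S, V₀) Γ(X, U₀))).map (algebraMap Γ(S, V₀) (Localization.AtPrime q)) := by
    have hm : maximalIdeal (S.presheaf.stalk (f x)) =
        (q.comap (algebraMap Γ(S, V₀) Γ(X, U₀))).map (algebraMap Γ(S, V₀) (S.presheaf.stalk (f x))) := by
      rw [hp]
      exact (IsLocalization.AtPrime.map_eq_maximalIdeal _ _).symm
    have hcomap : RingHom.ker π = (RingHom.ker π₀).comap eq'.toRingHom := (RingHom.comap_ker π₀ eq'.toRingHom).symm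
    rw [hcomap, hker₀, hm, Ideal.map_map, show (f.stalkMap x).hom.comp (algebraMap Γ(S, V₀) (S.presheaf.stalk (f x))) =
        eq'.toRingHom.comp (algebraMap Γ(S, V₀) (Localization.AtPrime q)) from RingHom.ext fun r => (hgerm r).symm,
      ← Ideal.map_map]
    exact Ideal.comap_map_of_bijective _ eq'.bijective
  have hγ : RingHom.ker γ = q.comap (algebraMap Γ(S, V₀) Γ(X, U₀)) := by
    ext r
    rw [RingHom.mem_ker, hp]
    show IsLocalRing.residue (S.presheaf.stalk (f x)) _ = 0 ↔ _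
    rw [IsLocalRing.residue_eq_zero_iff]
    exact IsLocalization.AtPrime.to_map_mem_maximal_iff _ _ r
  have hfrac : ∀ z : S.residueField (f x), ∃ a s : Γ(S, V₀),
      s ∉ q.comap (algebraMap Γ(S, V₀) Γ(X, U₀)) ∧ z * γ s = γ a := fun z => by
    obtain ⟨z, rfl⟩ := Scheme.residue_surjective S (f x) z
    obtain ⟨⟨a, s⟩, has⟩ := IsLocalization.surj (hV₀.primeIdealOf ⟨f x, hUV hxU⟩).asIdeal.primeCompl z
    refine ⟨a, s, by rw [hp]; exact s.2, ?_⟩
    show _ * (S.residue (f x)).hom _ = (S.residue (f x)).hom _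
    rw [← map_mul, has]
  obtain ⟨g, hg, P, _, _, _, Xc, hXc, φ, hφ, Q, _, hQ, F, h, hF, hh, hk, hder⟩ :=
    exists_equation q (hsep_of_fibre q π (hπ₀.comp eq'.surjective) γ hγ hfrac hcomm hsepD) π (hπ₀.comp eq'.surjective)
      hkerπ hnp x₁ y₁ a₁ b₁ c₁ hgen' (IsLocalRing.residue_ne_zero_iff_isUnit _ |>.1 hdisc)
      (by rw [qf, ← mul_assoc]; exact hquad)
  obtain ⟨Dv, hDv⟩ := hXc.exists_deriv
  obtain ⟨hDF, hH⟩ := hder Dv hDv
  obtain ⟨C, _, _, c, E, _, jA, jC, ε, hCet, hjA, hε, hjcomm, hεC, QE, hQE, hQEq⟩ :=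
    exists_model q g hg hXc φ hφ Q hQ F h hF hh hk Dv hDv hDF hH
  refine ⟨CommRingCat.of C, c, Spec (CommRingCat.of E), Spec.map (CommRingCat.ofHom jA) ≫ hU₀.fromSpec,
    Spec.map (CommRingCat.ofHom (algebraMap Γ(S, V₀) C)) ≫ hV₀.fromSpec, Spec.map (CommRingCat.ofHom jC),
    Spec.map (CommRingCat.ofHom ε), ?_, ?_, ?_, ?_, ?_, ?_⟩
  · haveI : Etale (Spec.map (CommRingCat.ofHom jA)) := (HasRingHomProperty.Spec_iff (P := @Etale)).2 hjA
    infer_instance
  · haveI : Etale (Spec.map (CommRingCat.ofHom (algebraMap Γ(S, V₀) C))) := (HasRingHomProperty.Spec_iff (P := @Etale)).2 hCet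
    infer_instance
  · exact (HasRingHomProperty.Spec_iff (P := @Etale)).2 hε
  · rw [Category.assoc, ← IsAffineOpen.SpecMap_appLE_fromSpec f hV₀ hU₀ hUV, ← Spec.map_comp_assoc, ← Spec.map_comp_assoc]
    congr 2
    exact CommRingCat.hom_ext hjcomm
  · rw [← Spec.map_comp]
    exact congrArg Spec.map (CommRingCat.hom_ext hεC)
  · refine ⟨⟨QE, hQE⟩, ?_⟩
    rw [Scheme.Hom.comp_base, TopCat.comp_app]
    have : (Spec.map (CommRingCat.ofHom jA)).base ⟨QE, hQE⟩ = hU₀.primeIdealOf ⟨x, hxU⟩ := PrimeSpectrum.ext hQEq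
    rw [this]
    exact hU₀.fromSpec_primeIdealOf ⟨x, hxU⟩

end Groth.L21.Nodal
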