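import Groth.Agent.L21.Nodal.AlgNode
import Groth.Agent.L21.Nodal.DeformNode
import Mathlib.RingTheory.Flat.EquationalCriterion

/-! A plane curve with a node is cut out by one equation. -/

set_option autoImplicit false
universe u

open IsLocalRing

noncomputable section

namespace Groth.L21.Nodal

theorem ker_eq_span_of_quad {L B : Type u} [CommRing L] [IsLocalRing L] [IsNoetherianRing L] [CommRing B]
    [IsLocalRing B] [IsNoetherianRing B] (φ : L →+* B) (hφ : Function.Surjective φ) (X Y a b c : L)
    (hgen : Ideal.span {X, Y} = maximalIdeal L) (ha : IsUnit a)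
    (hq : φ (qf a b c X Y) ∈ maximalIdeal B ^ 3)
    (z : B) (hz : z ∈ maximalIdeal B) (hreg : ∀ s, z * s = 0 → s = 0) (hnp : ¬ (maximalIdeal B).IsPrincipal) :
    ∃ F : L, RingHom.ker φ = Ideal.span {F} ∧ F - qf a b c X Y ∈ maximalIdeal L ^ 3 := by
  set M := maximalIdeal L with hM
  have hmap : M.map φ = maximalIdeal B := IsLocalRing.map_maximalIdeal_of_surjective φ hφ
  have hgenB : Ideal.span {φ X, φ Y} = maximalIdeal B := by
    rw [← hmap, ← hgen, Ideal.map_span, Set.image_pair]
  obtain ⟨δ, hδ, hδ'⟩ : ∃ δ ∈ M ^ 3, φ δ = φ (qf a b c X Y) := by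
    rw [← hmap, ← Ideal.map_pow, Ideal.mem_map_iff_of_surjective φ hφ] at hq
    exact hq
  set F := qf a b c X Y - δ with hF
  have hF0 : φ F = 0 := by rw [hF, map_sub, hδ', sub_self]
  refine ⟨F, ?_, by rw [hF, sub_sub_cancel_left]; exact neg_mem hδ⟩
  have hmem : ∀ n f, f ∈ M ^ n → φ f ∈ maximalIdeal B ^ n := fun n f hf => by
    rw [← hmap, ← Ideal.map_pow]
    exact Ideal.mem_map_of_mem φ hf
  have hmax : ∀ f, φ f ∈ maximalIdeal B → f ∈ M := fun f hf => by
    by_contra h
    exact (mem_maximalIdeal _).1 hf ((notMem_maximalIdeal.1 h).map φ)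
  have hX : X ∈ M := hgen ▸ Ideal.subset_span (Or.inl rfl)
  have hY : Y ∈ M := hgen ▸ Ideal.subset_span (Or.inr rfl)
  have hker : ∀ n f, φ f = 0 → f ∈ Ideal.span {F} ⊔ M ^ n := by
    intro n
    induction n with
    | zero => intro f _; rw [pow_zero, Ideal.one_eq_top, sup_top_eq]; trivial
    | succ n ih =>
      intro f hf
      cases n with
      | zero =>
        rw [zero_add, pow_one]
        exact Submodule.mem_sup_right (hmax f (hf ▸ zero_mem _))
      | succ N =>
        obtain ⟨p, hp, r, hr, rfl⟩ := Submodule.mem_sup.1 (ih f hf)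
        obtain ⟨w, hw, s, hs, hws⟩ : ∃ w ∈ Ideal.span {F} ⊔ M ^ (N + 2),
            ∃ s ∈ Ideal.span {X * Y ^ N, Y ^ (N + 1)}, w + s = r := by
          refine Submodule.mem_sup.1 ?_
          rcases N with _ | N
          · refine Submodule.mem_sup_right ?_
            simpa [hgen] using hr
          · rw [← hgen] at hr
            refine SetLike.le_def.1 (sup_le_sup ?_ le_rfl) (pow_le_sup' a b c X Y ha N hr)
            rw [hgen, Ideal.span_singleton_mul_le_iff]
            intro t ht
            rw [show qf a b c X Y = F + δ by rw [hF, sub_add_cancel], add_mul]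
            refine Submodule.add_mem_sup (Ideal.mul_mem_right _ _ (Ideal.mem_span_singleton_self _)) ?_
            rw [show N + 1 + 2 = 3 + N by omega, pow_add]
            exact Ideal.mul_mem_mul hδ ht
        obtain ⟨P, R, rfl⟩ := Ideal.mem_span_pair.1 hs
        subst hws
        have hFB : ∀ t ∈ Ideal.span {F}, φ t = 0 := fun t ht => by
          obtain ⟨v, rfl⟩ := Ideal.mem_span_singleton'.1 ht
          rw [map_mul, hF0, mul_zero]
        obtain ⟨w₁, hw₁, w₂, hw₂, rfl⟩ := Submodule.mem_sup.1 hw
        rw [map_add, map_add, map_add, hFB p hp, hFB w₁ hw₁, zero_add, zero_add, add_comm,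
          add_eq_zero_iff_eq_neg] at hf
        obtain ⟨hP, hR⟩ := quad_independent (φ a) (φ b) (φ c) (φ X) (φ Y) (ha.map φ) hgenB
          (by rw [← map_qf, ← hmap, ← Ideal.map_pow, ← hδ']; exact Ideal.mem_map_of_mem _ hδ) z hz hreg hnp
          (φ P) (φ R) N (by
            have h1 := neg_mem (hmem _ _ hw₂)
            rw [← hf] at h1
            simpa only [map_add, map_mul, map_pow] using h1)
        refine add_mem (Submodule.mem_sup_left hp) (add_mem (add_mem (Submodule.mem_sup_left hw₁)
          (Submodule.mem_sup_right hw₂)) (Submodule.mem_sup_right (add_mem ?_ ?_)))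
        · rw [pow_succ']
          exact Ideal.mul_mem_mul (hmax P hP) (by rw [pow_succ']; exact Ideal.mul_mem_mul hX (Ideal.pow_mem_pow hY N))
        · rw [pow_succ' M]
          exact Ideal.mul_mem_mul (hmax R hR) (Ideal.pow_mem_pow hY (N + 1))
  refine le_antisymm (fun f hf => mem_of_forall_mem_sup_pow ?_ fun n => hker n f hf)
    ((Ideal.span_singleton_le_iff_mem _).2 hF0)
  rw [Ideal.span_singleton_le_iff_mem]
  exact hmax _ (hF0 ▸ zero_mem _)

/-- A change of variables making the first coefficient of a nondegenerate form a unit. -/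
theorem exists_unit_form {B : Type u} [CommRing B] [IsLocalRing B] (x y a b c : B)
    (hD : IsUnit (4 * a * c - b ^ 2)) :
    ∃ x' y' a' b' c' : B, Ideal.span {x', y'} = Ideal.span {x, y} ∧ IsUnit a' ∧
      IsUnit (4 * a' * c' - b' ^ 2) ∧ qf a' b' c' x' y' = qf a b c x y := by
  by_cases ha : IsUnit a
  · exact ⟨x, y, a, b, c, rfl, ha, hD, rfl⟩
  by_cases hc : IsUnit c
  · exact ⟨y, x, c, b, a, Ideal.span_pair_comm, hc, by convert hD using 1; ring, by simp only [qf]; ring⟩
  have ha' : a ∈ maximalIdeal B := (mem_maximalIdeal a).2 ha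
  have hc' : c ∈ maximalIdeal B := (mem_maximalIdeal c).2 hc
  have hb : IsUnit b := by
    by_contra hb
    refine (mem_maximalIdeal _).1 (sub_mem ?_ ?_) hD
    · exact Ideal.mul_mem_left _ _ hc'
    · exact Ideal.pow_mem_of_mem _ ((mem_maximalIdeal b).2 hb) 2 two_pos
  refine ⟨x, y - x, a + b + c, b + 2 * c, c, ?_, ?_, ?_, by simp only [qf]; ring⟩
  · refine le_antisymm ?_ ?_ <;> rw [Ideal.span_le]
    · rintro _ (rfl | rfl)
      · exact Ideal.subset_span (Or.inl rfl)
      · exact sub_mem (Ideal.subset_span (Or.inr rfl)) (Ideal.subset_span (Or.inl rfl))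
    · rintro _ (rfl | rfl)
      · exact Ideal.subset_span (Or.inl rfl)
      · exact Ideal.mem_span_pair.2 ⟨1, 1, by ring⟩
  · rw [show a + b + c = b + (a + c) by ring]
    exact isUnit_add_of_mem hb (add_mem ha' hc')
  · convert hD using 1; ring

/-- An element of the kernel onto a flat algebra which lies in `pL` lies in `p` times the kernel. -/
theorem mem_smul_ker_of_flat {R L B : Type u} [CommRing R] [CommRing L] [CommRing B] [Algebra R L] [Algebra R B]
    [Module.Flat R B] (φ : L →ₐ[R] B) (hφ : Function.Surjective φ) (p : Ideal R) {j : L} (hj : φ j = 0)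
    (hjp : j ∈ p.map (algebraMap R L)) : j ∈ p.map (algebraMap R L) * RingHom.ker φ := by
  rw [Ideal.map] at hjp
  obtain ⟨n, f, g, rfl⟩ := (Submodule.mem_span_set'.1 hjp)
  choose r hr hr' using fun i => (g i).2
  have h0 : ∑ i, r i • φ (f i) = 0 := by
    rw [← hj, map_sum]
    refine Finset.sum_congr rfl fun i _ => ?_
    rw [← hr' i, smul_eq_mul, map_mul, AlgHom.commutes, Algebra.smul_def, mul_comm]
  obtain ⟨k, c, y, hy, hc⟩ := Module.Flat.isTrivialRelation_of_sum_smul_eq_zero (R := R) (M := B) (f := r) (x := fun i => φ (f i)) h0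
  choose y' hy' using fun l => hφ (y l)
  have hsum : ∀ i, f i = (f i - ∑ l, c i l • y' l) + ∑ l, c i l • y' l := fun i => (sub_add_cancel _ _).symm
  have hk : ∀ i, f i - ∑ l, c i l • y' l ∈ RingHom.ker φ := fun i => by
    rw [RingHom.mem_ker, map_sub, map_sum, sub_eq_zero, show φ (f i) = _ from hy i]
    simp [hy']
  have : ∑ i, f i • (g i : L) = ∑ i, algebraMap R L (r i) * (f i - ∑ l, c i l • y' l) := by
    simp only [smul_eq_mul, ← hr', mul_sub, Finset.sum_sub_distrib]
    have h2 : ∑ i, algebraMap R L (r i) * ∑ l, c i l • y' l = 0 := by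
      simp only [Finset.mul_sum, ← Algebra.smul_def, smul_smul]
      rw [Finset.sum_comm]
      refine Finset.sum_eq_zero fun l _ => ?_
      rw [← Finset.sum_smul, hc l, zero_smul]
    rw [h2, sub_zero]
    exact Finset.sum_congr rfl fun i _ => mul_comm _ _
  rw [this]
  exact Submodule.sum_mem _ fun i _ => Ideal.mul_mem_mul (Ideal.mem_map_of_mem _ (hr i)) (hk i)

end Groth.L21.Nodal
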