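import Groth.Agent.L21.Nodal.EtaleModel
import Groth.Agent.L21.Nodal.QuadNode
import Groth.Agent.L21.Nodal.BaseChange
import Groth.Agent.S1631
import Mathlib.RingTheory.KrullDimension.NonZeroDivisors
import Mathlib.RingTheory.KrullDimension.Polynomial
import Mathlib.AlgebraicGeometry.Morphisms.Smooth
import Mathlib.Algebra.MvPolynomial.Division
import Mathlib.RingTheory.LocalProperties.Reduced

/-! The curve `st + d = 0` over a field. -/

set_option autoImplicit false
universe u

open CategoryTheory CategoryTheory.Limits AlgebraicGeometry IsLocalRing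

attribute [local instance] Curv2.resAlgebra Curv2.stalkAlgebra

noncomputable section

namespace Groth.L21.Nodal

variable {K : Type u} [Field K] (d : K)

/-- The coordinates of the node model. -/
def coord (i : Fin 2) : NodeModel K d := Ideal.Quotient.mk _ (MvPolynomial.X i)

theorem coord_rel : coord d 0 * coord d 1 + algebraMap K (NodeModel K d) d = 0 :=
  Ideal.Quotient.eq_zero_iff_mem.2 (Ideal.mem_span_singleton_self _)

/-- The chart where one coordinate is invertible, as a punctured line. -/
theorem exists_chart_equiv (i j : Fin 2) (hij : i ≠ j) :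
    Nonempty (Localization.Away (Polynomial.X : Polynomial K) ≃ₐ[K] Localization.Away (coord d i)) := by
  let S := NodeModel K d
  let si := coord d i
  let T := Localization.Away (Polynomial.X : Polynomial K)
  let Si := Localization.Away si
  have hrel : si * coord d j + algebraMap K S d = 0 := by
    have h := coord_rel d
    fin_cases i <;> fin_cases j
    · exact absurd rfl hij
    · exact h
    · exact (congrArg (· + _) (mul_comm _ _)).trans h
    · exact absurd rfl hij
  have hu : IsUnit (Polynomial.aeval (algebraMap S Si si) (Polynomial.X : Polynomial K)) := by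
    rw [Polynomial.aeval_X]; exact IsLocalization.Away.algebraMap_isUnit si
  let F : T →ₐ[K] Si := IsLocalization.Away.liftAlgHom (Polynomial.X : Polynomial K)
    (f := Polynomial.aeval (algebraMap S Si si)) hu
  have hF : ∀ z, F (algebraMap (Polynomial K) T z) = Polynomial.aeval (algebraMap S Si si) z :=
    fun z => IsLocalization.Away.lift_eq (Polynomial.X : Polynomial K) hu z
  obtain ⟨xi, hxi⟩ : ∃ xi, algebraMap (Polynomial K) T Polynomial.X * xi = 1 :=
    (IsLocalization.Away.algebraMap_isUnit (Polynomial.X : Polynomial K)).exists_right_inv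
  let v : Fin 2 → T := fun l => if l = i then algebraMap (Polynomial K) T Polynomial.X else -(algebraMap K T d * xi)
  let G₀ : S →ₐ[K] T := Ideal.Quotient.liftₐ _ (MvPolynomial.aeval v) fun z hz => by
    obtain ⟨w, rfl⟩ := Ideal.mem_span_singleton'.1 hz
    rw [map_mul]
    refine mul_eq_zero_of_right _ ?_
    have hv : v 0 * v 1 = -algebraMap K T d := by
      fin_cases i <;> fin_cases j
      · exact absurd rfl hij
      · simp only [v]; simp; linear_combination (-algebraMap K T d) * hxi
      · simp only [v]; simp; linear_combination (-algebraMap K T d) * hxi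
      · exact absurd rfl hij
    rw [map_add, map_mul, MvPolynomial.aeval_X, MvPolynomial.aeval_X, MvPolynomial.aeval_C, hv, neg_add_cancel]
  have hG₀ : ∀ l, G₀ (coord d l) = v l := fun l => by
    show MvPolynomial.aeval v (MvPolynomial.X l) = v l
    rw [MvPolynomial.aeval_X]
  have hsi : IsUnit (G₀ si) := by
    rw [hG₀]
    simp only [v, if_true]
    exact IsUnit.of_mul_eq_one _ hxi
  let G : Si →ₐ[K] T := IsLocalization.Away.liftAlgHom si (f := G₀) hsi
  have hG : ∀ z, G (algebraMap S Si z) = G₀ z := fun z => IsLocalization.Away.lift_eq si hsi z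
  refine ⟨AlgEquiv.ofAlgHom F G ?_ ?_⟩
  · refine IsLocalization.algHom_ext (Submonoid.powers si) (Ideal.Quotient.algHom_ext _ (MvPolynomial.algHom_ext fun l => ?_))
    show F (G (algebraMap S Si (coord d l))) = algebraMap S Si (coord d l)
    rw [hG, hG₀]
    by_cases hl : l = i
    · subst hl
      simp only [v, if_true, hF, Polynomial.aeval_X]
      rfl
    · have hlj : l = j := (by decide : ∀ a b c : Fin 2, a ≠ b → c ≠ a → c = b) i j l hij hl
      subst hlj
      have h1 : F (algebraMap (Polynomial K) T Polynomial.X) * F xi = 1 := by rw [← map_mul, hxi, map_one]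
      rw [hF, Polynomial.aeval_X] at h1
      have h2 := congrArg (algebraMap S Si) hrel
      rw [map_add, map_mul, map_zero, ← IsScalarTower.algebraMap_apply] at h2
      simp only [v, if_neg hl]
      rw [map_neg F, map_mul F, AlgHom.commutes]
      linear_combination (-F xi) * h2 + (algebraMap S Si (coord d l)) * h1
  · refine IsLocalization.algHom_ext (Submonoid.powers (Polynomial.X : Polynomial K)) (Polynomial.algHom_ext ?_)
    show G (F (algebraMap (Polynomial K) T Polynomial.X)) = algebraMap (Polynomial K) T Polynomial.X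
    rw [hF, Polynomial.aeval_X, hG, hG₀]
    simp [v]

theorem smooth_chart (i j : Fin 2) (hij : i ≠ j) : Algebra.Smooth K (Localization.Away (coord d i)) := by
  obtain ⟨e⟩ := exists_chart_equiv d i j hij
  haveI : Algebra.Smooth K (Polynomial K) := {}
  haveI : Algebra.Smooth (Polynomial K) (Localization.Away (Polynomial.X : Polynomial K)) :=
    Algebra.Smooth.of_isLocalization_Away Polynomial.X
  haveI : Algebra.Smooth K (Localization.Away (Polynomial.X : Polynomial K)) :=
    Algebra.Smooth.comp K (Polynomial K) _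
  exact Algebra.Smooth.of_equiv e

theorem exists_lt_of_notMem (i j : Fin 2) (hij : i ≠ j) (m : Ideal (NodeModel K d)) [hm : m.IsMaximal]
    (hi : coord d i ∉ m) : ∃ P : Ideal (NodeModel K d), P.IsPrime ∧ P < m := by
  obtain ⟨e⟩ := exists_chart_equiv d i j hij
  let S := NodeModel K d
  let T := Localization.Away (Polynomial.X : Polynomial K)
  let ψ : S →+* T := e.symm.toRingEquiv.toRingHom.comp (algebraMap S (Localization.Away (coord d i)))
  haveI : IsDomain T := IsLocalization.isDomain_localization
    (powers_le_nonZeroDivisors_of_noZeroDivisors Polynomial.X_ne_zero)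
  haveI : (RingHom.ker ψ).IsPrime := RingHom.ker_isPrime ψ
  refine ⟨RingHom.ker ψ, inferInstance, lt_of_le_of_ne (fun z hz => ?_) fun heq => ?_⟩
  · have h1 : algebraMap S (Localization.Away (coord d i)) z = 0 :=
      e.symm.injective (by rw [map_zero]; exact hz)
    obtain ⟨⟨_, n, rfl⟩, hn⟩ := (IsLocalization.map_eq_zero_iff (Submonoid.powers (coord d i)) _ z).1 h1
    exact (hm.isPrime.mem_or_mem (hn ▸ zero_mem m : coord d i ^ n * z ∈ m)).resolve_left
      fun h => hi (hm.isPrime.mem_of_pow_mem n h)
  · let ev : T →+* K := IsLocalization.Away.lift (Polynomial.X : Polynomial K)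
      (g := Polynomial.evalRingHom 1) (by simp)
    let z : T := algebraMap (Polynomial K) T (Polynomial.X - 1)
    have hz0 : z ≠ 0 := fun h => by
      have h' := (IsLocalization.injective T (powers_le_nonZeroDivisors_of_noZeroDivisors Polynomial.X_ne_zero))
        (h.trans (map_zero _).symm)
      exact Polynomial.X_sub_C_ne_zero (1 : K) (by rw [Polynomial.C_1]; exact h')
    have hkill : ∀ w ∈ m, ψ w = 0 := fun w hw => RingHom.mem_ker.1 (heq ▸ hw)
    -- the inverse of the invertible coordinate comes from the ring itself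
    obtain ⟨u, m', hm', hu⟩ := hm.exists_inv hi
    have hui : ψ u * ψ (coord d i) = 1 := by
      rw [← map_mul, ← map_one ψ, ← hu, map_add, hkill m' hm', add_zero]
    obtain ⟨a, n, ha⟩ : ∃ (a : S) (n : ℕ), z * ψ (coord d i) ^ n = ψ a := by
      obtain ⟨⟨a, _, n, rfl⟩, ha⟩ := IsLocalization.surj (Submonoid.powers (coord d i)) (e z)
      exact ⟨a, n, e.injective (by simpa [ψ] using ha)⟩
    have hza : z = ψ (a * u ^ n) := by
      rw [map_mul, map_pow, ← ha, mul_assoc, ← mul_pow, mul_comm (ψ _) (ψ u), hui, one_pow, mul_one]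
    by_cases hw : a * u ^ n ∈ m
    · exact hz0 (hza ▸ hkill _ hw)
    · obtain ⟨v, m'', hm'', hv⟩ := hm.exists_inv hw
      have hvz : ψ v * z = 1 := by rw [hza, ← map_mul, ← map_one ψ, ← hv, map_add, hkill m'' hm'', add_zero]
      have h1 := congrArg ev hvz
      rw [map_mul, map_one, show ev z = 0 from (IsLocalization.Away.lift_eq (Polynomial.X : Polynomial K) _ _).trans
        (by simp), mul_zero] at h1
      exact zero_ne_one h1

theorem exists_lt_origin (hd : d = 0) (m : Ideal (NodeModel K d)) (h1 : coord d 1 ∈ m) (hs : coord d 0 ∈ m) :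
    ∃ P : Ideal (NodeModel K d), P.IsPrime ∧ P < m := by
  let π : NodeModel K d →+* Polynomial K := (Ideal.Quotient.liftₐ _
      (MvPolynomial.aeval ![(0 : Polynomial K), Polynomial.X]) (fun z hz => by
        obtain ⟨w, rfl⟩ := Ideal.mem_span_singleton'.1 hz
        simp [hd])).toRingHom
  have hπ : ∀ w : MvPolynomial (Fin 2) K,
      π (Ideal.Quotient.mk _ w) = MvPolynomial.aeval ![(0 : Polynomial K), Polynomial.X] w := fun w => rfl
  haveI : (RingHom.ker π).IsPrime := RingHom.ker_isPrime π
  have hker : RingHom.ker π ≤ Ideal.span {coord d 0} := fun z hz => by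
    obtain ⟨w, rfl⟩ := Ideal.Quotient.mk_surjective z
    -- split off the part free of the first coordinate
    have key : w - Polynomial.aeval (MvPolynomial.X 1 : MvPolynomial (Fin 2) K)
        (MvPolynomial.aeval ![(0 : Polynomial K), Polynomial.X] w) ∈
        Ideal.span {(MvPolynomial.X 0 : MvPolynomial (Fin 2) K)} := by
      rw [← Ideal.Quotient.eq]
      refine DFunLike.congr_fun (f := Ideal.Quotient.mkₐ K _)
        (g := ((Ideal.Quotient.mkₐ K _).comp (Polynomial.aeval (MvPolynomial.X 1 : MvPolynomial (Fin 2) K))).comp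
          (MvPolynomial.aeval ![(0 : Polynomial K), Polynomial.X])) (MvPolynomial.algHom_ext fun l => ?_) w
      fin_cases l
      · simpa using Ideal.Quotient.eq_zero_iff_mem.2 (Ideal.mem_span_singleton_self (MvPolynomial.X 0 : MvPolynomial (Fin 2) K))
      · simp
    rw [show MvPolynomial.aeval ![(0 : Polynomial K), Polynomial.X] w = 0 from hz, map_zero, sub_zero] at key
    have := Ideal.mem_map_of_mem (Ideal.Quotient.mk (Ideal.span
      {(MvPolynomial.X 0 * MvPolynomial.X 1 + MvPolynomial.C d : MvPolynomial (Fin 2) K)})) key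
    rwa [Ideal.map_span, Set.image_singleton] at this
  refine ⟨RingHom.ker π, inferInstance,
    lt_of_le_of_ne (hker.trans ((Ideal.span_singleton_le_iff_mem m).2 hs)) fun heq => ?_⟩
  have h2 : π (coord d 1) = 0 := RingHom.mem_ker.1 (heq ▸ h1)
  rw [coord, hπ, MvPolynomial.aeval_X] at h2
  exact Polynomial.X_ne_zero h2

/-- The node model as a scheme over the field. -/
abbrev modelScheme : Scheme.{u} := Spec (CommRingCat.of (NodeModel K d))

instance : (modelScheme d).Over (Spec (CommRingCat.of K)) :=
  ⟨Spec.map (CommRingCat.ofHom (algebraMap K (NodeModel K d)))⟩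

instance : LocallyOfFiniteType (modelScheme d ↘ Spec (CommRingCat.of K)) :=
  (HasRingHomProperty.Spec_iff (P := @LocallyOfFiniteType)).2
    (RingHom.finiteType_algebraMap.2 inferInstance)

theorem isMaximal_of_isClosed {y : modelScheme d} (hy : IsClosed ({y} : Set (modelScheme d))) : y.asIdeal.IsMaximal :=
  (PrimeSpectrum.isClosed_singleton_iff_isMaximal y).1 hy

theorem curveLike_model : CurveLike (modelScheme d) := by
  have hdim : topologicalKrullDim (modelScheme d) ≤ 1 := by
    show topologicalKrullDim (PrimeSpectrum (NodeModel K d)) ≤ 1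
    rw [PrimeSpectrum.topologicalKrullDim_eq_ringKrullDim]
    have h0 : (MvPolynomial.X 0 * MvPolynomial.X 1 + MvPolynomial.C d : MvPolynomial (Fin 2) K) ≠ 0 := fun h => by
      have := congrArg (MvPolynomial.coeff (Finsupp.single (0 : Fin 2) 1 + Finsupp.single 1 1)) h
      rw [MvPolynomial.coeff_add, MvPolynomial.coeff_C, MvPolynomial.coeff_zero,
        show (MvPolynomial.X 0 * MvPolynomial.X 1 : MvPolynomial (Fin 2) K) =
          MvPolynomial.monomial (Finsupp.single 0 1 + Finsupp.single 1 1) 1 by
          simp [MvPolynomial.X, MvPolynomial.monomial_mul],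
        MvPolynomial.coeff_monomial, if_pos rfl, if_neg] at this
      · simp at this
      · intro e
        have := DFunLike.congr_fun e 0
        simp at this
    have h1 := ringKrullDim_quotient_succ_le_of_nonZeroDivisor (mem_nonZeroDivisors_of_ne_zero h0)
    rw [MvPolynomial.ringKrullDim_of_isNoetherianRing, ringKrullDim_eq_zero_of_field, zero_add, Nat.card_eq_fintype_card, Fintype.card_fin] at h1
    change ringKrullDim (NodeModel K d) + 1 ≤ _ at h1
    generalize ringKrullDim (NodeModel K d) = D at h1 ⊢
    cases D with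
    | bot => exact bot_le
    | coe n =>
      cases n with
      | top =>
        rw [← WithBot.coe_one, ← WithBot.coe_add, top_add] at h1
        exact absurd (WithBot.coe_le_coe.1 (h1.trans_eq (WithBot.coe_natCast 2).symm)) (ENat.coe_lt_top 2).not_ge
      | coe n =>
        have h2 : ((n : ℕ∞) + 1) ≤ 2 := WithBot.coe_le_coe.1 h1
        have h3 : n + 1 ≤ 2 := by exact_mod_cast h2
        exact_mod_cast (show n ≤ 1 by omega)
  refine ⟨fun a b c hab hbc => eq_or_eq_of_topologicalKrullDim_le_one hdim hab hbc, fun y hy => ?_⟩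
  haveI := isMaximal_of_isClosed d hy
  suffices h : ∃ P : Ideal (NodeModel K d), P.IsPrime ∧ P < y.asIdeal by
    obtain ⟨P, hP, hlt⟩ := h
    exact ⟨⟨P, hP⟩, fun e => hlt.ne (congrArg PrimeSpectrum.asIdeal e),
      (PrimeSpectrum.le_iff_specializes ⟨P, hP⟩ y).1 hlt.le⟩
  by_cases h0 : coord d 0 ∈ y.asIdeal
  · by_cases h1 : coord d 1 ∈ y.asIdeal
    · refine exists_lt_origin d ?_ y.asIdeal h1 h0
      by_contra hd
      have h2 := sub_mem (coord_rel d ▸ zero_mem y.asIdeal : coord d 0 * coord d 1 + algebraMap K (NodeModel K d) d ∈ y.asIdeal)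
        (Ideal.mul_mem_right (coord d 1) _ h0)
      rw [add_sub_cancel_left] at h2
      exact y.isPrime.ne_top (Ideal.eq_top_of_isUnit_mem _ h2 ((IsUnit.mk0 d hd).map _))
    · exact exists_lt_of_notMem d 1 0 (by decide) y.asIdeal h1
  · exact exists_lt_of_notMem d 0 1 (by decide) y.asIdeal h0

theorem isReduced_model_zero (hd : d = 0) : _root_.IsReduced (NodeModel K d) := by
  subst hd
  refine (Ideal.isRadical_iff_quotient_reduced _).1 fun w hw => ?_
  obtain ⟨n, hn⟩ := hw
  have hx : ∀ i : Fin 2, (MvPolynomial.X i : MvPolynomial (Fin 2) K) ∣ w := fun i => by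
    refine (MvPolynomial.X_prime (R := K) (i := i)).dvd_of_dvd_pow (n := n) ?_
    refine dvd_trans ?_ (Ideal.mem_span_singleton.1 hn)
    simp only [map_zero, add_zero]
    fin_cases i
    · exact dvd_mul_right _ _
    · exact dvd_mul_left _ _
  rw [Ideal.mem_span_singleton, map_zero, add_zero]
  obtain ⟨v, rfl⟩ := hx 0
  rcases (MvPolynomial.X_prime (R := K) (i := (1 : Fin 2))).dvd_mul.1 (hx 1) with h | h
  · exfalso
    obtain ⟨r, hr⟩ := h
    have := congrArg (MvPolynomial.eval ![(1 : K), 0]) hr
    simp at this
  · exact mul_dvd_mul_left _ h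

theorem isNode_origin (hd : d = 0) (y : modelScheme d) (hy : IsClosed ({y} : Set (modelScheme d)))
    (h0 : coord d 0 ∈ y.asIdeal) (h1 : coord d 1 ∈ y.asIdeal) : Curv2.IsNode K (modelScheme d) y := by
  let S := NodeModel K d
  haveI := isMaximal_of_isClosed d hy
  let L := (modelScheme d).presheaf.stalk y
  haveI : IsLocallyNoetherian (modelScheme d) :=
    LocallyOfFiniteType.isLocallyNoetherian (modelScheme d ↘ Spec (CommRingCat.of K))
  let g₀ : CommRingCat.of S ⟶ L :=
    (Scheme.ΓSpecIso (CommRingCat.of S)).inv ≫ (modelScheme d).presheaf.germ ⊤ y trivial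
  letI algL : Algebra S L := g₀.hom.toAlgebra
  haveI : IsLocalization.AtPrime L y.asIdeal := StructureSheaf.IsLocalization.to_stalk (R := S) y
  have halg : ∀ t : K, algebraMap K L t = algebraMap S L (algebraMap K S t) := fun t => by
    show (modelScheme d).presheaf.germ ⊤ y trivial
      ((Spec.map (CommRingCat.ofHom (algebraMap K S))).appTop ((Scheme.ΓSpecIso (CommRingCat.of K)).inv t)) = _
    have h := Scheme.ΓSpecIso_inv_naturality (CommRingCat.ofHom (algebraMap K S))
    exact congrArg (fun z => (modelScheme d).presheaf.germ ⊤ y trivial z) (ConcreteCategory.congr_hom h t).symm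
  have hm : maximalIdeal L = y.asIdeal.map (algebraMap S L) :=
    (IsLocalization.AtPrime.map_eq_maximalIdeal _ _).symm
  let ev : MvPolynomial (Fin 2) K →+* K := MvPolynomial.eval ![(0 : K), 0]
  have hevm : ∀ w, ev w = 0 ↔ Ideal.Quotient.mk _ w ∈ y.asIdeal := by
    have hdiff : ∀ w, Ideal.Quotient.mk _ w - algebraMap K S (ev w) ∈ Ideal.span {coord d 0, coord d 1} := fun w => by
      rw [← Ideal.Quotient.eq]
      refine DFunLike.congr_fun (f := (Ideal.Quotient.mk (Ideal.span {coord d 0, coord d 1})).comp (Ideal.Quotient.mk _))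
        (g := ((Ideal.Quotient.mk (Ideal.span {coord d 0, coord d 1})).comp (algebraMap K S)).comp ev)
        (MvPolynomial.ringHom_ext (fun r => by simp [ev]; rfl) fun i => ?_) w
      have hz : Ideal.Quotient.mk (Ideal.span {coord d 0, coord d 1}) (coord d i) = 0 :=
        Ideal.Quotient.eq_zero_iff_mem.2 (Ideal.subset_span (by fin_cases i <;> simp))
      simp only [RingHom.comp_apply]
      rw [show ev (MvPolynomial.X i) = 0 by fin_cases i <;> simp [ev]]
      rw [map_zero, map_zero]
      exact hz
    have hle : Ideal.span {coord d 0, coord d 1} ≤ y.asIdeal := by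
      rw [Ideal.span_le]; rintro _ (rfl | rfl) <;> assumption
    intro w
    refine ⟨fun h => ?_, fun h => by_contra fun hne => ?_⟩
    · have := hle (hdiff w)
      rwa [h, map_zero, sub_zero] at this
    · have := sub_mem h (hle (hdiff w))
      rw [sub_sub_cancel] at this
      exact y.isPrime.ne_top (Ideal.eq_top_of_isUnit_mem _ this ((IsUnit.mk0 _ hne).map _))
  have hspan : y.asIdeal = Ideal.span {coord d 0, coord d 1} := by
    refine le_antisymm (fun z hz => ?_) (by rw [Ideal.span_le]; rintro _ (rfl | rfl) <;> assumption)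
    obtain ⟨w, rfl⟩ := Ideal.Quotient.mk_surjective z
    have hw := (hevm w).2 hz
    have hdiff : w - MvPolynomial.C (ev w) ∈ Ideal.span {(MvPolynomial.X 0 : MvPolynomial (Fin 2) K), MvPolynomial.X 1} := by
      rw [← Ideal.Quotient.eq]
      refine DFunLike.congr_fun (f := Ideal.Quotient.mk (Ideal.span {(MvPolynomial.X 0 : MvPolynomial (Fin 2) K), MvPolynomial.X 1}))
        (g := ((Ideal.Quotient.mk _).comp MvPolynomial.C).comp ev) (MvPolynomial.ringHom_ext (fun r => by simp [ev]) fun i => ?_) w
      rw [Ideal.Quotient.eq_zero_iff_mem.2 (Ideal.subset_span (by fin_cases i <;> simp))]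
      fin_cases i <;> simp [ev]
    rw [hw, map_zero, sub_zero] at hdiff
    have := Ideal.mem_map_of_mem (Ideal.Quotient.mk (Ideal.span
      {(MvPolynomial.X 0 * MvPolynomial.X 1 + MvPolynomial.C d : MvPolynomial (Fin 2) K)})) hdiff
    rwa [Ideal.map_span, Set.image_pair] at this
  haveI : Algebra.IsSeparable K (IsLocalRing.ResidueField L) := by
    let e : K →+* IsLocalRing.ResidueField L := algebraMap K _
    have hs : Function.Surjective e := fun z => by
      obtain ⟨z, rfl⟩ := IsLocalRing.residue_surjective z
      obtain ⟨a, b, rfl⟩ := IsLocalization.exists_mk'_eq y.asIdeal.primeCompl z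
      obtain ⟨a', rfl⟩ := Ideal.Quotient.mk_surjective a
      obtain ⟨b', hb'⟩ := Ideal.Quotient.mk_surjective (b : S)
      have hb : ev b' ≠ 0 := fun h => b.2 (hb' ▸ (hevm b').1 h)
      refine ⟨ev a' / ev b', ?_⟩
      have hres : ∀ w, IsLocalRing.residue L (algebraMap S L (Ideal.Quotient.mk _ w)) = e (ev w) := fun w => by
        show _ = IsLocalRing.residue L (algebraMap K L (ev w))
        rw [halg, ← sub_eq_zero, ← map_sub, ← map_sub, IsLocalRing.residue_eq_zero_iff,
          IsLocalization.AtPrime.to_map_mem_maximal_iff L y.asIdeal]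
        rw [show algebraMap K S (ev w) = Ideal.Quotient.mk _ (MvPolynomial.C (ev w)) from rfl, ← map_sub, ← hevm]
        simp [ev]
      rw [map_div₀, ← hres, ← hres, div_eq_iff, ← map_mul, hb', IsLocalization.mk'_spec]
      rw [hres]
      exact (map_ne_zero e).2 hb
    let e' : K ≃ₐ[K] IsLocalRing.ResidueField L :=
      AlgEquiv.ofBijective (Algebra.ofId K _) ⟨e.injective, hs⟩
    exact Algebra.IsSeparable.of_algHom K K e'.symm.toAlgHom
  haveI : _root_.IsReduced L := by
    haveI := isReduced_model_zero d hd
    exact isReduced_localizationPreserves y.asIdeal.primeCompl L inferInstance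
  let x := algebraMap S L (coord d 0)
  let z := algebraMap S L (coord d 1)
  have hgen : Ideal.span {x, z} = maximalIdeal L := by
    rw [hm, hspan, Ideal.map_span, Set.image_pair]
  have hxz : x * z = 0 := by
    have h := congrArg (algebraMap S L) (coord_rel d)
    rw [map_add, map_mul, map_zero, ← halg] at h
    have hz : algebraMap K L d = 0 := by rw [show algebraMap K L d = algebraMap K L 0 from congrArg _ hd, map_zero]
    rwa [hz, add_zero] at h
  have hnp : ¬ (maximalIdeal L).IsPrincipal := by
    have hnd : ∀ i j : Fin 2, i ≠ j → ¬ ∃ w : L, algebraMap S L (coord d i) = algebraMap S L (coord d j) * w := by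
      rintro i j hij ⟨w, hw⟩
      obtain ⟨a, b, rfl⟩ := IsLocalization.exists_mk'_eq y.asIdeal.primeCompl w
      have h2 : algebraMap S L (coord d i * b) = algebraMap S L (coord d j * a) := by
        rw [map_mul, map_mul, hw, mul_assoc, IsLocalization.mk'_spec]
      obtain ⟨c, hc⟩ := (IsLocalization.eq_iff_exists y.asIdeal.primeCompl L).1 h2
      let ρ : S →+* Polynomial K := (Ideal.Quotient.liftₐ _
        (MvPolynomial.aeval (fun l => if l = i then Polynomial.X else 0)) (fun v hv => by
          obtain ⟨v', rfl⟩ := Ideal.mem_span_singleton'.1 hv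
          fin_cases i <;> fin_cases j <;> simp [hd] at hij ⊢)).toRingHom
      have hρi : ρ (coord d i) = Polynomial.X := by
        show MvPolynomial.aeval _ (MvPolynomial.X i) = _
        simp
      have hρj : ρ (coord d j) = 0 := by
        show MvPolynomial.aeval _ (MvPolynomial.X j) = _
        simp [hij.symm]
      have hρ0 : ∀ v : S, v ∉ y.asIdeal → ρ v ≠ 0 := fun v hv hρ => by
        obtain ⟨v', rfl⟩ := Ideal.Quotient.mk_surjective v
        refine hv ((hevm v').1 ?_)
        have h3 := congrArg (Polynomial.eval 0) (show MvPolynomial.aeval _ v' = 0 from hρ)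
        rw [Polynomial.eval_zero] at h3
        rw [← h3]
        refine DFunLike.congr_fun (f := ev) (g := (Polynomial.evalRingHom 0).comp
          (MvPolynomial.aeval (fun l => if l = i then (Polynomial.X : Polynomial K) else 0)).toRingHom)
          (MvPolynomial.ringHom_ext (fun r => by simp [ev]) fun l => ?_) v'
        fin_cases l <;> fin_cases i <;> simp [ev]
      have h3 := congrArg ρ hc
      rw [map_mul, map_mul, map_mul, map_mul, hρi, hρj, zero_mul, mul_zero] at h3
      rcases mul_eq_zero.1 h3 with h | h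
      · exact hρ0 _ c.2 h
      · exact hρ0 _ b.2 ((mul_eq_zero.1 h).resolve_left Polynomial.X_ne_zero)
    rintro ⟨g, hg⟩
    change maximalIdeal L = Ideal.span {g} at hg
    obtain ⟨α, hα⟩ := Ideal.mem_span_singleton'.1 (hg ▸ hgen ▸ Ideal.subset_span (Or.inl rfl) : x ∈ Ideal.span {g})
    obtain ⟨β, hβ⟩ := Ideal.mem_span_singleton'.1 (hg ▸ hgen ▸ Ideal.subset_span (Or.inr rfl) : z ∈ Ideal.span {g})
    obtain ⟨γ, δ, hγ⟩ := Ideal.mem_span_pair.1 (hgen.symm ▸ hg.symm ▸ Ideal.mem_span_singleton_self g : g ∈ Ideal.span {x, z})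
    have hg0 : g ≠ 0 := fun e => hnd 0 1 (by decide) ⟨0, by
      show x = z * 0
      rw [← hα, e, mul_zero, mul_zero]⟩
    by_cases hu : IsUnit α
    · obtain ⟨ai, hai⟩ := hu.exists_left_inv
      exact hnd 1 0 (by decide) ⟨β * ai, by
        show z = x * (β * ai)
        linear_combination -hβ + (β * ai) * hα - (β * g) * hai⟩
    · by_cases hu' : IsUnit β
      · obtain ⟨bi, hbi⟩ := hu'.exists_left_inv
        exact hnd 0 1 (by decide) ⟨α * bi, by
          show x = z * (α * bi)
          linear_combination -hα + (α * bi) * hβ - (α * g) * hbi⟩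
      · refine hg0 ?_
        have hmem : γ * α + δ * β ∈ maximalIdeal L :=
          add_mem (Ideal.mul_mem_left _ _ ((mem_maximalIdeal α).2 hu)) (Ideal.mul_mem_left _ _ ((mem_maximalIdeal β).2 hu'))
        have h4 : (1 - (γ * α + δ * β)) * g = 0 := by linear_combination -hγ + (-γ) * hα + (-δ) * hβ
        exact ((IsLocalRing.isUnit_one_sub_self_of_mem_nonunits _ hmem).mul_right_eq_zero).1 h4
  refine (isNode_iff_quad y hy).2 ((Groth.Agent.S1631.result K L).1 ⟨inferInstance, inferInstance, ?_,
    x, z, 0, 1, 0, hgen ▸ Ideal.subset_span (Or.inl rfl), hgen ▸ Ideal.subset_span (Or.inr rfl), ?_, ?_, ?_⟩)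
  · refine le_antisymm ?_ ?_
    · rw [← IsLocalRing.spanFinrank_maximalIdeal_eq_finrank_cotangentSpace, ← hgen]
      refine (Submodule.spanFinrank_span_le_ncard_of_finite (Set.toFinite _)).trans ?_
      exact (Set.ncard_insert_le _ _).trans (by simp)
    · by_contra h
      exact hnp (IsLocalRing.finrank_cotangentSpace_le_one_iff.1 (by omega))
  · rw [hgen, sup_eq_left]
    exact Ideal.pow_le_self two_ne_zero
  · rw [IsLocalRing.residue_ne_zero_iff_isUnit]
    simp
  · simp [hxz]

theorem atWorstNodal_model : Curv2.AtWorstNodal K (modelScheme d) := by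
  intro y hy
  have smooth_case : ∀ i j : Fin 2, i ≠ j → coord d i ∉ y.asIdeal →
      ∃ U : (modelScheme d).Opens, y ∈ U ∧ Smooth (U.ι ≫ (modelScheme d ↘ Spec (CommRingCat.of K))) := by
    intro i j hij hi
    let S := NodeModel K d
    let Si := Localization.Away (coord d i)
    let o : Spec (CommRingCat.of Si) ⟶ modelScheme d := Spec.map (CommRingCat.ofHom (algebraMap S Si))
    haveI : IsOpenImmersion o := IsOpenImmersion.of_isLocalization (coord d i)
    have hsm : Smooth (o ≫ (modelScheme d ↘ Spec (CommRingCat.of K))) := by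
      show Smooth (o ≫ Spec.map (CommRingCat.ofHom (algebraMap K S)))
      rw [← Spec.map_comp]
      refine (HasRingHomProperty.Spec_iff (P := @Smooth)).2 ?_
      show RingHom.Smooth ((algebraMap S Si).comp (algebraMap K S))
      rw [← IsScalarTower.algebraMap_eq]
      exact RingHom.smooth_algebraMap.2 (smooth_chart d i j hij)
    have hmem : y ∈ Set.range o := by
      show y ∈ Set.range (PrimeSpectrum.comap (algebraMap S Si))
      rw [PrimeSpectrum.localization_away_comap_range Si (coord d i)]
      exact hi
    obtain ⟨z, hz⟩ := hmem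
    refine ⟨o.opensRange, ⟨z, hz⟩, ?_⟩
    rw [← Scheme.Hom.isoOpensRange_inv_comp o, Category.assoc]
    infer_instance
  by_cases h0 : coord d 0 ∈ y.asIdeal
  · by_cases h1 : coord d 1 ∈ y.asIdeal
    · refine Or.inr (isNode_origin d ?_ y hy h0 h1)
      by_contra hd
      have h2 := sub_mem (coord_rel d ▸ zero_mem y.asIdeal : coord d 0 * coord d 1 + algebraMap K (NodeModel K d) d ∈ y.asIdeal)
        (Ideal.mul_mem_right (coord d 1) _ h0)
      rw [add_sub_cancel_left] at h2
      exact y.isPrime.ne_top (Ideal.eq_top_of_isUnit_mem _ h2 ((IsUnit.mk0 d hd).map _))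
    · exact Or.inl (smooth_case 1 0 (by decide) h1)
  · exact Or.inl (smooth_case 0 1 (by decide) h0)

end Groth.L21.Nodal
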