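import Groth.Agent.L21.Nodal.EtaleStructure
import Groth.Agent.L21.Nodal.ModelFibre
import Groth.Agent.L21.Nodal.PostEtale
import Groth.Agent.L21.Nodal.EtaleLocal
import Groth.Agent.L21.Nodal.FamilyBaseChange
import Groth.Agent.L05.Point.Crit

/-! The nodal locus of a flat family is open. -/

set_option autoImplicit false
universe u

open CategoryTheory CategoryTheory.Limits AlgebraicGeometry TopologicalSpace

noncomputable section

namespace Groth.L21.Nodal

/-- The fibres of a node model are node models. -/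
theorem isPullback_model (C K : Type u) [CommRing C] [Field K] (φ : C →+* K) (c : C) :
    ∃ ψ : NodeModel C c →+* NodeModel K (φ c),
      IsPullback (Spec.map (CommRingCat.ofHom ψ)) (modelScheme (φ c) ↘ Spec (CommRingCat.of K))
        (Spec.map (CommRingCat.ofHom (algebraMap C (NodeModel C c)))) (Spec.map (CommRingCat.ofHom φ)) := by
  let ψ₀ : MvPolynomial (Fin 2) C →+* NodeModel K (φ c) :=
    (Ideal.Quotient.mk _).comp (MvPolynomial.map φ)
  let ψ : NodeModel C c →+* NodeModel K (φ c) := Ideal.Quotient.lift _ ψ₀ fun z hz => by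
    obtain ⟨w, rfl⟩ := Ideal.mem_span_singleton'.1 hz
    rw [map_mul]
    refine mul_eq_zero_of_right _ (Ideal.Quotient.eq_zero_iff_mem.2 ?_)
    simp [Ideal.mem_span_singleton_self]
  refine ⟨ψ, isPullback_SpecMap_of_isPushout _ _ _ _ ?_⟩
  have h1 : (CommRingCat.ofHom (baseHom C c)) ≫ CommRingCat.ofHom φ = CommRingCat.ofHom (baseHom K (φ c)) := by
    refine CommRingCat.hom_ext (MvPolynomial.ringHom_ext (fun r => map_C_eq _ _ r) fun i => ?_)
    simp
  have h2 : CommRingCat.ofHom (R := UnivNode.{u}) (S := NodeModel C c) (univHom C c) ≫ CommRingCat.ofHom ψ =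
      CommRingCat.ofHom (R := UnivNode.{u}) (S := NodeModel K (φ c)) (univHom K (φ c)) := by
    refine CommRingCat.hom_ext (Ideal.Quotient.ringHom_ext (MvPolynomial.ringHom_ext (fun r => map_C_eq _ _ r) fun i => ?_))
    show ψ (univHom C c (Ideal.Quotient.mk _ (MvPolynomial.X i))) = univHom K (φ c) (Ideal.Quotient.mk _ (MvPolynomial.X i))
    rw [univHom_mk, univHom_mk, Ideal.Quotient.lift_mk]
    fin_cases i <;> simp [ψ₀]
  refine IsPushout.of_top (h₁₁ := CommRingCat.ofHom (R := MvPolynomial (Fin 1) (ULift.{u} ℤ)) (S := UnivNode.{u}) univBase.{u})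
    (v₁₁ := CommRingCat.ofHom (baseHom C c)) (v₁₂ := CommRingCat.ofHom (R := UnivNode.{u}) (S := NodeModel C c) (univHom C c))
    ?_ ?_ (isPushout_nodeModel C c)
  · rw [h1, h2]
    exact isPushout_nodeModel K (φ c)
  · refine CommRingCat.hom_ext (RingHom.ext fun z => ?_)
    show ψ (Ideal.Quotient.mk _ (MvPolynomial.C z)) = Ideal.Quotient.mk _ (MvPolynomial.C (φ z))
    rw [Ideal.Quotient.lift_mk]
    simp [ψ₀]

theorem flat_of_comp_etale {U V S : Scheme.{u}} (p : U ⟶ V) (g : V ⟶ S) [Etale g] [Flat (p ≫ g)] : Flat p := by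
  let l : U ⟶ pullback (p ≫ g) g := pullback.lift (𝟙 U) p (Category.id_comp _)
  haveI : Etale (l ≫ pullback.fst (p ≫ g) g) := by rw [pullback.lift_fst]; infer_instance
  haveI : Etale l := Etale.of_comp l (pullback.fst (p ≫ g) g)
  rw [← pullback.lift_snd (𝟙 U) p (Category.id_comp _)]
  exact MorphismProperty.comp_mem _ l (pullback.snd (p ≫ g) g) inferInstance inferInstance

/-- A family étale over a node model is nodal. -/
theorem isNodalFamily_of_model {U : Scheme.{u}} {C : CommRingCat.{u}} (c : C) (p : U ⟶ Spec C) [Flat p]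
    (e : U ⟶ Spec (CommRingCat.of (NodeModel C c))) [Etale e]
    (he : e ≫ Spec.map (CommRingCat.ofHom (algebraMap C (NodeModel C c))) = p) : Curv2.IsNodalFamily p := by
  set w := Spec.map (CommRingCat.ofHom (algebraMap C (NodeModel C c))) with hw
  haveI : LocallyOfFinitePresentation w :=
    (HasRingHomProperty.Spec_iff (P := @LocallyOfFinitePresentation)).2
      (RingHom.finitePresentation_algebraMap.2 (Algebra.FinitePresentation.quotient (Submodule.fg_span_singleton _)))
  haveI : LocallyOfFinitePresentation p := he ▸ inferInstance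
  refine ⟨inferInstance, inferInstance, fun s => ?_⟩
  subst he
  obtain ⟨φ, hpb, hφ⟩ := exists_fiberMap w e s
  haveI : Etale φ := MorphismProperty.of_isPullback hpb.flip inferInstance
  let K := (Spec C).residueField s
  let χ := Spec.preimage ((Spec C).fromSpecResidueField s)
  obtain ⟨ψ, hψ⟩ := isPullback_model C K χ.hom c
  rw [show Spec.map (CommRingCat.ofHom χ.hom) = (Spec C).fromSpecResidueField s from Spec.map_preimage _] at hψ
  have hfib : IsPullback (w.fiberι s) (w.fiberToSpecResidueField s) w ((Spec C).fromSpecResidueField s) :=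
    IsPullback.of_hasPullback _ _
  let ι := hfib.isoIsPullback _ _ hψ
  have hι : ι.hom ≫ (modelScheme (χ.hom c) ↘ Spec (CommRingCat.of K)) = w.fiberToSpecResidueField s :=
    hfib.isoIsPullback_hom_snd _ _ hψ
  letI : ((e ≫ w).fiber s).Over (Spec (CommRingCat.of K)) := ⟨(e ≫ w).fiberToSpecResidueField s⟩
  haveI : LocallyOfFiniteType ((e ≫ w).fiber s ↘ Spec (CommRingCat.of K)) :=
    MorphismProperty.pullback_snd _ _ inferInstance
  haveI : JacobsonSpace (modelScheme (χ.hom c)) :=
    LocallyOfFiniteType.jacobsonSpace (modelScheme (χ.hom c) ↘ Spec (CommRingCat.of K))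
  exact ⟨(curveLike_iff _).1 ((curveLike_model (χ.hom c)).of_quasiFinite (φ ≫ ι.hom)),
    atWorstNodal_of_etale (k := K) (φ ≫ ι.hom) (by rw [Category.assoc, hι, hφ]; rfl)
      (atWorstNodal_model (χ.hom c))⟩

/-- Around a node, a flat family is nodal. -/
theorem exists_open_isNodalFamily {X S : Scheme.{u}} (f : X ⟶ S) [Flat f] [LocallyOfFinitePresentation f] (x : X)
    (hx : @Curv2.IsNode (S.residueField (f.base x)) _ (f.fiber (f.base x)) ⟨f.fiberToSpecResidueField (f.base x)⟩
      (f.asFiber x)) :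
    ∃ O : X.Opens, x ∈ O ∧ Curv2.IsNodalFamily (O.ι ≫ f) := by
  obtain ⟨C, c, U, gU, gV, p, e, hgU, hgV, he, hcomm, hep, hxU⟩ := etale_local_structure f x hx
  haveI : Flat (p ≫ gV) := hcomm ▸ inferInstance
  haveI := flat_of_comp_etale p gV
  have hfam : Curv2.IsNodalFamily (gU ≫ f) := hcomm ▸ postcomp_etale gV p (isNodalFamily_of_model c p e hep)
  obtain ⟨O, l, hO, hle, hls, hl⟩ := exists_etale_surjective_image gU ⊤
  refine ⟨O, ?_, ?_⟩
  · show x ∈ (O : Set X)
    rw [hO]
    obtain ⟨u, rfl⟩ := hxU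
    exact ⟨u, trivial, rfl⟩
  · refine of_etale_cover (O.ι ≫ f) (fun _ : PUnit.{1} => _) (fun _ => l) (fun z => ⟨PUnit.unit, hls.surj z⟩) fun _ => ?_
    rw [← Category.assoc, hl, Category.assoc]
    exact comp_etale (gU ≫ f) (Scheme.Opens.ι ⊤) hfam

/-- In a nodal family open in `f`, every point is smooth or a node for `f`. -/
theorem smooth_or_isNode {X S : Scheme.{u}} (f : X ⟶ S) [Flat f] [LocallyOfFinitePresentation f] (O : X.Opens)
    (hO : Curv2.IsNodalFamily (O.ι ≫ f)) (z : X) (hz : z ∈ O) :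
    (∃ U : X.Opens, z ∈ U ∧ Smooth (U.ι ≫ f)) ∨
      @Curv2.IsNode (S.residueField (f.base z)) _ (f.fiber (f.base z)) ⟨f.fiberToSpecResidueField (f.base z)⟩
        (f.asFiber z) := by
  obtain ⟨φ, hpb, hφ⟩ := exists_fiberMap f O.ι (f z)
  haveI : IsOpenImmersion φ := MorphismProperty.of_isPullback hpb.flip inferInstance
  have hrange : f.asFiber z ∈ Set.range φ := by
    obtain ⟨a, ha, -⟩ := Scheme.exists_preimage_of_isPullback hpb (f.asFiber z) ⟨z, hz⟩
      (f.fiberι_asFiber z)
    exact ⟨a, ha⟩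
  obtain ⟨a, ha⟩ := hrange
  letI : (f.fiber (f z)).Over (Spec (CommRingCat.of (S.residueField (f z)))) := ⟨f.fiberToSpecResidueField (f z)⟩
  letI : ((O.ι ≫ f).fiber (f z)).Over (Spec (CommRingCat.of (S.residueField (f z)))) :=
    ⟨(O.ι ≫ f).fiberToSpecResidueField (f z)⟩
  haveI : LocallyOfFiniteType (f.fiber (f z) ↘ Spec (CommRingCat.of (S.residueField (f z)))) :=
    MorphismProperty.pullback_snd _ _ inferInstance
  haveI : LocallyOfFiniteType ((O.ι ≫ f).fiber (f z) ↘ Spec (CommRingCat.of (S.residueField (f z)))) :=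
    MorphismProperty.pullback_snd _ _ inferInstance
  obtain ⟨hcl, hnod⟩ := hO.2.2 (f z)
  have hsmooth : (∃ U : ((O.ι ≫ f).fiber (f z)).Opens, a ∈ U ∧ Smooth (U.ι ≫ (O.ι ≫ f).fiberToSpecResidueField (f z))) →
      ∃ U : X.Opens, z ∈ U ∧ Smooth (U.ι ≫ f) := by
    rintro ⟨U, haU, hU⟩
    refine Groth.L05.Point.nhd_smooth_of_fiber f z (Flat.stalkMap f z) ?_
    rw [← ha]
    refine Groth.L05.Point.nhd_of_openImm (P := @Smooth) (f.fiberToSpecResidueField (f z)) (U.ι ≫ φ) ⟨a, haU⟩ ?_
    rw [Category.assoc, hφ]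
    exact hU
  by_cases hc : IsClosed ({a} : Set ((O.ι ≫ f).fiber (f z)))
  · rcases hnod a hc with h | hn
    · exact Or.inl (hsmooth h)
    · exact Or.inr (ha ▸ isNode_image_of_etale (k := S.residueField (f z)) φ hφ a hn)
  · exact Or.inl (hsmooth (exists_smooth_nhd_of_not_isClosed (k := S.residueField (f z))
      ((curveLike_iff _).2 hcl) hnod a hc))

end Groth.L21.Nodal
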