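import Groth.Agent.L21.Nodal.Reduced
import Groth.Agent.L21.CurvFib.DimExt
import Mathlib.AlgebraicGeometry.Morphisms.Integral

/-! A node of a base change lies over a closed point. -/

set_option autoImplicit false
universe u

open CategoryTheory CategoryTheory.Limits AlgebraicGeometry IsLocalRing TopologicalSpace

noncomputable section

namespace Groth.L21.Nodal

variable {k : Type u} [Field k] {X : Scheme.{u}} [X.Over (Spec (CommRingCat.of k))]
  [LocallyOfFiniteType (X ↘ Spec (CommRingCat.of k))]

theorem isIntegralHom_bcFst (L : Type u) [Field L] [Algebra k L] [Algebra.IsAlgebraic k L] :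
    IsIntegralHom (Curv2.bcFst k X L) := by
  haveI : IsIntegralHom (Spec.map (CommRingCat.ofHom (algebraMap k L))) := by
    rw [IsIntegralHom.SpecMap_iff]
    exact fun z => Algebra.IsIntegral.isIntegral z
  exact MorphismProperty.pullback_fst _ _ inferInstance

variable {K : Type u} [Field K] [Algebra k K] {Y : Scheme.{u}} [Y.Over (Spec (CommRingCat.of K))] (g : Y ⟶ X)
  (hY : IsPullback g (Y ↘ Spec (CommRingCat.of K)) (X ↘ Spec (CommRingCat.of k))
    (Spec.map (CommRingCat.ofHom (algebraMap k K))))

include hY in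
theorem isClosed_image_of_isNode (hdim : topologicalKrullDim X ≤ 1) (y : Y) (hy : Curv2.IsNode K Y y) :
    IsClosed ({g y} : Set X) := by
  by_contra hx
  haveI := locallyOfFiniteType_of_isPullback g hY
  obtain ⟨_, h, hpb, h1⟩ := exists_bcExt g hY
  set q := Curv2.bcSnd k X (AlgebraicClosure k)
  set q' := Curv2.bcSnd K Y (AlgebraicClosure K)
  obtain ⟨yb, hyb⟩ := bcFst_surjective (k := K) (X := Y) (AlgebraicClosure K) y
  have hodp : OdpAt (AlgebraicClosure K) q' yb := odpAt_of_isNode _ y hy yb hyb
  have hzx : Curv2.bcFst k X (AlgebraicClosure k) (h yb) = g y := by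
    rw [← Scheme.Hom.comp_apply, h1, Scheme.Hom.comp_apply, hyb]
  set z := h yb with hz
  have hzc : ¬ IsClosed ({z} : Set _) := fun hc => by
    haveI := isIntegralHom_bcFst (k := k) (X := X) (AlgebraicClosure k)
    have := (Curv2.bcFst k X (AlgebraicClosure k)).isClosedMap _ hc
    rw [Set.image_singleton, hzx] at this
    exact hx this
  haveI : JacobsonSpace (Curv2.bc k X (AlgebraicClosure k)) := LocallyOfFiniteType.jacobsonSpace q
  obtain ⟨w, hzw, hwc⟩ := exists_closed_specialization z
  have hmax : ∀ t, t ⤳ z → t = z := fun t ht => by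
    refine (eq_or_eq_of_topologicalKrullDim_le_one ?_ ht hzw).resolve_right fun e => hzc (e ▸ hwc)
    exact (Groth.L21.CurvFib.topologicalKrullDim_eq_of_isPullback k (AlgebraicClosure k) (X ↘ Spec (CommRingCat.of k))
      _ q (Curv2.bcFst k X _) (IsPullback.of_hasPullback _ _)).le.trans hdim
  haveI : _root_.IsReduced ((Curv2.bc k X (AlgebraicClosure k)).presheaf.stalk z) := by
    haveI := isReduced_of_odpAt q' yb hodp
    haveI : Flat (Spec.map (CommRingCat.ofHom (algebraMap (AlgebraicClosure k) (AlgebraicClosure K)))) := by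
      rw [Flat.SpecMap_iff]
      exact RingHom.flat_algebraMap_iff.mpr inferInstance
    haveI : Flat h := MorphismProperty.of_isPullback hpb.flip inferInstance
    letI := (h.stalkMap yb).hom.toAlgebra
    haveI : Module.Flat ((Curv2.bc k X (AlgebraicClosure k)).presheaf.stalk (h yb))
        ((Curv2.bc K Y (AlgebraicClosure K)).presheaf.stalk yb) := Flat.stalkMap h yb
    haveI : IsLocalHom (algebraMap ((Curv2.bc k X (AlgebraicClosure k)).presheaf.stalk (h yb))
        ((Curv2.bc K Y (AlgebraicClosure K)).presheaf.stalk yb)) :=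
      inferInstanceAs <| IsLocalHom (h.stalkMap yb).hom
    haveI : Module.FaithfullyFlat ((Curv2.bc k X (AlgebraicClosure k)).presheaf.stalk (h yb))
        ((Curv2.bc K Y (AlgebraicClosure K)).presheaf.stalk yb) := Module.FaithfullyFlat.of_flat_of_isLocalHom
    exact isReduced_of_injective _ (FaithfulSMul.algebraMap_injective
      ((Curv2.bc k X (AlgebraicClosure k)).presheaf.stalk (h yb))
      ((Curv2.bc K Y (AlgebraicClosure K)).presheaf.stalk yb))
  obtain ⟨U, hzU, hU⟩ := exists_smooth_nhd_of_maximal q z hmax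
  haveI : Smooth ((h ⁻¹ᵁ U).ι ≫ q') :=
    MorphismProperty.of_isPullback ((isPullback_morphismRestrict h U).paste_vert hpb) hU
  exact not_odpAt_of_mem_smooth q' yb (U := h ⁻¹ᵁ U) hzU hodp

end Groth.L21.Nodal
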