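import Mathlib.FieldTheory.PurelyInseparable.Basic
import Mathlib.FieldTheory.SeparableClosure
import Mathlib.FieldTheory.IsAlgClosed.AlgebraicClosure
import Mathlib.RingTheory.RingHom.Flat
import Mathlib.RingTheory.Etale.Field
import Mathlib.RingTheory.Etale.Basic
import Mathlib.Algebra.CharP.Algebra
import Mathlib.Algebra.CharP.Lemmas

/-! Elements of `A ⊗ k̄` have a power in a finite etale stage. -/

set_option autoImplicit false
universe u

open scoped TensorProduct

namespace Groth.L21.Nodal

variable (k : Type u) [Field k] (F : Type u) [Field F] [Algebra k F] [Algebra.IsAlgebraic k F]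
  (A : Type u) [CommRing A] [Algebra k A]

theorem exists_stage [Nontrivial (A ⊗[k] F)] (t : A ⊗[k] F) :
    ∃ (q : ℕ) (L : IntermediateField k F) (τ : A ⊗[k] L), 0 < q ∧ FiniteDimensional k L ∧ Algebra.IsSeparable k L ∧
      Algebra.TensorProduct.map (AlgHom.id A A) L.val τ = t ^ q := by
  obtain ⟨p, hp⟩ := ExpChar.exists k
  haveI := hp
  haveI : ExpChar F p := expChar_of_injective_ringHom (algebraMap k F).injective p
  haveI : ExpChar (A ⊗[k] F) p :=
    expChar_of_injective_ringHom (algebraMap k (A ⊗[k] F)).injective p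
  suffices ∃ (n : ℕ) (L : IntermediateField k F), FiniteDimensional k L ∧ L ≤ separableClosure k F ∧
      t ^ p ^ n ∈ (Algebra.TensorProduct.map (AlgHom.id A A) L.val).range by
    obtain ⟨n, L, hL, hsep, τ, hτ⟩ := this
    exact ⟨p ^ n, L, τ, pow_pos (expChar_pos k p) n, hL, (le_separableClosure_iff k F L).1 hsep, hτ⟩
  have mono : ∀ {L L' : IntermediateField k F} (h : L ≤ L') (x : A ⊗[k] F),
      x ∈ (Algebra.TensorProduct.map (AlgHom.id A A) L.val).range →
        x ∈ (Algebra.TensorProduct.map (AlgHom.id A A) L'.val).range := by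
    rintro L L' h _ ⟨τ, rfl⟩
    refine ⟨Algebra.TensorProduct.map (AlgHom.id A A) (IntermediateField.inclusion h) τ, ?_⟩
    induction τ with
    | zero => simp
    | add a b ha hb => simp_all [map_add]
    | tmul a c => rfl
  induction t with
  | zero =>
    exact ⟨0, ⊥, inferInstance, bot_le, ⟨0, by simp⟩⟩
  | add a b ha hb =>
    obtain ⟨n, L, hL, hLs, hn⟩ := ha
    obtain ⟨m, L', hL', hLs', hm⟩ := hb
    refine ⟨n + m, L ⊔ L', inferInstance, sup_le hLs hLs', ?_⟩
    rw [add_pow_expChar_pow]
    refine add_mem ?_ ?_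
    · rw [pow_add, pow_mul]
      exact pow_mem (mono le_sup_left _ hn) _
    · rw [pow_add, mul_comm (p ^ n), pow_mul]
      exact pow_mem (mono le_sup_right _ hm) _
  | tmul a c =>
    haveI : ExpChar (separableClosure k F) p :=
      expChar_of_injective_ringHom (algebraMap k (separableClosure k F)).injective p
    obtain ⟨n, w, hw⟩ := IsPurelyInseparable.pow_mem (separableClosure k F) p c
    refine ⟨n, IntermediateField.adjoin k {(w : F)}, ?_, ?_, ?_⟩
    · exact IntermediateField.adjoin.finiteDimensional (Algebra.IsIntegral.isIntegral _)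
    · exact IntermediateField.adjoin_simple_le_iff.2 w.2
    · refine ⟨(a ^ p ^ n) ⊗ₜ[k] (⟨(w : F), IntermediateField.mem_adjoin_simple_self k (w : F)⟩ :
        IntermediateField.adjoin k {(w : F)}), ?_⟩
      rw [Algebra.TensorProduct.tmul_pow]
      exact congrArg (fun z => (a ^ p ^ n) ⊗ₜ[k] z) hw

theorem flat_stage (L : IntermediateField k F) :
    (Algebra.TensorProduct.map (AlgHom.id A A) L.val).Flat := by
  refine RingHom.Flat.tensorProductMap ?_ ?_
  · exact RingHom.Flat.of_bijective Function.bijective_id
  · letI := L.val.toRingHom.toAlgebra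
    exact RingHom.flat_algebraMap_iff.2 (inferInstanceAs (Module.Flat L F))

theorem etale_stage (L : IntermediateField k F) [FiniteDimensional k L] [Algebra.IsSeparable k L] :
    Algebra.Etale A (A ⊗[k] L) := by
  haveI : Algebra.FormallyEtale k L := Algebra.FormallyEtale.of_isSeparable k L
  haveI : Algebra.Etale k L := ⟨inferInstance, Algebra.FinitePresentation.of_finiteType.1 inferInstance⟩
  infer_instance

end Groth.L21.Nodal
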