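import Groth.Agent.L21.Nodal.Unramified
import Groth.Agent.L21.Nodal.Stage
import Mathlib.RingTheory.Unramified.LocalRing
import Mathlib.RingTheory.IntegralClosure.IntegrallyClosed
import Mathlib.RingTheory.Ideal.GoingUp
import Mathlib.RingTheory.Etale.Field
import Mathlib.RingTheory.FiniteStability
import Mathlib.RingTheory.Polynomial.Basic

/-! At a node the maximal ideal of the ground ring generates the maximal ideal upstairs. -/

set_option autoImplicit false
universe u

open IsLocalRing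
open scoped TensorProduct

noncomputable section

namespace Groth.L21.Nodal

section Branches

variable {F : Type u} [Field F] {B : Type u} [CommRing B] [IsLocalRing B] [IsNoetherianRing B]
  (ψ : AdicCompletion (maximalIdeal B) B ≃+* R2 F)

/-- The branch `i` of a local ring with completion `F[[u, v]]/(uv)`. -/
def rho (i : Fin 2) : B →+* PowerSeries F :=
  (branch F i).comp (ψ.toRingHom.comp (algebraMap B (AdicCompletion (maximalIdeal B) B)))

theorem rho_apply (i : Fin 2) (b : B) : rho ψ i b = branch F i (ψ (algebraMap B _ b)) := rfl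

theorem map_maximalIdeal_completion :
    (maximalIdeal B).map (ψ.toRingHom.comp (algebraMap B (AdicCompletion (maximalIdeal B) B))) = R2max F := by
  rw [← Ideal.map_map, ← AdicCompletion.maximalIdeal_eq_map]
  exact map_maximalIdeal_equiv ψ

theorem X_dvd_rho (i : Fin 2) {w : B} (hw : w ∈ maximalIdeal B) : PowerSeries.X ∣ rho ψ i w :=
  (mem_R2max_iff _ i).1 (map_maximalIdeal_completion ψ ▸ Ideal.mem_map_of_mem _ hw)

theorem exists_rho_ne_zero (i : Fin 2) : ∃ w ∈ maximalIdeal B, rho ψ i w ≠ 0 := by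
  by_contra hcon
  push Not at hcon
  have hle : R2max F ≤ RingHom.ker (branch F i) := by
    rw [← map_maximalIdeal_completion ψ, Ideal.map_le_iff_le_comap]
    intro w hw
    exact hcon w hw
  have h1 := hle (show Ideal.Quotient.mk _ (MvPowerSeries.X (1 - i)) ∈ R2max F by
    rw [mem_R2max_iff _ i, branch_mk, Groth.L14.Node.q_X_other])
  rw [RingHom.mem_ker, branch_mk, Groth.L14.Node.q_X_other] at h1
  exact PowerSeries.X_ne_zero h1

theorem exists_rho_approx (N : ℕ) : ∃ b : B, (rho ψ 1 b).order = 1 ∧ PowerSeries.X ^ N ∣ rho ψ 0 b := by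
  let U := ψ.symm (Ideal.Quotient.mk _ (MvPowerSeries.X 0))
  obtain ⟨b, hb⟩ : ∃ b : B, U - algebraMap B _ b ∈ maximalIdeal (AdicCompletion (maximalIdeal B) B) ^ (N + 2) := by
    obtain ⟨c, hc⟩ := AdicCompletion.mk_surjective (maximalIdeal B) B U
    refine ⟨c.1 (N + 2), ?_⟩
    rw [AdicCompletion.maximalIdeal_eq_map, ← Ideal.map_pow, ← Submodule.restrictScalars_mem B, ← Ideal.smul_top_eq_map,
      AdicCompletion.pow_smul_top_eq_ker_eval (IsNoetherian.noetherian _), LinearMap.mem_ker, map_sub, sub_eq_zero, ← hc]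
    rfl
  have hbr : ∀ i, PowerSeries.X ^ (N + 2) ∣ branch F i (Ideal.Quotient.mk _ (MvPowerSeries.X 0)) - rho ψ i b := by
    intro i
    have h1 := Ideal.mem_map_of_mem (ψ : _ →+* R2 F) hb
    rw [Ideal.map_pow, map_maximalIdeal_equiv] at h1
    have h2 := (R2max_pow_iff (Ideal.pow_le_self (Nat.succ_ne_zero _) h1) (N + 1)).1 h1 i
    simpa [U, rho_apply] using h2
  refine ⟨b, ?_, ?_⟩
  · have := hbr 1
    rw [branch_mk, q_X_zero, PowerSeries.X_pow_dvd_iff] at this
    have h0 := this 0 (by omega)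
    have h1 := this 1 (by omega)
    rw [map_sub, PowerSeries.coeff_zero_X, zero_sub, neg_eq_zero] at h0
    rw [map_sub, PowerSeries.coeff_one_X, sub_eq_zero] at h1
    exact_mod_cast PowerSeries.order_eq_nat.2 ⟨h1 ▸ one_ne_zero, fun i hi => by
      obtain rfl : i = 0 := by omega
      exact h0⟩
  · have := hbr 0
    rw [branch_mk, Groth.L14.Node.q_X_self, zero_sub, dvd_neg] at this
    exact (pow_dvd_pow _ (by omega)).trans this

end Branches

/-- The passage through an etale stage. -/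
theorem map_eq_of_stage {F : Type u} [Field F] (A₀ A₁ T : Type u) [CommRing A₀] [CommRing A₁] [CommRing T]
    [Algebra A₀ A₁] [Algebra A₀ T] [Algebra A₁ T] [IsScalarTower A₀ A₁ T] [Module.Flat A₁ T] [Algebra.Etale A₀ A₁]
    [IsNoetherianRing T] (P : Ideal T) [P.IsPrime]
    (ψ : AdicCompletion (maximalIdeal (Localization.AtPrime P)) (Localization.AtPrime P) ≃+* R2 F)
    (s : A₀) (τ : A₁) (b : Localization.AtPrime P) (t : T) (u : P.primeCompl)
    (htu : IsLocalization.mk' (Localization.AtPrime P) t u = b) (q : ℕ) (hq : 0 < q) (hτ : algebraMap A₁ T τ = t ^ q)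
    (e₀ e₁ : ℕ) (he₀ : (rho ψ 0 (algebraMap A₀ (Localization.AtPrime P) s)).order = e₀)
    (he₁ : (rho ψ 1 (algebraMap A₀ (Localization.AtPrime P) s)).order = e₁) (he₁0 : 0 < e₁)
    (hb1 : (rho ψ 1 b).order = 1) (hb0 : PowerSeries.X ^ (e₀ + 1) ∣ rho ψ 0 b) :
    (P.under A₀).map (algebraMap A₀ (Localization.AtPrime P)) = maximalIdeal (Localization.AtPrime P) := by
  let P₁ : Ideal A₁ := P.under A₁
  haveI : P₁.IsPrime := Ideal.IsPrime.under A₁ P
  letI : Algebra (Localization.AtPrime P₁) (Localization.AtPrime P) :=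
    (Localization.localRingHom P₁ P (algebraMap A₁ T) rfl).toAlgebra
  haveI : IsLocalHom (algebraMap (Localization.AtPrime P₁) (Localization.AtPrime P)) :=
    Localization.isLocalHom_localRingHom P₁ P (algebraMap A₁ T) rfl
  haveI : IsScalarTower A₁ (Localization.AtPrime P₁) (Localization.AtPrime P) := IsScalarTower.of_algebraMap_eq fun x =>
    ((Localization.localRingHom_to_map P₁ P (algebraMap A₁ T) rfl x).trans
      (IsScalarTower.algebraMap_apply A₁ T (Localization.AtPrime P) x).symm).symm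
  haveI : Module.Flat A₁ (Localization.AtPrime P) := Module.Flat.trans A₁ T _
  haveI : Module.Flat (Localization.AtPrime P₁) (Localization.AtPrime P) :=
    (Module.flat_iff_of_isLocalization (Localization.AtPrime P₁) P₁.primeCompl (Localization.AtPrime P)).2 inferInstance
  have hAB : ∀ a : A₀, algebraMap (Localization.AtPrime P₁) (Localization.AtPrime P)
      (algebraMap A₀ (Localization.AtPrime P₁) a) = algebraMap A₀ (Localization.AtPrime P) a := fun a => by
    rw [IsScalarTower.algebraMap_apply A₀ A₁ (Localization.AtPrime P₁),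
      ← IsScalarTower.algebraMap_apply A₁ (Localization.AtPrime P₁) (Localization.AtPrime P),
      IsScalarTower.algebraMap_apply A₁ T (Localization.AtPrime P), ← IsScalarTower.algebraMap_apply A₀ A₁ T,
      ← IsScalarTower.algebraMap_apply A₀ T (Localization.AtPrime P)]
  have hu : IsUnit ((IsLocalization.mk' (Localization.AtPrime P) 1 u) ^ q) :=
    (isUnit_iff_exists_inv.2 ⟨algebraMap T (Localization.AtPrime P) u, by
      rw [IsLocalization.mk'_spec, map_one]⟩).pow q
  have key := map_maximalIdeal_eq_of_orders (A := Localization.AtPrime P₁) ψ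
    (algebraMap A₁ (Localization.AtPrime P₁) τ) (algebraMap A₀ (Localization.AtPrime P₁) s) b q hq
    ((IsLocalization.mk' (Localization.AtPrime P) 1 u) ^ q) hu
    (by
      rw [← IsScalarTower.algebraMap_apply A₁ (Localization.AtPrime P₁) (Localization.AtPrime P),
        IsScalarTower.algebraMap_apply A₁ T (Localization.AtPrime P), hτ, map_pow, ← mul_pow, ← htu]
      congr 1
      rw [mul_comm, IsLocalization.mul_mk'_eq_mk'_of_mul, mul_one])
    e₀ e₁ (by rw [hAB]; exact he₀) (by rw [hAB]; exact he₁) he₁0 hb1 hb0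
  have hP1r : P₁.under A₀ = P.under A₀ := Ideal.under_under P
  haveI : P₁.LiesOver (P.under A₀) := ⟨hP1r.symm⟩
  letI := Localization.AtPrime.algebraOfLiesOver (P.under A₀) P₁
  have hm := ((Algebra.isUnramifiedAt_iff_map_eq A₀ (P.under A₀) P₁).1 inferInstance).2
  rw [← hm, Ideal.map_map] at key
  rwa [show (algebraMap (Localization.AtPrime P₁) (Localization.AtPrime P)).comp
    (algebraMap A₀ (Localization.AtPrime P₁)) = algebraMap A₀ (Localization.AtPrime P) from RingHom.ext hAB] at key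

theorem map_eq_of_odp (k : Type u) [Field k] (F : Type u) [Field F] [Algebra k F] [Algebra.IsAlgebraic k F]
    (A₀ : Type u) [CommRing A₀] [Algebra k A₀] [Algebra.FiniteType k A₀] (P : Ideal (A₀ ⊗[k] F)) [P.IsPrime] (hr : (P.under A₀).IsMaximal)
    (ψ : AdicCompletion (maximalIdeal (Localization.AtPrime P)) (Localization.AtPrime P) ≃+* R2 F) :
    (P.under A₀).map (algebraMap A₀ (Localization.AtPrime P)) = maximalIdeal (Localization.AtPrime P) := by
  haveI : IsNoetherianRing (A₀ ⊗[k] F) := by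
    haveI : IsNoetherianRing (F ⊗[k] A₀) := Algebra.FiniteType.isNoetherianRing F (F ⊗[k] A₀)
    exact isNoetherianRing_of_ringEquiv _ (Algebra.TensorProduct.comm k F A₀).toRingEquiv
  haveI : IsNoetherianRing (Localization.AtPrime P) := IsLocalization.isNoetherianRing P.primeCompl (Localization.AtPrime P) inferInstance
  haveI : Nontrivial (A₀ ⊗[k] F) := (algebraMap (A₀ ⊗[k] F) (Localization.AtPrime P)).domain_nontrivial
  haveI := hr
  haveI hPmax : P.IsMaximal := Ideal.isMaximal_of_isIntegral_of_isMaximal_comap (R := A₀) P hr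
  let ρ : Fin 2 → Localization.AtPrime P →+* PowerSeries F := fun i => rho ψ i
  -- no branch kills the maximal ideal of the ground ring
  have hne : ∀ i, ∃ s ∈ P.under A₀, ρ i (algebraMap A₀ (Localization.AtPrime P) s) ≠ 0 := by
    intro i
    by_contra hcon
    push Not at hcon
    let Q : Ideal (A₀ ⊗[k] F) := RingHom.ker ((ρ i).comp (algebraMap (A₀ ⊗[k] F) (Localization.AtPrime P)))
    haveI : Q.IsPrime := RingHom.ker_isPrime _
    have hQP : Q ≤ P := fun t ht => by
      by_contra htP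
      have hu : IsUnit (algebraMap (A₀ ⊗[k] F) (Localization.AtPrime P) t) := IsLocalization.map_units (Localization.AtPrime P) (⟨t, htP⟩ : P.primeCompl)
      exact (hu.map (ρ i)).ne_zero (RingHom.mem_ker.1 ht)
    have hQr : P.under A₀ = Q.under A₀ := by
      refine hr.eq_of_le (Ideal.IsPrime.under A₀ Q).ne_top fun a ha => ?_
      change ρ i (algebraMap (A₀ ⊗[k] F) (Localization.AtPrime P) (algebraMap A₀ (A₀ ⊗[k] F) a)) = 0
      rw [← IsScalarTower.algebraMap_apply]
      exact hcon a ha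
    haveI : Q.IsMaximal := Ideal.isMaximal_of_isIntegral_of_isMaximal_comap (R := A₀) Q (show (Q.under A₀).IsMaximal from hQr ▸ hr)
    have hPQ : Q = P := Ideal.IsMaximal.eq_of_le ‹Q.IsMaximal› hPmax.ne_top hQP
    obtain ⟨w, hw, hw0⟩ := exists_rho_ne_zero ψ i
    obtain ⟨t, v, rfl⟩ := IsLocalization.exists_mk'_eq P.primeCompl w
    have ht : t ∈ Q := hPQ.symm ▸ (IsLocalization.AtPrime.mk'_mem_maximal_iff (Localization.AtPrime P) P t v).1 hw
    refine hw0 ?_
    rw [IsLocalization.mk'_eq_mul_mk'_one, map_mul,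
      show rho ψ i (algebraMap (A₀ ⊗[k] F) (Localization.AtPrime P) t) = 0 from RingHom.mem_ker.1 ht, zero_mul]
  obtain ⟨s, hs, hs0, hs1⟩ : ∃ s ∈ P.under A₀, ρ 0 (algebraMap A₀ (Localization.AtPrime P) s) ≠ 0 ∧ ρ 1 (algebraMap A₀ (Localization.AtPrime P) s) ≠ 0 := by
    obtain ⟨s₀, h₀, h₀'⟩ := hne 0
    obtain ⟨s₁, h₁, h₁'⟩ := hne 1
    by_cases e1 : ρ 1 (algebraMap A₀ (Localization.AtPrime P) s₀) = 0
    · by_cases e0 : ρ 0 (algebraMap A₀ (Localization.AtPrime P) s₁) = 0
      · exact ⟨s₀ + s₁, add_mem h₀ h₁, by rwa [map_add, map_add, e0, add_zero], by rwa [map_add, map_add, e1, zero_add]⟩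
      · exact ⟨s₁, h₁, e0, h₁'⟩
    · exact ⟨s₀, h₀, h₀', e1⟩
  have hsB : algebraMap A₀ (Localization.AtPrime P) s ∈ maximalIdeal (Localization.AtPrime P) := by
    rw [← Localization.AtPrime.map_eq_maximalIdeal, IsScalarTower.algebraMap_apply A₀ (A₀ ⊗[k] F) (Localization.AtPrime P)]
    exact Ideal.mem_map_of_mem _ hs
  obtain ⟨e₀, he₀⟩ : ∃ e₀ : ℕ, (ρ 0 (algebraMap A₀ (Localization.AtPrime P) s)).order = e₀ :=
    ⟨_, (ENat.coe_toNat fun h => hs0 (PowerSeries.order_eq_top.1 h)).symm⟩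
  obtain ⟨e₁, he₁⟩ : ∃ e₁ : ℕ, (ρ 1 (algebraMap A₀ (Localization.AtPrime P) s)).order = e₁ :=
    ⟨_, (ENat.coe_toNat fun h => hs1 (PowerSeries.order_eq_top.1 h)).symm⟩
  have he₁0 : 0 < e₁ := by
    refine Nat.pos_of_ne_zero fun h => ?_
    have h1 := PowerSeries.X_dvd_iff.1 (X_dvd_rho ψ 1 hsB)
    have h2 : ((1 : ℕ) : ℕ∞) ≤ (ρ 1 (algebraMap A₀ (Localization.AtPrime P) s)).order := PowerSeries.nat_le_order _ _ fun n hn => by
      obtain rfl : n = 0 := by omega
      rwa [PowerSeries.coeff_zero_eq_constantCoeff_apply]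
    rw [he₁, h] at h2
    exact absurd h2 (by simp)
  obtain ⟨b, hb1, hb0⟩ := exists_rho_approx ψ (e₀ + 1)
  obtain ⟨t, u, htu⟩ := IsLocalization.exists_mk'_eq P.primeCompl b
  obtain ⟨q, L, τ, hq, hL, hLsep, hτ⟩ := exists_stage k F A₀ t
  haveI := hL
  haveI := hLsep
  let G := Algebra.TensorProduct.map (AlgHom.id A₀ A₀) L.val
  letI : Algebra (A₀ ⊗[k] L) (A₀ ⊗[k] F) := G.toRingHom.toAlgebra
  haveI : IsScalarTower A₀ (A₀ ⊗[k] L) (A₀ ⊗[k] F) := IsScalarTower.of_algebraMap_eq fun a => (G.commutes a).symm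
  haveI : Module.Flat (A₀ ⊗[k] L) (A₀ ⊗[k] F) := flat_stage k F A₀ L
  haveI : Algebra.Etale A₀ (A₀ ⊗[k] L) := etale_stage k F A₀ L
  exact map_eq_of_stage A₀ (A₀ ⊗[k] L) (A₀ ⊗[k] F) P ψ s τ b t u htu q hq hτ e₀ e₁ he₀ he₁ he₁0 hb1 hb0

end Groth.L21.Nodal
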