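import Groth.Agent.L21.Nodal.DeformFibre
import Groth.Agent.L21.Nodal.FieldChange
import Groth.Agent.L21.Nodal.NodeRing
import Mathlib.Algebra.DualNumber

/-! A node has two independent relative derivations. -/

set_option autoImplicit false
universe u

open CategoryTheory CategoryTheory.Limits AlgebraicGeometry IsLocalRing

noncomputable section

namespace Groth.L21.Nodal

theorem cc_eq_branch {F : Type u} [Field F] (i : Fin 2) (z : R2 F) :
    PowerSeries.constantCoeff (branch F i z) = cc z := cc_branch i z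

theorem lin_mul_full {F : Type u} [Field F] (i : Fin 2) (z w : R2 F) :
    lin i (z * w) = cc z * lin i w + cc w * lin i z := by
  rw [lin, map_mul, PowerSeries.coeff_mul, Finset.Nat.sum_antidiagonal_succ]
  simp [lin, cc_eq_branch, PowerSeries.coeff_zero_eq_constantCoeff_apply]
  ring

/-- Two independent derivations on a point with completion `F[[u,v]]/(uv)`. -/
theorem exists_derivation_pair {F : Type u} [Field F] {B : Type u} [CommRing B] [IsLocalRing B] [IsNoetherianRing B]
    [Algebra F B] (h : Curv2.IsOrdDoublePt F B) :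
    ∃ (φ : B →+* F) (D : Fin 2 → B →+ F), RingHom.ker φ = maximalIdeal B ∧
      (∀ i a b, D i (a * b) = φ a * D i b + φ b * D i a) ∧ (∀ i c, D i (algebraMap F B c) = 0) ∧
      ∀ c₀ c₁ : F, (∀ b, c₀ * D 0 b + c₁ * D 1 b = 0) → c₀ = 0 ∧ c₁ = 0 := by
  obtain ⟨ψ, hψ⟩ := h
  let χ : B →+* R2 F := ψ.toRingHom.comp (algebraMap B (AdicCompletion (maximalIdeal B) B))
  let D : Fin 2 → B →+ F := fun i =>
    { toFun := fun b => lin i (χ b)
      map_zero' := by simp [lin]
      map_add' := fun a b => by rw [map_add, lin_add] }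
  have hmap : (maximalIdeal B).map χ = R2max F := map_maximalIdeal_completion ψ
  refine ⟨cc.comp χ, D, ?_, fun i a b => ?_, fun i c => ?_, fun c₀ c₁ hc => ?_⟩
  · ext b
    rw [RingHom.mem_ker, RingHom.comp_apply, ← mem_R2max_iff_cc]
    refine ⟨fun hb => (mem_maximalIdeal b).2 fun hu => ?_, fun hb => hmap ▸ Ideal.mem_map_of_mem _ hb⟩
    have h1 := hu.map χ
    obtain ⟨w, hw⟩ := h1.exists_left_inv
    have h2 : cc (w * χ b) = 0 := by rw [map_mul, (mem_R2max_iff_cc _).1 hb, mul_zero]
    rw [hw, map_one] at h2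
    exact one_ne_zero h2
  · show lin i (χ (a * b)) = _
    rw [map_mul, lin_mul_full]
    rfl
  · show lin i (ψ (algebraMap B _ (algebraMap F B c))) = 0
    rw [hψ]
    show PowerSeries.coeff 1 (branch F i _) = 0
    rw [branch_C, PowerSeries.coeff_C, if_neg one_ne_zero]
  · have hall : ∀ z ∈ R2max F, c₀ * lin 0 z + c₁ * lin 1 z = 0 := by
      intro z hz
      rw [← hmap] at hz
      have hmem : ∀ w ∈ (maximalIdeal B).map χ, w ∈ R2max F := fun w hw => hmap ▸ hw
      unfold Ideal.map at hz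
      suffices z ∈ R2max F ∧ c₀ * lin 0 z + c₁ * lin 1 z = 0 from this.2
      induction hz using Submodule.span_induction with
      | mem w hw =>
        obtain ⟨b, hb, rfl⟩ := hw
        exact ⟨hmem _ (Ideal.mem_map_of_mem _ hb), hc b⟩
      | zero => exact ⟨zero_mem _, by simp [lin]⟩
      | add x y _ _ hx hy => exact ⟨add_mem hx.1 hy.1, by rw [lin_add, lin_add]; linear_combination hx.2 + hy.2⟩
      | smul r x _ hx =>
        refine ⟨Ideal.mul_mem_left _ r hx.1, ?_⟩
        rw [smul_eq_mul, lin_mul 0 r hx.1, lin_mul 1 r hx.1]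
        linear_combination (PowerSeries.constantCoeff (branch F 0 r)) * hx.2
    have h1 := hall (Ideal.Quotient.mk _ (MvPowerSeries.X 1)) (Ideal.subset_span (Or.inr rfl))
    have h0 := hall (Ideal.Quotient.mk _ (MvPowerSeries.X 0)) (Ideal.subset_span (Or.inl rfl))
    simp [lin, branch_mk, q_X_one, q_X_zero, Groth.L14.Node.q_X_self] at h0 h1
    exact ⟨h1, h0⟩

/-- Relative derivations at the image of an ordinary double point. -/
theorem exists_derivation_of_odpAt {X S W : Scheme.{u}} (f : X ⟶ S) {F : Type u} [Field F] (g : W ⟶ X)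
    (q : W ⟶ Spec (CommRingCat.of F)) (η : Spec (CommRingCat.of F) ⟶ S) (hcomm : g ≫ f = q ≫ η)
    (hmono : ∀ {T : Scheme.{u}} (a b : T ⟶ W), a ≫ g = b ≫ g → a ≫ q = b ≫ q → a = b) (w : W)
    [IsNoetherianRing (W.presheaf.stalk w)] (hw : OdpAt F q w) (z : X) (hz : g w = z) (e : X.presheaf.stalk z) :
    ∃ (φ : X.presheaf.stalk z →+* F) (D : X.presheaf.stalk z →+ F),
      RingHom.ker φ = maximalIdeal _ ∧ (∀ a b, D (a * b) = φ a * D b + φ b * D a) ∧
      (∀ r, D ((f.stalkMap z).hom r) = 0) ∧ D e = 0 ∧ D ≠ 0 := by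
  subst hz
  letI : W.Over (Spec (CommRingCat.of F)) := ⟨q⟩
  letI : Algebra F (W.presheaf.stalk w) := Curv2.stalkAlgebra F W w
  obtain ⟨φ, D, hker, hleib, hC, hind⟩ := exists_derivation_pair (F := F) (B := W.presheaf.stalk w) hw
  let π := (g.stalkMap w).hom
  obtain ⟨c₀, c₁, hne, hce⟩ : ∃ c₀ c₁ : F, ¬ (c₀ = 0 ∧ c₁ = 0) ∧ c₀ * D 0 (π e) + c₁ * D 1 (π e) = 0 := by
    by_cases hz : D 0 (π e) = 0
    · exact ⟨1, 0, fun h => one_ne_zero h.1, by rw [hz]; ring⟩
    · exact ⟨D 1 (π e), -D 0 (π e), fun h => hz (neg_eq_zero.1 h.2), by ring⟩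
  let E : W.presheaf.stalk w →+ F :=
    { toFun := fun b => c₀ * D 0 b + c₁ * D 1 b
      map_zero' := by simp
      map_add' := fun a b => by rw [map_add, map_add]; ring }
  have hE : ∀ a b, E (a * b) = φ a * E b + φ b * E a := fun a b => by
    show c₀ * D 0 (a * b) + c₁ * D 1 (a * b) = _
    rw [hleib, hleib]
    show _ = φ a * (c₀ * D 0 b + c₁ * D 1 b) + φ b * (c₀ * D 0 a + c₁ * D 1 a)
    ring
  have hE1 : E 1 = 0 := by
    have h := hE 1 1
    simp only [map_one, one_mul] at h
    linear_combination -h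
  let h1 : W.presheaf.stalk w →+* DualNumber F :=
    { toFun := fun b => TrivSqZeroExt.inl (φ b) + TrivSqZeroExt.inr (E b)
      map_one' := by rw [map_one, hE1]; simp
      map_mul' := fun a b => TrivSqZeroExt.ext (by simp) (by simp [hE]; ring)
      map_zero' := by simp
      map_add' := fun a b => TrivSqZeroExt.ext (by simp) (by simp) }
  let h0 : W.presheaf.stalk w →+* DualNumber F := (TrivSqZeroExt.inlHom F F).comp φ
  let T : ∀ h : W.presheaf.stalk w →+* DualNumber F, Spec (CommRingCat.of (DualNumber F)) ⟶ W :=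
    fun h => Spec.map (CommRingCat.ofHom h) ≫ W.fromSpecStalk w
  have hq : T h1 ≫ q = T h0 ≫ q := by
    have e0 : W.fromSpecStalk w ≫ q = Spec.map (CommRingCat.ofHom (Curv2.stalkMap F W w)) :=
      (SpecMap_stalkMap F W w).symm
    simp only [T, Category.assoc, e0, ← Spec.map_comp]
    congr 1
    refine CommRingCat.hom_ext (RingHom.ext fun c => ?_)
    show TrivSqZeroExt.inl (φ (Curv2.stalkMap F W w c)) + TrivSqZeroExt.inr (E (Curv2.stalkMap F W w c)) =
      TrivSqZeroExt.inl (φ (Curv2.stalkMap F W w c))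
    have : E (Curv2.stalkMap F W w c) = 0 := by
      show c₀ * D 0 (algebraMap F (W.presheaf.stalk w) c) + c₁ * D 1 (algebraMap F (W.presheaf.stalk w) c) = 0
      rw [hC, hC]; ring
    rw [this, TrivSqZeroExt.inr_zero, add_zero]
  refine ⟨φ.comp π, E.comp π.toAddMonoidHom, ?_, fun a b => ?_, fun r => ?_, hce, fun hzero => ?_⟩
  · haveI : IsLocalHom π := inferInstanceAs (IsLocalHom (g.stalkMap w).hom)
    rw [← RingHom.comap_ker, hker]
    ext b
    rw [Ideal.mem_comap, mem_maximalIdeal, mem_maximalIdeal, mem_nonunits_iff, mem_nonunits_iff, isUnit_map_iff]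
  · show E (π (a * b)) = _
    rw [map_mul, hE]
    rfl
  · have hS : (T h1 ≫ g ≫ f) = T h0 ≫ g ≫ f := by
      rw [hcomm, ← Category.assoc, hq, Category.assoc]
    simp only [T, Category.assoc] at hS
    rw [← Scheme.SpecMap_stalkMap_fromSpecStalk_assoc, ← Scheme.SpecMap_stalkMap_fromSpecStalk,
      ← Spec.map_comp_assoc, ← Spec.map_comp_assoc, ← Spec.map_comp_assoc, ← Spec.map_comp_assoc,
      cancel_mono] at hS
    have := congrArg TrivSqZeroExt.snd (ConcreteCategory.congr_hom (Spec.map_injective hS) r)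
    simpa [h1, h0, π] using this
  · have hπ : ∀ b, E (π b) = 0 := fun b => DFunLike.congr_fun hzero b
    have hg : T h1 ≫ g = T h0 ≫ g := by
      simp only [T, Category.assoc, ← Scheme.SpecMap_stalkMap_fromSpecStalk, ← Spec.map_comp_assoc]
      congr 2
      refine CommRingCat.hom_ext (RingHom.ext fun b => ?_)
      show TrivSqZeroExt.inl (φ (π b)) + TrivSqZeroExt.inr (E (π b)) = TrivSqZeroExt.inl (φ (π b))
      rw [hπ, TrivSqZeroExt.inr_zero, add_zero]
    have heq := hmono _ _ hg hq
    simp only [T, cancel_mono] at heq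
    refine hne (hind c₀ c₁ fun b => ?_)
    have := congrArg TrivSqZeroExt.snd (ConcreteCategory.congr_hom (Spec.map_injective heq) b)
    simpa [h1, h0, E] using this

/-- A node has a nonzero relative derivation vanishing at any given element. -/
theorem exists_derivation_of_isNode {X S : Scheme.{u}} (f : X ⟶ S) [LocallyOfFiniteType f] (z : X)
    (hn : @Curv2.IsNode (S.residueField (f z)) _ (f.fiber (f z)) ⟨f.fiberToSpecResidueField (f z)⟩ (f.asFiber z))
    (e : X.presheaf.stalk z) :
    ∃ (F : Type u) (_ : Field F) (φ : X.presheaf.stalk z →+* F) (D : X.presheaf.stalk z →+ F),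
      RingHom.ker φ = maximalIdeal _ ∧ (∀ a b, D (a * b) = φ a * D b + φ b * D a) ∧
      (∀ r, D ((f.stalkMap z).hom r) = 0) ∧ D e = 0 ∧ D ≠ 0 := by
  letI : (f.fiber (f z)).Over (Spec (CommRingCat.of (S.residueField (f z)))) := ⟨f.fiberToSpecResidueField (f z)⟩
  haveI : LocallyOfFiniteType (f.fiber (f z) ↘ Spec (CommRingCat.of (S.residueField (f z)))) :=
    MorphismProperty.pullback_snd f (S.fromSpecResidueField (f z)) inferInstance
  let k := S.residueField (f z)
  let F := AlgebraicClosure k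
  let fst := Curv2.bcFst k (f.fiber (f z)) F
  let q := Curv2.bcSnd k (f.fiber (f z)) F
  obtain ⟨w, hw⟩ := bcFst_surjective (k := k) (X := f.fiber (f z)) F (f.asFiber z)
  have hodp : OdpAt F q w := odpAt_of_isNode _ _ hn w hw
  haveI : IsLocallyNoetherian (Curv2.bc k (f.fiber (f z)) F) := LocallyOfFiniteType.isLocallyNoetherian q
  let g := fst ≫ f.fiberι (f z)
  let η := Spec.map (CommRingCat.ofHom (algebraMap k F)) ≫ S.fromSpecResidueField (f z)
  have hpb : IsPullback fst q (f.fiberToSpecResidueField (f z)) (Spec.map (CommRingCat.ofHom (algebraMap k F))) :=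
    IsPullback.of_hasPullback _ _
  have hcomm : g ≫ f = q ≫ η := by
    show (fst ≫ f.fiberι (f z)) ≫ f = q ≫ _ ≫ _
    rw [Category.assoc, f.fiber_fac, ← Category.assoc, hpb.w, Category.assoc]
    rfl
  have hmono : ∀ {T : Scheme.{u}} (a b : T ⟶ Curv2.bc k (f.fiber (f z)) F), a ≫ g = b ≫ g → a ≫ q = b ≫ q → a = b :=
    fun a b h1 h2 => hpb.hom_ext ((cancel_mono (f.fiberι (f z))).1 (by simpa [g, Category.assoc] using h1)) h2
  have hgw : g w = z := by
    rw [Scheme.Hom.comp_apply, hw]
    exact f.fiberι_asFiber z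
  exact ⟨F, inferInstance, exists_derivation_of_odpAt f g q η hcomm hmono w hodp z hgw e⟩

end Groth.L21.Nodal
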