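import Groth.Agent.L21.Nodal.NodeRing
import Groth.Agent.L21.Nodal.FieldChange
import Groth.Agent.L21.Nodal.Completion
import Mathlib.AlgebraicGeometry.Pullbacks
import Mathlib.AlgebraicGeometry.AffineScheme

/-! At a node the maximal ideal generates the maximal ideal of the geometric local ring. -/

set_option autoImplicit false
universe u

open CategoryTheory CategoryTheory.Limits AlgebraicGeometry IsLocalRing TopologicalSpace
open scoped TensorProduct

noncomputable section

namespace Groth.L21.Nodal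

theorem map_maximalIdeal_iso {R S : CommRingCat.{u}} (e : R ≅ S) [IsLocalRing R] [IsLocalRing S] :
    (maximalIdeal R).map e.hom.hom = maximalIdeal S :=
  IsLocalRing.map_maximalIdeal_of_surjective e.hom.hom e.commRingCatIsoToRingEquiv.surjective

theorem map_hom_comp {R S T : CommRingCat.{u}} (f : R ⟶ S) (g : S ⟶ T) (I : Ideal R) :
    I.map (f ≫ g).hom = (I.map f.hom).map g.hom := by
  rw [Ideal.map_map, CommRingCat.hom_comp]

theorem map_maximalIdeal_stalkMap_eq_of_iso {X Y Z : Scheme.{u}} (g : Z ⟶ Y) (h : Y ⟶ X) (P : Z)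
    [IsIso (h.stalkMap (g P))] :
    (maximalIdeal (X.presheaf.stalk ((g ≫ h) P))).map ((g ≫ h).stalkMap P).hom =
      (maximalIdeal (Y.presheaf.stalk (g P))).map (g.stalkMap P).hom := by
  rw [Scheme.Hom.stalkMap_comp]
  refine (map_hom_comp _ _ _).trans ?_
  congr 1
  exact map_maximalIdeal_iso (asIso (h.stalkMap (g P)))

theorem map_maximalIdeal_specMap_stalkMap {R S : CommRingCat.{u}} (f : R ⟶ S) (P : PrimeSpectrum S)
    (h : (P.asIdeal.comap f.hom).map ((algebraMap S (Localization.AtPrime P.asIdeal)).comp f.hom) =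
      maximalIdeal (Localization.AtPrime P.asIdeal)) :
    (maximalIdeal ((Spec R).presheaf.stalk (Spec.map f P))).map ((Spec.map f).stalkMap P).hom =
      maximalIdeal ((Spec S).presheaf.stalk P) := by
  change (maximalIdeal ((Spec R).presheaf.stalk (P.comap f.hom))).map ((Spec.map f).stalkMap P).hom = _
  rw [← Scheme.localRingHom_comp_stalkIso]
  refine (map_hom_comp _ _ _).trans ((map_hom_comp _ _ _).trans ?_)
  refine Eq.trans ?_ (map_maximalIdeal_iso (Spec.stalkIso S P).symm)
  refine congrArg (Ideal.map _) ?_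
  refine (congrArg (Ideal.map _) (map_maximalIdeal_iso (Spec.stalkIso R (P.comap f.hom)))).trans ?_
  refine Eq.trans ?_ h
  rw [CommRingCat.hom_ofHom, ← Localization.AtPrime.map_eq_maximalIdeal, Ideal.map_map]
  congr 1
  ext a
  exact Localization.localRingHom_to_map _ _ _ rfl a

variable {k : Type u} [Field k] {X : Scheme.{u}} [X.Over (Spec (CommRingCat.of k))]
  [LocallyOfFiniteType (X ↘ Spec (CommRingCat.of k))]

/-- The local ring of a geometric point over a node is unramified over the local ring of the node. -/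
theorem map_maximalIdeal_bcFst_of_odpAt (z : Curv2.bc k X (AlgebraicClosure k))
    (hx : IsClosed ({Curv2.bcFst k X (AlgebraicClosure k) z} : Set X))
    (hz : OdpAt (AlgebraicClosure k) (Curv2.bcSnd k X (AlgebraicClosure k)) z) :
    (maximalIdeal (X.presheaf.stalk (Curv2.bcFst k X (AlgebraicClosure k) z))).map
        ((Curv2.bcFst k X (AlgebraicClosure k)).stalkMap z).hom =
      maximalIdeal ((Curv2.bc k X (AlgebraicClosure k)).presheaf.stalk z) := by
  obtain ⟨U, hU, hxU, -⟩ := exists_isAffineOpen_mem_and_subset (X := X) (U := ⊤)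
    (Opens.mem_top (Curv2.bcFst k X (AlgebraicClosure k) z))
  obtain ⟨φ, hφ⟩ := Spec.map_surjective (hU.fromSpec ≫ (X ↘ Spec (CommRingCat.of k)))
  letI : Algebra k Γ(X, U) := φ.hom.toAlgebra
  haveI : Algebra.FiniteType k Γ(X, U) := by
    haveI : LocallyOfFiniteType (hU.fromSpec ≫ (X ↘ Spec (CommRingCat.of k))) := inferInstance
    exact (HasRingHomProperty.Spec_iff (P := @LocallyOfFiniteType) (φ := φ)).mp (hφ ▸ inferInstance)
  let T := CommRingCat.of (Γ(X, U) ⊗[k] AlgebraicClosure k)
  let ι : Γ(X, U) ⟶ T := CommRingCat.ofHom Algebra.TensorProduct.includeLeftRingHom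
  let e : Spec T ≅ pullback (Spec.map (CommRingCat.ofHom (algebraMap k Γ(X, U))))
      (Spec.map (CommRingCat.ofHom (algebraMap k (AlgebraicClosure k)))) :=
    (pullbackSpecIso k Γ(X, U) (AlgebraicClosure k)).symm
  have he1 : e.hom ≫ pullback.fst _ _ = Spec.map ι := pullbackSpecIso_inv_fst _ _ _
  have sq0 : IsPullback (e.hom ≫ pullback.fst _ _) (e.hom ≫ pullback.snd _ _)
      (Spec.map (CommRingCat.ofHom (algebraMap k Γ(X, U))))
      (Spec.map (CommRingCat.ofHom (algebraMap k (AlgebraicClosure k)))) :=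
    IsPullback.of_iso_pullback ⟨by simp [pullback.condition]⟩ e rfl rfl
  obtain ⟨p₂, hp₂⟩ : ∃ p₂, p₂ = e.hom ≫ pullback.snd _ _ := ⟨_, rfl⟩
  rw [he1, ← hp₂, show Spec.map (CommRingCat.ofHom (algebraMap k Γ(X, U))) = hU.fromSpec ≫ (X ↘ Spec (CommRingCat.of k))
    from hφ] at sq0
  let j : Spec T ⟶ Curv2.bc k X (AlgebraicClosure k) :=
    pullback.lift (Spec.map ι ≫ hU.fromSpec) p₂ (by rw [Category.assoc]; exact sq0.w)
  have hj1 : j ≫ Curv2.bcFst k X (AlgebraicClosure k) = Spec.map ι ≫ hU.fromSpec := pullback.lift_fst _ _ _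
  have hj2 : j ≫ Curv2.bcSnd k X (AlgebraicClosure k) = p₂ := pullback.lift_snd _ _ _
  have sq : IsPullback j (Spec.map ι) (Curv2.bcFst k X (AlgebraicClosure k)) hU.fromSpec := by
    refine IsPullback.of_right ?_ hj1 (IsPullback.of_hasPullback _ _).flip
    rw [hj2]
    exact sq0.flip
  haveI : IsOpenImmersion j := MorphismProperty.of_isPullback sq.flip inferInstance
  obtain ⟨P, rfl, hP⟩ := Scheme.exists_preimage_of_isPullback sq z (hU.primeIdealOf ⟨_, hxU⟩)
    (hU.fromSpec_primeIdealOf ⟨_, hxU⟩).symm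
  have hr : (P.asIdeal.comap ι.hom).IsMaximal := by
    have h1 : IsClosed ({hU.primeIdealOf ⟨_, hxU⟩} : Set (Spec Γ(X, U))) := by
      have := hx.preimage hU.fromSpec.continuous
      convert this using 1
      ext t
      exact ⟨fun ht => by rw [Set.mem_singleton_iff.1 ht]; exact hU.fromSpec_primeIdealOf _,
        fun ht => hU.fromSpec.isOpenEmbedding.injective
          ((Set.mem_singleton_iff.1 ht).trans (hU.fromSpec_primeIdealOf ⟨_, hxU⟩).symm)⟩
    have h2 := (PrimeSpectrum.isClosed_singleton_iff_isMaximal _).1 h1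
    rw [← hP] at h2
    exact h2
  -- transport the completion
  obtain ⟨f, -⟩ := hz
  let eB : (Curv2.bc k X (AlgebraicClosure k)).presheaf.stalk (j P) ≃+* Localization.AtPrime P.asIdeal :=
    (asIso (j.stalkMap P) ≪≫ Spec.stalkIso T P).commRingCatIsoToRingEquiv
  letI := eB.toRingHom.toAlgebra
  haveI : Module.Flat ((Curv2.bc k X (AlgebraicClosure k)).presheaf.stalk (j P)) (Localization.AtPrime P.asIdeal) :=
    Module.Flat.of_linearEquiv (LinearEquiv.ofBijective (Algebra.linearMap _ _) eB.bijective).symm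
  haveI : IsLocalHom (algebraMap ((Curv2.bc k X (AlgebraicClosure k)).presheaf.stalk (j P))
      (Localization.AtPrime P.asIdeal)) := ⟨fun a ha => (isUnit_map_iff eB a).1 ha⟩
  obtain ⟨ε, -⟩ := exists_completion_equiv _ (Localization.AtPrime P.asIdeal)
    (IsLocalRing.map_maximalIdeal_of_surjective
      (algebraMap ((Curv2.bc k X (AlgebraicClosure k)).presheaf.stalk (j P)) _) eB.surjective)
    fun b => ⟨eB.symm b, by
      rw [show algebraMap _ (Localization.AtPrime P.asIdeal) (eB.symm b) = b from eB.apply_symm_apply b, sub_self]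
      exact zero_mem _⟩
  have key := map_eq_of_odp k (AlgebraicClosure k) Γ(X, U) P.asIdeal hr (ε.symm.trans f)
  rw [IsScalarTower.algebraMap_eq Γ(X, U) (Γ(X, U) ⊗[k] AlgebraicClosure k)] at key
  have hmain : (maximalIdeal (X.presheaf.stalk ((Spec.map ι ≫ hU.fromSpec) P))).map
      ((Spec.map ι ≫ hU.fromSpec).stalkMap P).hom = maximalIdeal ((Spec T).presheaf.stalk P) := by
    rw [map_maximalIdeal_stalkMap_eq_of_iso]
    exact map_maximalIdeal_specMap_stalkMap ι P key
  have hcomp : (maximalIdeal (X.presheaf.stalk ((j ≫ Curv2.bcFst k X (AlgebraicClosure k)) P))).map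
      ((j ≫ Curv2.bcFst k X (AlgebraicClosure k)).stalkMap P).hom = maximalIdeal ((Spec T).presheaf.stalk P) := by
    rw [hj1]; exact hmain
  rw [Scheme.Hom.stalkMap_comp] at hcomp
  have hcomp := ((map_hom_comp _ _ _).symm.trans hcomp).trans (map_maximalIdeal_iso (asIso (j.stalkMap P))).symm
  have hinj : Function.Injective (Ideal.map (j.stalkMap P).hom) := fun a b hab => by
    rw [← Ideal.comap_map_of_bijective (j.stalkMap P).hom (ConcreteCategory.bijective_of_isIso _) (I := a), hab,
      Ideal.comap_map_of_bijective (j.stalkMap P).hom (ConcreteCategory.bijective_of_isIso _)]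
  exact hinj hcomp

end Groth.L21.Nodal
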