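import Groth.Agent.L21.Nodal.NodeFibre
import Groth.Agent.L21.Nodal.Reduced
import Groth.Agent.L05.Henselization.EtaleLike
import Groth.Agent.L21.Nodal.BaseChange

/-! Nodes are singular points. -/

set_option autoImplicit false
universe u

open CategoryTheory CategoryTheory.Limits AlgebraicGeometry IsLocalRing TopologicalSpace

noncomputable section

namespace Groth.L21.Nodal

variable {k : Type u} [Field k] {X : Scheme.{u}} [X.Over (Spec (CommRingCat.of k))]
  [LocallyOfFiniteType (X ↘ Spec (CommRingCat.of k))]

theorem flat_bcFst (L : Type u) [Field L] [Algebra k L] : Flat (Curv2.bcFst k X L) := by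
  haveI : Flat (Spec.map (CommRingCat.ofHom (algebraMap k L))) := by
    rw [Flat.SpecMap_iff]
    exact RingHom.flat_algebraMap_iff.mpr inferInstance
  exact MorphismProperty.pullback_fst _ _ inferInstance

theorem not_isRegularLocalRing_of_isNode (x : X) (hx : Curv2.IsNode k X x) :
    ¬ IsRegularLocalRing (X.presheaf.stalk x) := by
  intro hreg
  obtain ⟨hxc, z, rfl, hz⟩ := (isNode_def k X x).1 hx
  set i := Curv2.bcFst k X (AlgebraicClosure k)
  set q := Curv2.bcSnd k X (AlgebraicClosure k)
  have hm := map_maximalIdeal_bcFst_of_odpAt z hxc hz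
  haveI : IsLocallyNoetherian X := LocallyOfFiniteType.isLocallyNoetherian (X ↘ Spec (CommRingCat.of k))
  haveI : IsLocallyNoetherian (Curv2.bc k X (AlgebraicClosure k)) := LocallyOfFiniteType.isLocallyNoetherian q
  haveI : Flat i := flat_bcFst (k := k) (X := X) (AlgebraicClosure k)
  letI := (i.stalkMap z).hom.toAlgebra
  haveI : Module.Flat (X.presheaf.stalk (i z)) ((Curv2.bc k X (AlgebraicClosure k)).presheaf.stalk z) :=
    Flat.stalkMap i z
  letI : (Curv2.bc k X (AlgebraicClosure k)).Over (Spec (CommRingCat.of (AlgebraicClosure k))) := ⟨q⟩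
  letI := Curv2.stalkAlgebra (AlgebraicClosure k) (Curv2.bc k X (AlgebraicClosure k)) z
  exact not_isRegularLocalRing_of_isOrdDoublePt hz
    ((Groth.L05.Henselization.isRegularLocalRing_iff_of_map_maximalIdeal (X.presheaf.stalk (i z))
      ((Curv2.bc k X (AlgebraicClosure k)).presheaf.stalk z) hm).1 hreg)

end Groth.L21.Nodal
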