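import Groth.Agent.L21.Nodal.NodalMax
import Groth.Agent.L21.Nodal.QuadNode
import Groth.Agent.L21.Nodal.DiffCyclic
import Groth.Agent.L21.Nodal.NodeDerivation
import Groth.Prelude.Def_Coh
import Mathlib.AlgebraicGeometry.Morphisms.Finite
import Mathlib.RingTheory.RingHom.EssFiniteType

/-! Families with deformed nodes `x y = u` in the closed fibre are smooth away from `u = 0`. -/

set_option autoImplicit false
universe u

open CategoryTheory CategoryTheory.Limits AlgebraicGeometry IsLocalRing

noncomputable section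

namespace Groth.L21.Nodal

variable {Λ : Type u} [CommRing Λ]

/-- From the ring to the local ring at a point of its spectrum. -/
def toStalkHom (s : Spec (CommRingCat.of Λ)) : Λ →+* (Spec (CommRingCat.of Λ)).presheaf.stalk s :=
  ((Spec (CommRingCat.of Λ)).presheaf.germ ⊤ s trivial).hom.comp (Scheme.ΓSpecIso (CommRingCat.of Λ)).inv.hom

theorem toStalkHom_eq_algebraMap (s : Spec (CommRingCat.of Λ)) :
    toStalkHom s = (StructureSheaf.toStalk Λ s).hom := rfl

theorem toStalkHom_surjective [IsLocalRing Λ] (s : Spec (CommRingCat.of Λ)) (hs : s = closedPoint Λ) :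
    Function.Surjective (toStalkHom s) := by
  subst hs
  intro b
  refine ⟨(stalkClosedPointIso (CommRingCat.of Λ)).hom b, ?_⟩
  show (Spec (CommRingCat.of Λ)).presheaf.germ ⊤ (closedPoint Λ) trivial
    ((Scheme.ΓSpecIso (CommRingCat.of Λ)).inv ((stalkClosedPointIso (CommRingCat.of Λ)).hom b)) = b
  rw [← AlgebraicGeometry.ΓSpecIso_hom_stalkClosedPointIso_inv (CommRingCat.of Λ)]
  show (stalkClosedPointIso (CommRingCat.of Λ)).inv ((Scheme.ΓSpecIso (CommRingCat.of Λ)).hom
    ((Scheme.ΓSpecIso (CommRingCat.of Λ)).inv ((stalkClosedPointIso (CommRingCat.of Λ)).hom b))) = b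
  rw [Iso.inv_hom_id_apply, Iso.hom_inv_id_apply]

theorem isUnit_toStalkHom_iff (s : Spec (CommRingCat.of Λ)) (r : Λ) :
    IsUnit (toStalkHom s r) ↔ r ∉ s.asIdeal := by
  letI : Algebra Λ ((Spec (CommRingCat.of Λ)).presheaf.stalk s) := (toStalkHom s).toAlgebra
  haveI : IsLocalization.AtPrime ((Spec (CommRingCat.of Λ)).presheaf.stalk s) s.asIdeal :=
    StructureSheaf.IsLocalization.to_stalk Λ s
  exact IsLocalization.AtPrime.isUnit_to_map_iff ((Spec (CommRingCat.of Λ)).presheaf.stalk s) s.asIdeal r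

variable {X : Scheme.{u}} (f : X ⟶ Spec (CommRingCat.of Λ))

theorem stalkMap_comp_toStalkHom (x : X) :
    (f.stalkMap x).hom.comp (toStalkHom (f x)) = (X.presheaf.germ ⊤ x trivial).hom.comp (Coh.toGlobal f) := by
  refine RingHom.ext fun r => ?_
  exact ConcreteCategory.congr_hom (Scheme.Hom.germ_stalkMap f ⊤ x trivial) ((Scheme.ΓSpecIso (CommRingCat.of Λ)).inv r)

theorem mem_span_map_C {R : Type u} [CommRing R] {σ : Type*} {n : ℕ} (c : Fin n → R) (F : MvPowerSeries σ R)
    (hF : ∀ m, MvPowerSeries.coeff m F ∈ Ideal.span (Set.range c)) :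
    F ∈ (Ideal.span (Set.range c)).map (MvPowerSeries.C (σ := σ) (R := R)) := by
  choose a ha using fun m => Ideal.mem_span_range_iff_exists_fun.1 (hF m)
  have e : F = ∑ j, MvPowerSeries.C (c j) * (show MvPowerSeries σ R from fun m => a m j) := by
    ext m
    rw [map_sum, ← ha m]
    refine Finset.sum_congr rfl fun j _ => ?_
    rw [MvPowerSeries.coeff_C_mul, mul_comm]
    rfl
  rw [e]
  exact Ideal.sum_mem _ fun j _ => Ideal.mul_mem_right _ _ (Ideal.mem_map_of_mem _ (Ideal.subset_span ⟨j, rfl⟩))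

theorem mem_comap_equiv {A B C : Type*} [CommRing A] [CommRing B] [CommRing C] (e : B ≃+* C) (g : A →+* C)
    (I : Ideal A) (z : B) : z ∈ (I.map g).comap e.toRingHom ↔ z ∈ I.map (e.symm.toRingHom.comp g) := by
  rw [← Ideal.map_map]
  have h : (I.map g).map e.symm.toRingHom = (I.map g).comap e.toRingHom := Ideal.map_symm e
  rw [h]

variable [IsLocalRing Λ] [IsNoetherianRing Λ] [IsLocallyNoetherian X] [LocallyOfFiniteType f]

/-- A point whose completion is `Λ[[x,y]]/(xy-u)` is a node of the closed fibre. -/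
theorem isNode_of_completion (u : Λ) (hu : u ∈ maximalIdeal Λ) (p : X) (hp : f p = closedPoint Λ)
    (e : AdicCompletion (maximalIdeal (X.presheaf.stalk p)) (X.presheaf.stalk p) ≃+*
        (MvPowerSeries (Fin 2) Λ ⧸ Ideal.span {MvPowerSeries.X 0 * MvPowerSeries.X 1 - MvPowerSeries.C u}))
    (he : ∀ c : Λ, e (algebraMap (X.presheaf.stalk p) _ (((X.presheaf.germ ⊤ p trivial).hom.comp (Coh.toGlobal f)) c)) =
        Ideal.Quotient.mk _ (MvPowerSeries.C c)) :
    @Curv2.IsNode ((Spec (CommRingCat.of Λ)).residueField (f p)) _ (f.fiber (f p))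
      ⟨f.fiberToSpecResidueField (f p)⟩ (f.asFiber p) := by
  let S := Spec (CommRingCat.of Λ)
  let k := S.residueField (f p)
  letI : (f.fiber (f p)).Over (Spec (CommRingCat.of k)) := ⟨f.fiberToSpecResidueField (f p)⟩
  haveI : LocallyOfFiniteType (f.fiber (f p) ↘ Spec (CommRingCat.of k)) :=
    MorphismProperty.pullback_snd f (S.fromSpecResidueField (f p)) inferInstance
  haveI : IsLocallyNoetherian (f.fiber (f p)) :=
    LocallyOfFiniteType.isLocallyNoetherian (f.fiber (f p) ↘ Spec (CommRingCat.of k))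
  set x := f.asFiber p with hxdef
  let α := (X.presheaf.germ ⊤ p trivial).hom.comp (Coh.toGlobal f)
  letI : Algebra (S.presheaf.stalk (f p)) (X.presheaf.stalk p) := (f.stalkMap p).hom.toAlgebra
  haveI : IsLocalHom (algebraMap (S.presheaf.stalk (f p)) (X.presheaf.stalk p)) :=
    inferInstanceAs (IsLocalHom (f.stalkMap p).hom)
  obtain ⟨π, hπ, hker, hπk⟩ := exists_fibre_stalk_hom f p
  obtain ⟨Ψ, hΨ, hΨπ, hΨker⟩ := exists_fibre_completion (A := S.presheaf.stalk (f p)) π hπ hker
  have hγ := toStalkHom_surjective (f p) hp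
  have hα : ∀ r, α r = (f.stalkMap p).hom (toStalkHom (f p) r) := fun r =>
    (RingHom.congr_fun (stalkMap_comp_toStalkHom f p) r).symm
  have hmax : maximalIdeal (S.presheaf.stalk (f p)) = (maximalIdeal Λ).map (toStalkHom (f p)) :=
    (IsLocalRing.map_maximalIdeal_of_surjective _ hγ).symm
  let D := (f.fiber (f p)).presheaf.stalk x
  let κ := (f.fiber (f p)).residueField x
  letI : Algebra k D := Curv2.stalkAlgebra k _ x
  letI : Algebra k κ := Curv2.resAlgebra k _ x
  let χ : Λ →+* κ := ((f.fiber (f p)).residue x).hom.comp (π.comp α)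
  have hχk : ∀ r, χ r = Curv2.resMap k _ x (S.residue (f p) (toStalkHom (f p) r)) := fun r => by
    show (f.fiber (f p)).residue x (π (α r)) = _
    rw [hα, hπk]
    rfl
  -- residue fields agree
  letI : Algebra Λ (X.presheaf.stalk p) := α.toAlgebra
  obtain ⟨b₁, b₂, hb₁, hb₂, -, hres⟩ := exists_approx_of_completion u hu e he 0
  have hχs : Function.Surjective χ := by
    intro c
    obtain ⟨d, rfl⟩ := (f.fiber (f p)).residue_surjective x c
    obtain ⟨b, rfl⟩ := hπ d
    obtain ⟨r, hr⟩ := hres b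
    have hle : Ideal.span {b₁, b₂} ⊔ maximalIdeal (X.presheaf.stalk p) ^ 2 ≤ maximalIdeal (X.presheaf.stalk p) := by
      refine sup_le ?_ (Ideal.pow_le_self two_ne_zero)
      rw [Ideal.span_le]
      rintro _ (rfl | rfl) <;> assumption
    have hm : b - α r ∈ maximalIdeal (X.presheaf.stalk p) := hle hr
    refine ⟨r, ?_⟩
    show (f.fiber (f p)).residue x (π (α r)) = (f.fiber (f p)).residue x (π b)
    rw [eq_comm, ← sub_eq_zero, ← map_sub, ← map_sub]
    refine (IsLocalRing.residue_eq_zero_iff _).2 ?_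
    rw [← IsLocalRing.map_maximalIdeal_of_surjective π hπ]
    exact Ideal.mem_map_of_mem _ hm
  have hks : Function.Surjective (algebraMap k κ) := fun c => by
    obtain ⟨r, rfl⟩ := hχs c
    exact ⟨_, (hχk r).symm⟩
  have hχker : RingHom.ker χ = maximalIdeal Λ := by
    haveI : (RingHom.ker χ).IsMaximal := RingHom.ker_isMaximal_of_surjective χ hχs
    exact IsLocalRing.eq_maximalIdeal inferInstance
  have hxc : IsClosed ({x} : Set (f.fiber (f p))) := by
    haveI : JacobsonSpace (f.fiber (f p)) := LocallyOfFiniteType.jacobsonSpace (f.fiber (f p) ↘ Spec (CommRingCat.of k))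
    rw [isClosed_singleton_iff_locallyOfFiniteType]
    have h : (f.fiber (f p)).fromSpecResidueField x ≫ (f.fiber (f p) ↘ Spec (CommRingCat.of k)) =
        Spec.map (CommRingCat.ofHom (algebraMap k κ)) := by
      rw [Scheme.fromSpecResidueField, Category.assoc, ← SpecMap_stalkMap, ← Spec.map_comp]
      rfl
    haveI : LocallyOfFiniteType
        ((f.fiber (f p)).fromSpecResidueField x ≫ (f.fiber (f p) ↘ Spec (CommRingCat.of k))) := by
      rw [h]
      exact (HasRingHomProperty.Spec_iff (P := @LocallyOfFiniteType)).2 (RingHom.FiniteType.of_surjective _ hks)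
    exact locallyOfFiniteType_of_comp _ (f.fiber (f p) ↘ Spec (CommRingCat.of k))
  refine (isNode_iff_quad (k := k) x hxc).2 ⟨?_, 0, 1, 0, by norm_num, ?_⟩
  · exact ⟨fun c => by obtain ⟨t, rfl⟩ := hks c; exact isSeparable_algebraMap _⟩
  -- the completion of the fibre
  let R₀ := MvPowerSeries (Fin 2) Λ ⧸ Ideal.span
    {(MvPowerSeries.X 0 * MvPowerSeries.X 1 - MvPowerSeries.C u : MvPowerSeries (Fin 2) Λ)}
  let J : Ideal (MvPowerSeries (Fin 2) κ) := Ideal.span
    {MvPowerSeries.C (0 : κ) * MvPowerSeries.X 0 ^ 2 + MvPowerSeries.C (1 : κ) * MvPowerSeries.X 0 * MvPowerSeries.X 1 +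
      MvPowerSeries.C (0 : κ) * MvPowerSeries.X 1 ^ 2}
  have hJ : J = Ideal.span {(MvPowerSeries.X 0 * MvPowerSeries.X 1 : MvPowerSeries (Fin 2) κ)} := by
    simp [J]
  let Φ : R₀ →+* MvPowerSeries (Fin 2) κ ⧸ J := Ideal.Quotient.lift _
    ((Ideal.Quotient.mk J).comp (MvPowerSeries.map χ)) fun z hz => by
      obtain ⟨w, rfl⟩ := Ideal.mem_span_singleton'.1 hz
      have hχu : χ u = 0 := RingHom.mem_ker.1 (hχker ▸ hu)
      rw [map_mul]
      refine mul_eq_zero_of_right _ (Ideal.Quotient.eq_zero_iff_mem.2 ?_)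
      rw [map_sub, map_mul, MvPowerSeries.map_X, MvPowerSeries.map_X, MvPowerSeries.map_C, hχu, map_zero,
        sub_zero, hJ]
      exact Ideal.mem_span_singleton_self _
  have hΦmk : ∀ z, Φ (Ideal.Quotient.mk _ z) = Ideal.Quotient.mk J (MvPowerSeries.map χ z) := fun z => rfl
  have hΦs : Function.Surjective Φ := by
    intro c
    obtain ⟨c, rfl⟩ := Ideal.Quotient.mk_surjective c
    refine ⟨Ideal.Quotient.mk _ (fun m => Function.surjInv hχs (MvPowerSeries.coeff m c)), ?_⟩
    rw [hΦmk]
    congr 1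
    ext m
    rw [MvPowerSeries.coeff_map]
    exact Function.surjInv_eq hχs _
  have hΦker : RingHom.ker Φ = (maximalIdeal Λ).map ((Ideal.Quotient.mk _).comp MvPowerSeries.C : Λ →+* R₀) := by
    refine le_antisymm (fun z hz => ?_) ?_
    · obtain ⟨z, rfl⟩ := Ideal.Quotient.mk_surjective z
      rw [RingHom.mem_ker, hΦmk, Ideal.Quotient.eq_zero_iff_mem, hJ] at hz
      obtain ⟨w, hw⟩ := Ideal.mem_span_singleton.1 hz
      let w' : MvPowerSeries (Fin 2) Λ := fun m => Function.surjInv hχs (MvPowerSeries.coeff m w)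
      have hw' : MvPowerSeries.map χ w' = w := by
        ext m
        rw [MvPowerSeries.coeff_map]
        exact Function.surjInv_eq hχs _
      let z' := z - (MvPowerSeries.X 0 * MvPowerSeries.X 1 - MvPowerSeries.C u) * w'
      have hz' : MvPowerSeries.map χ z' = 0 := by
        rw [map_sub, map_mul, map_sub, map_mul, MvPowerSeries.map_X, MvPowerSeries.map_X, MvPowerSeries.map_C,
          RingHom.mem_ker.1 (hχker ▸ hu : u ∈ RingHom.ker χ), map_zero, sub_zero, hw', hw, sub_self]
      obtain ⟨n, c, hc⟩ := Submodule.fg_iff_exists_fin_generating_family.1 (IsNoetherian.noetherian (maximalIdeal Λ))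
      have hmem : z' ∈ (Ideal.span (Set.range c)).map (MvPowerSeries.C (σ := Fin 2) (R := Λ)) := by
        refine mem_span_map_C c z' fun m => ?_
        rw [show Ideal.span (Set.range c) = maximalIdeal Λ from hc, ← hχker, RingHom.mem_ker,
          ← MvPowerSeries.coeff_map, hz', map_zero]
      rw [show Ideal.span (Set.range c) = maximalIdeal Λ from hc] at hmem
      have h := Ideal.mem_map_of_mem (Ideal.Quotient.mk
        (Ideal.span {(MvPowerSeries.X 0 * MvPowerSeries.X 1 - MvPowerSeries.C u : MvPowerSeries (Fin 2) Λ)})) hmem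
      rw [Ideal.map_map, map_sub, map_mul,
        Ideal.Quotient.eq_zero_iff_mem.2 (Ideal.mem_span_singleton_self _), zero_mul, sub_zero] at h
      exact h
    · rw [Ideal.map_le_iff_le_comap]
      intro r hr
      rw [Ideal.mem_comap, RingHom.mem_ker, RingHom.comp_apply, hΦmk, MvPowerSeries.map_C,
        RingHom.mem_ker.1 (hχker ▸ hr : r ∈ RingHom.ker χ), map_zero, map_zero]
  let Θ := Φ.comp e.toRingHom
  have hΘs : Function.Surjective Θ := hΦs.comp e.surjective
  have hΘker : RingHom.ker Θ = RingHom.ker Ψ := by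
    rw [← RingHom.comap_ker, hΦker]
    ext z
    rw [RingHom.mem_ker, hΨker, hmax, Ideal.map_map]
    have : (algebraMap (S.presheaf.stalk (f p)) (AdicCompletion (maximalIdeal (X.presheaf.stalk p)) (X.presheaf.stalk p))).comp
        (toStalkHom (f p)) = e.symm.toRingHom.comp ((Ideal.Quotient.mk _).comp MvPowerSeries.C) := by
      refine RingHom.ext fun r => e.injective ?_
      show e (algebraMap (S.presheaf.stalk (f p)) _ (toStalkHom (f p) r)) = e (e.symm _)
      rw [e.apply_symm_apply, IsScalarTower.algebraMap_apply (S.presheaf.stalk (f p)) (X.presheaf.stalk p)]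
      show e (algebraMap (X.presheaf.stalk p) _ ((f.stalkMap p).hom (toStalkHom (f p) r))) = _
      rw [← hα, he]
      rfl
    rw [this]
    exact mem_comap_equiv e _ _ z
  let E := (RingHom.quotientKerEquivOfSurjective hΨ).symm.trans
    ((Ideal.quotEquivOfEq hΘker.symm).trans (RingHom.quotientKerEquivOfSurjective hΘs))
  have hE : ∀ z, E (Ψ z) = Θ z := fun z => by
    have h1 : (RingHom.quotientKerEquivOfSurjective hΨ).symm (Ψ z) = Ideal.Quotient.mk _ z := by
      rw [RingEquiv.symm_apply_eq]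
      rfl
    simp only [E, RingEquiv.trans_apply, h1]
    rfl
  refine ⟨E, fun t => ?_⟩
  obtain ⟨t, rfl⟩ := S.residue_surjective (f p) t
  obtain ⟨r, rfl⟩ := hγ t
  show E (algebraMap D _ (Curv2.stalkMap k _ x (S.residue (f p) (toStalkHom (f p) r)))) = _
  rw [← hπk, ← hα, ← hΨπ, hE]
  show Φ (e _) = _
  rw [he, hΦmk, MvPowerSeries.map_C, hχk]
  rfl

variable [Flat f] [LocallyOfFinitePresentation f]

/-- Generisations of a deformed node where `u` is invertible are smooth of relative dimension one. -/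
theorem smooth_of_specializes (u : Λ) (hu : u ∈ maximalIdeal Λ) (p q : X) (hp : f p = closedPoint Λ)
    (hqp : q ⤳ p) (huq : u ∉ (f q).asIdeal)
    (e : AdicCompletion (maximalIdeal (X.presheaf.stalk p)) (X.presheaf.stalk p) ≃+*
        (MvPowerSeries (Fin 2) Λ ⧸ Ideal.span {MvPowerSeries.X 0 * MvPowerSeries.X 1 - MvPowerSeries.C u}))
    (he : ∀ c : Λ, e (algebraMap (X.presheaf.stalk p) _ (((X.presheaf.germ ⊤ p trivial).hom.comp (Coh.toGlobal f)) c)) =
        Ideal.Quotient.mk _ (MvPowerSeries.C c)) :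
    ∃ U : X.Opens, q ∈ U ∧ SmoothOfRelativeDimension 1 (U.ι ≫ f) := by
  obtain ⟨O, hpO, hO⟩ := exists_open_isNodalFamily f p (isNode_of_completion f u hu p hp e he)
  have hqO : q ∈ O := hqp.mem_open O.2 hpO
  rcases smooth_or_isNode f O hO q hqO with ⟨U, hqU, hU⟩ | hn
  · -- smooth, of relative dimension one as the family is nodal
    let S := Spec (CommRingCat.of Λ)
    let fst := pullback.fst f (𝟙 S)
    have hV : Curv2.IsNodalFamily ((fst ⁻¹ᵁ O).ι ≫ pullback.snd f (𝟙 S)) :=
      isNodalFamily_of_isPullback ((isPullback_morphismRestrict fst O).paste_vert (IsPullback.of_hasPullback f (𝟙 S))) hO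
    obtain ⟨v, hv, -⟩ := Scheme.exists_preimage_of_isPullback (IsPullback.of_hasPullback f (𝟙 S)) q (f q) rfl
    obtain ⟨W, hW, -, hW1⟩ := exists_open_isNodalFamily_of_smooth f (𝟙 S) (fst ⁻¹ᵁ O) hV v
      (by show fst v ∈ O; rw [hv]; exact hqO) U (by show fst v ∈ U; rw [hv]; exact hqU) hU
    exact ⟨W, hv ▸ hW, hW1⟩
  · exfalso
    let α := (X.presheaf.germ ⊤ p trivial).hom.comp (Coh.toGlobal f)
    letI : Algebra Λ (X.presheaf.stalk p) := α.toAlgebra
    haveI : Algebra.EssFiniteType Λ (X.presheaf.stalk p) := by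
      rw [← RingHom.essFiniteType_algebraMap]
      show α.EssFiniteType
      rw [show α = (f.stalkMap p).hom.comp (toStalkHom (f p)) from (stalkMap_comp_toStalkHom f p).symm]
      exact RingHom.EssFiniteType.comp
        (RingHom.FiniteType.of_surjective _ (toStalkHom_surjective (f p) hp)).essFiniteType
        (LocallyOfFiniteType.stalkMap f p)
    let sp := (X.presheaf.stalkSpecializes hqp).hom
    have hspα : ∀ r, sp (α r) = (f.stalkMap q).hom (toStalkHom (f q) r) := fun r => by
      rw [← RingHom.comp_apply, ← RingHom.comp_apply (f.stalkMap q).hom, stalkMap_comp_toStalkHom f q]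
      exact ConcreteCategory.congr_hom (X.presheaf.germ_stalkSpecializes (U := ⊤) trivial hqp) (Coh.toGlobal f r)
    let Q : Ideal (X.presheaf.stalk p) := (maximalIdeal (X.presheaf.stalk q)).comap sp
    haveI : Q.IsPrime := Ideal.IsPrime.comap sp
    have hQ : algebraMap Λ (X.presheaf.stalk p) u ∉ Q := fun h => by
      have h1 : sp (α u) ∈ maximalIdeal (X.presheaf.stalk q) := h
      rw [hspα, mem_maximalIdeal, mem_nonunits_iff] at h1
      exact h1 (((isUnit_toStalkHom_iff (f q) u).2 huq).map _)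
    obtain ⟨c, hc⟩ := exists_derivation_bound u (exists_approx_of_completion u hu e he) Q hQ
    obtain ⟨F, _, φ, D, hφ, hleib, hbase, hDc, hD0⟩ := exists_derivation_of_isNode f q hn (sp c)
    have h0 : D.comp sp.toAddMonoidHom = 0 := by
      refine hc F (φ.comp sp) (D.comp sp.toAddMonoidHom) (by rw [← RingHom.comap_ker, hφ]) (fun a b => ?_) (fun r => ?_) hDc
      · show D (sp (a * b)) = _
        rw [map_mul, hleib]
        rfl
      · show D (sp (α r)) = 0
        rw [hspα]
        exact hbase _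
    refine hD0 (DFunLike.ext _ _ fun b => ?_)
    obtain ⟨V, hV, hpV, -⟩ := exists_isAffineOpen_mem_and_subset (X := X) (U := ⊤) (x := p) trivial
    have hqV : q ∈ V := hqp.mem_open V.2 hpV
    letI := X.presheaf.algebra_section_stalk ⟨q, hqV⟩
    haveI := hV.isLocalization_stalk ⟨q, hqV⟩
    obtain ⟨⟨a, s⟩, hs⟩ := IsLocalization.surj (hV.primeIdealOf ⟨q, hqV⟩).asIdeal.primeCompl b
    have hgerm : ∀ t, D (algebraMap Γ(X, V) (X.presheaf.stalk q) t) = 0 := fun t => by
      have : algebraMap Γ(X, V) (X.presheaf.stalk q) t = sp (X.presheaf.germ V p hpV t) :=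
        (ConcreteCategory.congr_hom (X.presheaf.germ_stalkSpecializes (U := V) hpV hqp) t).symm
      rw [this]
      exact DFunLike.congr_fun h0 _
    have h := congrArg D hs
    rw [hleib, hgerm, hgerm, mul_zero, zero_add] at h
    refine (mul_eq_zero.1 h).resolve_left fun hz => ?_
    have : algebraMap Γ(X, V) (X.presheaf.stalk q) s ∈ maximalIdeal (X.presheaf.stalk q) := hφ ▸ RingHom.mem_ker.2 hz
    exact (mem_maximalIdeal _).1 this (IsLocalization.map_units _ s)

end Groth.L21.Nodal
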