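import Groth.Agent.L21.Nodal.AlgNodeFS
import Groth.Agent.L06.WedgeDVR
import Groth.Prelude.Def_Curv2
import Groth.Prelude.Def_Brnch
import Mathlib.FieldTheory.IsAlgClosed.Basic
import Mathlib.RingTheory.Polynomial.ScaleRoots
import Mathlib.RingTheory.Ideal.KrullsHeightTheorem
import Mathlib.LinearAlgebra.Matrix.Charpoly.LinearMap

/-!
# One-dimensional local rings with δ-invariant one and two geometric branches

The normalisation is generated by one element satisfying a quadratic equation, and this compares with nodes.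
-/

set_option autoImplicit false
set_option maxSynthPendingDepth 3
set_option linter.style.haveILetI false
universe u

open IsLocalRing Polynomial

noncomputable section

namespace Groth.L21.Nodal.QuadNorm

variable {A : Type u} [CommRing A] [IsLocalRing A]

/-- The normalisation of `A`. -/
local notation "C" => integralClosure A (FractionRing A)

/-- The normalisation is `A + A θ` with `θ² = q + p θ`, the maximal ideal is the conductor. -/
structure IsQuad (θ : C) (p q : A) : Prop where
  gen : ∀ z : C, ∃ u v : A, z = algebraMap A C u + algebraMap A C v * θ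
  mem_iff : ∀ v : A, (∃ a : A, algebraMap A C a = algebraMap A C v * θ) ↔ v ∈ maximalIdeal A
  absorb : ∀ v ∈ maximalIdeal A, ∃ a ∈ maximalIdeal A, algebraMap A C a = algebraMap A C v * θ
  sq : θ * θ = algebraMap A C q + algebraMap A C p * θ

theorem algebraMap_injective : Function.Injective (algebraMap A C) := fun _ _ h =>
  IsFractionRing.injective A (FractionRing A) (congrArg Subtype.val h)

theorem IsQuad.eq_zero {θ : C} {p q : A} (h : IsQuad θ p q) {u v : A}
    (huv : algebraMap A C u + algebraMap A C v * θ = 0) : u ∈ maximalIdeal A ∧ v ∈ maximalIdeal A := by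
  have hv : v ∈ maximalIdeal A := (h.mem_iff v).1 ⟨-u, by rw [map_neg]; linear_combination -huv⟩
  obtain ⟨a, ha, hae⟩ := h.absorb v hv
  have : u = -a := algebraMap_injective (by rw [map_neg, hae]; linear_combination huv)
  exact ⟨this ▸ neg_mem ha, hv⟩

theorem IsQuad.deltaInv_eq_one {θ : C} {p q : A} (h : IsQuad θ p q) : Curv2.deltaInv A = 1 := by
  let R₁ : Submodule A C := LinearMap.range (Algebra.linearMap A C)
  let f : A →ₗ[A] C ⧸ R₁ := LinearMap.toSpanSingleton A _ (R₁.mkQ θ)
  have hf : Function.Surjective f := fun y => by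
    obtain ⟨z, rfl⟩ := R₁.mkQ_surjective y
    obtain ⟨u, v, rfl⟩ := h.gen z
    refine ⟨v, ?_⟩
    rw [LinearMap.toSpanSingleton_apply, ← map_smul]
    refine (Submodule.Quotient.eq R₁).2 ⟨-u, ?_⟩
    rw [Algebra.linearMap_apply, map_neg, Algebra.smul_def]
    ring
  have hker : LinearMap.ker f = maximalIdeal A := by
    ext v
    rw [LinearMap.mem_ker, LinearMap.toSpanSingleton_apply, ← map_smul, Submodule.mkQ_apply,
      Submodule.Quotient.mk_eq_zero, ← h.mem_iff, LinearMap.mem_range]
    simp only [Algebra.linearMap_apply, Algebra.smul_def]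
  have e := ((Submodule.quotEquivOfEq _ _ hker.symm).trans (f.quotKerEquivOfSurjective hf))
  rw [Curv2.deltaInv, show LinearMap.range (Algebra.linearMap A C) = R₁ from rfl, ← e.length_eq]
  exact Module.length_eq_one_iff.2
    (isSimpleModule_iff_isCoatom.2 (Ideal.isMaximal_def.1 (IsLocalRing.maximalIdeal.isMaximal A)))

theorem exists_isQuad (hA : IsNoetherianRing A) (hfin : Module.Finite A C) (hδ : Curv2.deltaInv A = 1) :
    ∃ (θ : C) (p q : A), IsQuad θ p q := by
  let R₁ : Submodule A C := LinearMap.range (Algebra.linearMap A C)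
  haveI hs : IsSimpleModule A (C ⧸ R₁) := Module.length_eq_one_iff.1 hδ
  haveI : Nontrivial (C ⧸ R₁) := IsSimpleModule.nontrivial A _
  obtain ⟨y, hy⟩ := exists_ne (0 : C ⧸ R₁)
  obtain ⟨θ, rfl⟩ := R₁.mkQ_surjective y
  have hker : LinearMap.ker (LinearMap.toSpanSingleton A _ (R₁.mkQ θ)) = maximalIdeal A :=
    IsLocalRing.eq_maximalIdeal (IsSimpleModule.ker_toSpanSingleton_isMaximal A hy)
  have hgen : ∀ z : C, ∃ u v : A, z = algebraMap A C u + algebraMap A C v * θ := fun z => by
    obtain ⟨v, hv⟩ := IsSimpleModule.toSpanSingleton_surjective A hy (R₁.mkQ z)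
    rw [LinearMap.toSpanSingleton_apply, ← map_smul] at hv
    obtain ⟨u, hu⟩ := (Submodule.Quotient.eq R₁).1 hv.symm
    exact ⟨u, v, by rw [Algebra.linearMap_apply, Algebra.smul_def] at hu; linear_combination -hu⟩
  have hiff : ∀ v : A, (∃ a : A, algebraMap A C a = algebraMap A C v * θ) ↔ v ∈ maximalIdeal A := fun v => by
    rw [← hker, LinearMap.mem_ker, LinearMap.toSpanSingleton_apply, ← map_smul, Submodule.mkQ_apply,
      Submodule.Quotient.mk_eq_zero, LinearMap.mem_range]
    simp only [Algebra.linearMap_apply, Algebra.smul_def]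
  haveI : Algebra.IsIntegral A C := inferInstance
  obtain ⟨p₁, hp₁⟩ := hgen (θ * θ)
  obtain ⟨p, hp⟩ := hp₁
  refine ⟨θ, p, p₁, hgen, hiff, fun v hv => ?_, hp⟩
  obtain ⟨a, ha⟩ := (hiff v).2 hv
  haveI : Nontrivial C := algebraMap_injective.nontrivial
  obtain ⟨n, hn⟩ := Ideal.exists_maximal C
  have hlie : n.comap (algebraMap A C) = maximalIdeal A :=
    IsLocalRing.eq_maximalIdeal (Ideal.isMaximal_comap_of_isIntegral_of_isMaximal n)
  refine ⟨a, hlie.le ?_, ha⟩
  rw [Ideal.mem_comap, ha]
  exact n.mul_mem_right _ (hlie.ge hv : v ∈ n.comap (algebraMap A C))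

variable [IsReduced A]

/-- The geometric branches are the points of the normalisation over the algebraic closure of the residue field. -/
theorem numGeomBranches_eq_card_hom [IsNoetherianRing A] :
    Brnch.numGeomBranches A = ENat.card {σ : C →+* AlgebraicClosure (ResidueField A) //
      σ.comp (algebraMap A C) = Brnch.toClosure A} := by
  obtain ⟨e, he⟩ := Groth.L06.WedgeDVR.exists_normRed_ringEquiv A
  rw [Brnch.numGeomBranches, if_pos ((⊥ : Ideal A).finite_minimalPrimes_of_isNoetherianRing A)]
  let F : (Σ m' : MaximalSpectrum (CAlg2.normRed A), Brnch.Emb A m') →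
      {σ : C →+* AlgebraicClosure (ResidueField A) // σ.comp (algebraMap A C) = Brnch.toClosure A} :=
    fun x => ⟨(x.2.1.comp (Ideal.Quotient.mk x.1.asIdeal)).comp e.toRingHom, by
      refine RingHom.ext fun a => ?_
      show x.2.1 (Ideal.Quotient.mk x.1.asIdeal (e (algebraMap A C a))) = _
      rw [he a]
      exact RingHom.congr_fun x.2.2 a⟩
  refine ENat.card_congr (Equiv.ofBijective F ⟨?_, ?_⟩)
  · rintro ⟨m, σ⟩ ⟨m', σ'⟩ h
    have h' : ∀ z, σ.1 (Ideal.Quotient.mk m.asIdeal z) = σ'.1 (Ideal.Quotient.mk m'.asIdeal z) := fun z => by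
      have := RingHom.congr_fun (congrArg Subtype.val h) (e.symm z)
      simpa [F] using this
    haveI := m.isMaximal
    haveI := m'.isMaximal
    letI := Ideal.Quotient.field m.asIdeal
    letI := Ideal.Quotient.field m'.asIdeal
    obtain rfl : m = m' := MaximalSpectrum.ext (Ideal.ext fun z => by
      rw [← Ideal.Quotient.eq_zero_iff_mem, ← Ideal.Quotient.eq_zero_iff_mem, ← map_eq_zero σ.1,
        ← map_eq_zero σ'.1, h'])
    exact congrArg (Sigma.mk m) (Subtype.ext (RingHom.ext fun w => by
      obtain ⟨z, rfl⟩ := Ideal.Quotient.mk_surjective w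
      exact h' z))
  · intro σ
    let τ : CAlg2.normRed A →+* AlgebraicClosure (ResidueField A) := σ.1.comp e.symm.toRingHom
    have hcompat : ∀ a : A, τ (algebraMap (CAlg2.red A) (CAlg2.normRed A) (Ideal.Quotient.mk _ a)) =
        Brnch.toClosure A a := fun a => by
      rw [← he a]
      show σ.1 (e.symm (e (algebraMap A C a))) = _
      rw [RingEquiv.symm_apply_apply]
      exact RingHom.congr_fun σ.2 a
    have hmax : (RingHom.ker τ).IsMaximal := by
      haveI : (RingHom.ker σ.1).IsPrime := RingHom.ker_isPrime _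
      have hc : (RingHom.ker σ.1).comap (algebraMap A C) = maximalIdeal A := by
        ext a
        rw [Ideal.mem_comap, RingHom.mem_ker, ← RingHom.comp_apply, σ.2, Brnch.toClosure, RingHom.comp_apply,
          map_eq_zero, residue_eq_zero_iff]
      haveI := Ideal.isMaximal_of_isIntegral_of_isMaximal_comap (R := A) (RingHom.ker σ.1)
        (hc ▸ IsLocalRing.maximalIdeal.isMaximal A)
      have : RingHom.ker τ = (RingHom.ker σ.1).comap e.symm.toRingHom := (RingHom.comap_ker _ _).symm
      rw [this]
      exact Ideal.comap_isMaximal_of_surjective _ e.symm.surjective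
    refine ⟨⟨⟨RingHom.ker τ, hmax⟩, Ideal.Quotient.lift _ τ fun z hz => hz, RingHom.ext hcompat⟩,
      Subtype.ext (RingHom.ext fun z => ?_)⟩
    show σ.1 (e.symm (e z)) = σ.1 z
    rw [RingEquiv.symm_apply_apply]

theorem IsQuad.numGeomBranches_eq_two_iff [IsNoetherianRing A] {θ : C} {p q : A} (h : IsQuad θ p q) :
    Brnch.numGeomBranches A = 2 ↔ residue A (p * p + 4 * q) ≠ 0 := by
  rw [numGeomBranches_eq_card_hom]
  let K := AlgebraicClosure (ResidueField A)
  let σ₀ : A →+* K := Brnch.toClosure A
  have hσ₀ : ∀ a, σ₀ a = 0 ↔ a ∈ maximalIdeal A := fun a => by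
    show Brnch.toClosure A a = 0 ↔ _
    rw [Brnch.toClosure, RingHom.comp_apply, map_eq_zero, residue_eq_zero_iff]
  let T : Set K := {r | r * r = σ₀ q + σ₀ p * r}
  let F : {σ : C →+* K // σ.comp (algebraMap A C) = σ₀} → T := fun σ => ⟨σ.1 θ, by
    have h1 := congrArg σ.1 h.sq
    rw [map_mul, map_add, map_mul, ← RingHom.comp_apply σ.1, ← RingHom.comp_apply σ.1, σ.2] at h1
    exact h1⟩
  have hF : Function.Bijective F := by
    refine ⟨fun σ τ hst => Subtype.ext (RingHom.ext fun z => ?_), fun r => ?_⟩
    · obtain ⟨u, v, rfl⟩ := h.gen z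
      have h1 : σ.1 θ = τ.1 θ := congrArg Subtype.val hst
      have h2 : ∀ a, σ.1 (algebraMap A C a) = τ.1 (algebraMap A C a) := fun a =>
        (RingHom.congr_fun σ.2 a).trans (RingHom.congr_fun τ.2 a).symm
      simp only [map_add, map_mul, h1, h2]
    · choose u v huv using h.gen
      let g : C → K := fun z => σ₀ (u z) + σ₀ (v z) * r.1
      have hg : ∀ a b : A, g (algebraMap A C a + algebraMap A C b * θ) = σ₀ a + σ₀ b * r.1 := fun a b => by
        set z := algebraMap A C a + algebraMap A C b * θ with hz
        obtain ⟨h1, h2⟩ := h.eq_zero (u := a - u z) (v := b - v z) (by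
          rw [map_sub, map_sub]
          linear_combination huv z)
        rw [← hσ₀, map_sub, sub_eq_zero] at h1 h2
        show σ₀ (u z) + σ₀ (v z) * r.1 = _
        rw [h1, h2]
      have hga : ∀ a : A, g (algebraMap A C a) = σ₀ a := fun a => by
        simpa using hg a 0
      have hr2 : r.1 * r.1 = σ₀ q + σ₀ p * r.1 := r.2
      let τ : C →+* K :=
        { toFun := g
          map_one' := by rw [← map_one (algebraMap A C), hga, map_one]
          map_zero' := by rw [← map_zero (algebraMap A C), hga, map_zero]
          map_add' := fun z w => by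
            obtain ⟨a, b, rfl⟩ := h.gen z
            obtain ⟨c, d, rfl⟩ := h.gen w
            rw [hg, hg, show algebraMap A C a + algebraMap A C b * θ + (algebraMap A C c + algebraMap A C d * θ) =
              algebraMap A C (a + c) + algebraMap A C (b + d) * θ by rw [map_add, map_add]; ring, hg,
              map_add, map_add]
            ring
          map_mul' := fun z w => by
            obtain ⟨a, b, rfl⟩ := h.gen z
            obtain ⟨c, d, rfl⟩ := h.gen w
            rw [hg, hg, show (algebraMap A C a + algebraMap A C b * θ) * (algebraMap A C c + algebraMap A C d * θ) =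
              algebraMap A C (a * c + b * d * q) + algebraMap A C (a * d + b * c + b * d * p) * θ by
                simp only [map_add, map_mul]
                linear_combination (algebraMap A C b * algebraMap A C d) * h.sq, hg]
            simp only [map_add, map_mul]
            linear_combination -(σ₀ b * σ₀ d) * hr2 }
      refine ⟨⟨τ, RingHom.ext hga⟩, Subtype.ext ?_⟩
      show g θ = r.1
      simpa using hg 0 1
  show ENat.card {σ : C →+* K // σ.comp (algebraMap A C) = σ₀} = 2 ↔ _
  rw [ENat.card_congr (Equiv.ofBijective F hF), ← Set.encard]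
  have hdeg : (X * X - Polynomial.C (σ₀ p) * X - Polynomial.C (σ₀ q)).degree = ((2 : ℕ) : WithBot ℕ) := by
    compute_degree!
  obtain ⟨r, hr⟩ := IsAlgClosed.exists_root (X * X - Polynomial.C (σ₀ p) * X - Polynomial.C (σ₀ q))
    (by rw [hdeg]; decide)
  simp only [IsRoot.def, eval_sub, eval_mul, eval_X, eval_C] at hr
  have hT : T = {r, σ₀ p - r} := by
    ext s
    simp only [T, Set.mem_setOf_eq, Set.mem_insert_iff, Set.mem_singleton_iff]
    constructor
    · intro hs
      have h1 : (s - r) * (s - (σ₀ p - r)) = 0 := by linear_combination hs - hr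
      rcases mul_eq_zero.1 h1 with h1 | h1
      · exact Or.inl (sub_eq_zero.1 h1)
      · exact Or.inr (sub_eq_zero.1 h1)
    · rintro (rfl | rfl)
      · linear_combination hr
      · linear_combination hr
  have hd : residue A (p * p + 4 * q) ≠ 0 ↔ r ≠ σ₀ p - r := by
    rw [Ne, residue_eq_zero_iff, ← hσ₀, map_add, map_mul, map_mul, map_ofNat, not_iff_not]
    constructor
    · intro hz
      have h1 : (2 * r - σ₀ p) ^ 2 = 0 := by linear_combination hz + 4 * hr
      have h2 := pow_eq_zero_iff two_ne_zero |>.1 h1
      linear_combination h2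
    · intro hz
      linear_combination (2 * r - σ₀ p) * hz - 4 * hr
  rw [hT, hd]
  refine ⟨fun h2 he => ?_, fun hne => Set.encard_pair hne⟩
  rw [← he, Set.insert_eq_of_mem (Set.mem_singleton _), Set.encard_singleton] at h2
  exact absurd h2 (by norm_num)

end Groth.L21.Nodal.QuadNorm
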