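import Groth.Agent.L21.Nodal.QuadNorm

/-!
# Nodes and quadratic normalisations

A nondegenerate quadratic cone gives a normalisation generated by one quadratic element with unit discriminant,
and conversely.
-/

set_option autoImplicit false
set_option maxSynthPendingDepth 3
set_option linter.style.haveILetI false
universe u

open IsLocalRing Polynomial
open scoped nonZeroDivisors

noncomputable section

namespace Groth.L21.Nodal.QuadNorm

variable {A : Type u} [CommRing A] [IsLocalRing A] [IsReduced A]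

/-- The normalisation of `A`. -/
local notation "C" => integralClosure A (FractionRing A)

/-- The fraction ring of `A`. -/
local notation "K" => FractionRing A

/-- Change coordinates so that the coefficient of `y²` is a unit. -/
theorem exists_unit_coeff (x y a b c : A) (hspan : Ideal.span {x, y} = maximalIdeal A)
    (hD : IsUnit (4 * a * c - b ^ 2)) (hq : a * x ^ 2 + b * x * y + c * y ^ 2 ∈ maximalIdeal A ^ 3) :
    ∃ x' y' a' b' c' : A, Ideal.span {x', y'} = maximalIdeal A ∧ IsUnit (4 * a' * c' - b' ^ 2) ∧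
      IsUnit c' ∧ a' * x' ^ 2 + b' * x' * y' + c' * y' ^ 2 ∈ maximalIdeal A ^ 3 := by
  by_cases hc : IsUnit c
  · exact ⟨x, y, a, b, c, hspan, hD, hc, hq⟩
  by_cases ha : IsUnit a
  · exact ⟨y, x, c, b, a, by rw [Set.pair_comm, hspan], by rwa [show 4 * c * a = 4 * a * c by ring], ha,
      by rwa [show c * y ^ 2 + b * y * x + a * x ^ 2 = a * x ^ 2 + b * x * y + c * y ^ 2 by ring]⟩
  refine ⟨x - y, y, a, 2 * a + b, a + b + c, ?_, ?_, ?_, ?_⟩
  · rw [← hspan]
    refine le_antisymm (Ideal.span_le.2 ?_) (Ideal.span_le.2 ?_)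
    · rintro _ (rfl | rfl)
      · exact Ideal.mem_span_pair.2 ⟨1, -1, by ring⟩
      · exact Ideal.subset_span (Or.inr rfl)
    · rintro _ (rfl | rfl)
      · exact Ideal.mem_span_pair.2 ⟨1, 1, by ring⟩
      · exact Ideal.subset_span (Or.inr rfl)
  · rwa [show 4 * a * (a + b + c) - (2 * a + b) ^ 2 = 4 * a * c - b ^ 2 by ring]
  · by_contra h
    have ha' : a ∈ maximalIdeal A := ha
    have hc' : c ∈ maximalIdeal A := hc
    have hb' : b ∈ maximalIdeal A := by
      rw [show b = (a + b + c) - a - c by ring]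
      exact sub_mem (sub_mem h ha') hc'
    exact (sub_mem (Ideal.mul_mem_left _ _ hc') (Ideal.pow_mem_of_mem _ hb' 2 two_pos) :
      4 * a * c - b ^ 2 ∈ maximalIdeal A) hD
  · rwa [show a * (x - y) ^ 2 + (2 * a + b) * (x - y) * y + (a + b + c) * y ^ 2 =
      a * x ^ 2 + b * x * y + c * y ^ 2 by ring]

set_option maxHeartbeats 800000 in
/-- A nondegenerate quadratic cone gives dimension one and a quadratic normalisation. -/
theorem exists_isQuad_of_quad [IsNoetherianRing A] (hdim : Module.finrank (ResidueField A) (CotangentSpace A) = 2)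
    (x₀ y₀ a₀ b₀ c₀ : A) (hx₀ : x₀ ∈ maximalIdeal A) (hy₀ : y₀ ∈ maximalIdeal A)
    (hgen₀ : Ideal.span {x₀, y₀} ⊔ maximalIdeal A ^ 2 = maximalIdeal A)
    (hD₀ : residue A (4 * a₀ * c₀ - b₀ ^ 2) ≠ 0)
    (hq₀ : a₀ * x₀ ^ 2 + b₀ * x₀ * y₀ + c₀ * y₀ ^ 2 ∈ maximalIdeal A ^ 3) :
    ringKrullDim A = 1 ∧ ∃ (θ : C) (p q : A), IsQuad θ p q ∧ residue A (p * p + 4 * q) ≠ 0 := by
  have hgen₁ : Ideal.span {x₀, y₀} = maximalIdeal A := by
    refine le_antisymm (Ideal.span_le.2 ?_) (Submodule.le_of_le_smul_of_le_jacobson_bot (IsNoetherian.noetherian _)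
      (IsLocalRing.maximalIdeal_le_jacobson ⊥) (by rw [Ideal.smul_eq_mul, ← pow_two, hgen₀]))
    rintro _ (rfl | rfl) <;> assumption
  obtain ⟨x, y, a, b, c, hgen, hD, hc, hq⟩ :=
    exists_unit_coeff x₀ y₀ a₀ b₀ c₀ hgen₁ ((residue_ne_zero_iff_isUnit _).1 hD₀) hq₀
  have hxm : x ∈ maximalIdeal A := hgen ▸ Ideal.subset_span (Or.inl rfl)
  have hym : y ∈ maximalIdeal A := hgen ▸ Ideal.subset_span (Or.inr rfl)
  have hnp : ∀ g, maximalIdeal A ≠ Ideal.span {g} := fun g hg => by
    have := finrank_cotangentSpace_le_one_iff.2 (⟨⟨g, hg⟩⟩ : (maximalIdeal A).IsPrincipal)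
    omega
  obtain ⟨ci, hci⟩ := hc.exists_left_inv
  -- the square of the maximal ideal
  have hsq : maximalIdeal A ^ 2 = Ideal.span {x} * maximalIdeal A := by
    refine le_antisymm (Submodule.le_of_le_smul_of_le_jacobson_bot (IsNoetherian.noetherian _)
      (IsLocalRing.maximalIdeal_le_jacobson ⊥) ?_) ?_
    · rw [Ideal.smul_eq_mul, ← pow_succ', pow_two]
      conv_lhs => rw [← hgen]
      rw [Ideal.mul_le]
      intro r hr s hs
      obtain ⟨r₁, r₂, rfl⟩ := Ideal.mem_span_pair.1 hr
      obtain ⟨s₁, s₂, rfl⟩ := Ideal.mem_span_pair.1 hs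
      rw [show (r₁ * x + r₂ * y) * (s₁ * x + s₂ * y) =
        x * (r₁ * s₁ * x + r₁ * s₂ * y + r₂ * s₁ * y - r₂ * s₂ * ci * a * x - r₂ * s₂ * ci * b * y) +
          r₂ * s₂ * ci * (a * x ^ 2 + b * x * y + c * y ^ 2) by linear_combination -(r₂ * s₂ * y ^ 2) * hci]
      refine Submodule.add_mem_sup (Ideal.mul_mem_mul (Ideal.mem_span_singleton_self x) ?_) (Ideal.mul_mem_left _ _ hq)
      exact sub_mem (sub_mem (add_mem (add_mem (Ideal.mul_mem_left _ _ hxm) (Ideal.mul_mem_left _ _ hym))
        (Ideal.mul_mem_left _ _ hym)) (Ideal.mul_mem_left _ _ hxm)) (Ideal.mul_mem_left _ _ hym)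
    · rw [pow_two]
      exact Ideal.mul_mono_left ((Ideal.span_singleton_le_iff_mem _).2 hxm)
  obtain ⟨μ, hμm, hμ⟩ : ∃ μ ∈ maximalIdeal A, μ * x * x = a * x ^ 2 + b * x * y + c * y ^ 2 := by
    rw [pow_succ', hsq, mul_left_comm, ← pow_two, hsq] at hq
    obtain ⟨w, hw, hwe⟩ := Ideal.mem_span_singleton_mul.1 hq
    obtain ⟨μ, hμ, rfl⟩ := Ideal.mem_span_singleton_mul.1 hw
    exact ⟨μ, hμ, by rw [← hwe]; ring⟩
  -- a prime containing `x` is maximal
  have hmax : ∀ P : Ideal A, P.IsPrime → x ∈ P → P = maximalIdeal A := fun P hP hxP => by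
    refine le_antisymm (IsLocalRing.le_maximalIdeal hP.ne_top) ?_
    rw [← hgen, Ideal.span_le]
    rintro z (hz | hz)
    · rw [hz]; exact hxP
    · rw [Set.mem_singleton_iff.1 hz]
      have h1 : c * (y * y) ∈ P := by
        rw [show c * (y * y) = μ * x * x - a * x ^ 2 - b * x * y by linear_combination -hμ]
        exact sub_mem (sub_mem (P.mul_mem_left _ hxP) (P.mul_mem_left _ (P.pow_mem_of_mem hxP 2 two_pos)))
          (P.mul_mem_right _ (P.mul_mem_left _ hxP))
      rcases hP.mem_or_mem h1 with h1 | h1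
      · exact absurd hc fun hu => hP.ne_top (Ideal.eq_top_of_isUnit_mem _ h1 hu)
      · exact (hP.mem_or_mem h1).elim id id
  have hmin : maximalIdeal A ∉ minimalPrimes A := fun h => hnp 0 (by
    rw [Ideal.span_singleton_eq_bot.2 rfl, eq_bot_iff]
    intro s hs
    rw [Submodule.mem_bot]
    refine IsReduced.eq_zero s (nilpotent_iff_mem_prime.2 fun Q hQ => ?_)
    exact h.2 ⟨hQ, bot_le⟩ (IsLocalRing.le_maximalIdeal hQ.ne_top) hs)
  have hx : x ∈ A⁰ := Groth.L06.NorLocusFinite.mem_nonZeroDivisors_of_forall fun P hP hxP =>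
    hmin (hmax P hP.1.1 hxP ▸ hP)
  have hd1 : ringKrullDim A = 1 := by
    rw [← IsLocalRing.maximalIdeal_height_eq_ringKrullDim]
    have hle : (maximalIdeal A).height ≤ 1 := by
      haveI : (Ideal.span {x}).IsPrincipal := ⟨⟨x, rfl⟩⟩
      exact Ideal.height_le_one_of_isPrincipal_of_mem_minimalPrimes (Ideal.span {x}) _
        ⟨⟨inferInstance, (Ideal.span_singleton_le_iff_mem _).2 hxm⟩, fun Q hQ _ =>
          (hmax Q hQ.1 (hQ.2 (Ideal.mem_span_singleton_self x))).ge⟩
    have hne : (maximalIdeal A).height ≠ 0 := fun h0 => hmin (Ideal.height_eq_zero_iff.1 h0)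
    exact congrArg WithBot.some (le_antisymm hle (Order.one_le_iff_pos.mpr (pos_iff_ne_zero.mpr hne)))
  refine ⟨hd1, ?_⟩
  haveI : Ring.KrullDimLE 1 A := Ring.krullDimLE_iff.2 hd1.le
  -- the quadratic element
  let p : A := -b * ci
  let q : A := (μ - a) * ci
  have hyy : y * y = q * x * x + p * y * x := by
    linear_combination -ci * hμ - (y * y) * hci
  have hxu : IsUnit (algebraMap A K x) := IsLocalization.map_units K (⟨x, hx⟩ : A⁰)
  let θK : K := IsLocalization.mk' K y (⟨x, hx⟩ : A⁰)
  have hθx : θK * algebraMap A K x = algebraMap A K y := IsLocalization.mk'_spec K y (⟨x, hx⟩ : A⁰)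
  have hθ2 : θK * θK = algebraMap A K q + algebraMap A K p * θK := by
    refine (hxu.mul hxu).mul_right_cancel ?_
    have h1 := congrArg (algebraMap A K) hyy
    simp only [map_add, map_mul] at h1
    linear_combination (θK * algebraMap A K x + algebraMap A K y - algebraMap A K p * algebraMap A K x) * hθx + h1
  let θ : C := ⟨θK, ⟨X ^ 2 - Polynomial.C p * X - Polynomial.C q, by monicity!, by
    simp only [eval₂_sub, eval₂_mul, eval₂_pow, eval₂_X, eval₂_C]
    linear_combination hθ2⟩⟩
  have hθsq : θ * θ = algebraMap A C q + algebraMap A C p * θ := Subtype.ext hθ2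
  have hmiff : ∀ v : A, v ∈ maximalIdeal A → ∃ a' ∈ maximalIdeal A, algebraMap A C a' = algebraMap A C v * θ := by
    intro v hv
    obtain ⟨s, t, rfl⟩ := Ideal.mem_span_pair.1 (hgen.symm ▸ hv : v ∈ Ideal.span {x, y})
    refine ⟨s * y + t * (q * x + p * y), add_mem (Ideal.mul_mem_left _ _ hym) (Ideal.mul_mem_left _ _
      (add_mem (Ideal.mul_mem_left _ _ hxm) (Ideal.mul_mem_left _ _ hym))), Subtype.ext ?_⟩
    show algebraMap A K _ = algebraMap A K _ * θK
    refine hxu.mul_right_cancel ?_
    have h1 := congrArg (algebraMap A K) hyy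
    simp only [map_add, map_mul] at h1 ⊢
    linear_combination -(algebraMap A K s * algebraMap A K x + algebraMap A K t * algebraMap A K y) * hθx -
      algebraMap A K t * h1
  have hiff : ∀ v : A, (∃ a' : A, algebraMap A C a' = algebraMap A C v * θ) ↔ v ∈ maximalIdeal A := by
    refine fun v => ⟨fun ⟨a', ha'⟩ => ?_, fun hv => (hmiff v hv).imp fun _ h => h.2⟩
    by_contra hv
    obtain ⟨vi, hvi⟩ := (not_not.1 hv : IsUnit v).exists_left_inv
    have h1 : a' * x = v * y := IsFractionRing.injective A K (by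
      rw [map_mul, map_mul, ← hθx, ← mul_assoc]
      exact congrArg (· * algebraMap A K x) (congrArg Subtype.val ha'))
    refine hnp x (hgen.symm.trans (le_antisymm (Ideal.span_le.2 ?_) (Ideal.span_mono (by simp))))
    rintro z (hz | hz)
    · rw [hz]; exact Ideal.mem_span_singleton_self _
    · rw [Set.mem_singleton_iff.1 hz]
      exact Ideal.mem_span_singleton'.2 ⟨vi * a', by linear_combination vi * h1 + y * hvi⟩
  -- `A + A θ` is integrally closed
  have hdisc : IsUnit (p * p + 4 * q) := by
    have h4 : p * p + 4 * q = -(4 * a * c - b ^ 2) * (ci * ci) + 4 * ci * μ := by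
      linear_combination 4 * a * ci * hci
    rw [h4]
    by_contra h
    have h' : -(4 * a * c - b ^ 2) * (ci * ci) ∈ maximalIdeal A := by
      simpa using sub_mem (h : _ ∈ maximalIdeal A) (Ideal.mul_mem_left _ (4 * ci) hμm)
    exact h' (hD.neg.mul ((IsUnit.of_mul_eq_one _ hci).mul (IsUnit.of_mul_eq_one _ hci)))
  let InB : C → Prop := fun z => ∃ u v : A, z = algebraMap A C u + algebraMap A C v * θ
  let InM : C → Prop := fun z => ∃ s ∈ maximalIdeal A, z = algebraMap A C s
  have hBmul : ∀ z w, InB z → InB w → InB (z * w) := by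
    rintro _ _ ⟨u, v, rfl⟩ ⟨u', v', rfl⟩
    exact ⟨u * u' + v * v' * q, u * v' + v * u' + v * v' * p, by
      simp only [map_add, map_mul]; linear_combination (algebraMap A C v * algebraMap A C v') * hθsq⟩
  have hBalg : ∀ s : A, InB (algebraMap A C s) := fun s => ⟨s, 0, by rw [map_zero, zero_mul, add_zero]⟩
  have hBpow : ∀ z, InB z → ∀ n : ℕ, InB (z ^ n) := fun z hz n => by
    induction n with
    | zero => rw [pow_zero, ← map_one (algebraMap A C)]; exact hBalg 1
    | succ n ih => rw [pow_succ]; exact hBmul _ _ ih hz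
  have hMB : ∀ z w, InM z → InB w → InM (z * w) := by
    rintro _ _ ⟨s, hs, rfl⟩ ⟨u, v, rfl⟩
    obtain ⟨a', ha'm, ha'⟩ := hmiff (s * v) (Ideal.mul_mem_right _ _ hs)
    refine ⟨s * u + a', add_mem (Ideal.mul_mem_right _ _ hs) ha'm, ?_⟩
    rw [map_add, ha', map_mul, map_mul]
    ring
  have hMadd : ∀ z w, InM z → InM w → InM (z + w) := by
    rintro _ _ ⟨s, hs, rfl⟩ ⟨t, ht, rfl⟩
    exact ⟨s + t, add_mem hs ht, (map_add _ _ _).symm⟩
  have hMneg : ∀ z, InM z → InM (-z) := by
    rintro _ ⟨s, hs, rfl⟩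
    exact ⟨-s, neg_mem hs, (map_neg _ _).symm⟩
  have step : ∀ z : C, InB (algebraMap A C x * z) → InB z := by
    intro z hz
    obtain ⟨u, v, huv⟩ := hz
    set w := algebraMap A C x * z with hw
    have hwB : InB w := ⟨u, v, huv⟩
    obtain ⟨P, hPm, hP⟩ := Algebra.IsIntegral.isIntegral (R := A) z
    have hQ : aeval w (P.scaleRoots x) = 0 := scaleRoots_aeval_eq_zero hP
    have hwN : InM (w ^ P.natDegree) := by
      rw [aeval_eq_sum_range, natDegree_scaleRoots, Finset.sum_range_succ, coeff_scaleRoots_natDegree,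
        hPm.leadingCoeff, one_smul] at hQ
      rw [eq_neg_of_add_eq_zero_right hQ]
      refine hMneg _ (Finset.sum_induction _ InM hMadd ⟨0, zero_mem _, (map_zero _).symm⟩ fun i hi => ?_)
      rw [Algebra.smul_def]
      refine hMB _ _ ⟨_, ?_, rfl⟩ (hBpow _ hwB i)
      rw [coeff_scaleRoots]
      exact Ideal.mul_mem_left _ _ (Ideal.pow_mem_of_mem _ hxm _ (Nat.sub_pos_of_lt (Finset.mem_range.1 hi)))
    let Nm : A := u * u + u * v * p - v * v * q
    let T : A := 2 * u + v * p
    let w' : C := algebraMap A C u + algebraMap A C v * (algebraMap A C p - θ)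
    have hw'B : InB w' := ⟨u + v * p, -v, by simp only [w', map_add, map_mul, map_neg]; ring⟩
    have hww' : w * w' = algebraMap A C Nm := by
      simp only [w', Nm, huv, map_add, map_mul, map_sub]
      linear_combination -(algebraMap A C v * algebraMap A C v) * hθsq
    have hNm : Nm ∈ maximalIdeal A := by
      obtain ⟨s, hs, hse⟩ := hMB _ _ hwN (hBpow _ hw'B P.natDegree)
      rw [← mul_pow, hww', ← map_pow] at hse
      exact (maximalIdeal.isMaximal A).isPrime.mem_of_pow_mem _ ((algebraMap_injective hse).symm ▸ hs)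
    have hw2 : w * w = algebraMap A C T * w - algebraMap A C Nm := by
      rw [← hww']
      simp only [T, w', huv, map_add, map_mul, map_ofNat]
      ring
    have hpow : ∀ n : ℕ, InM (w ^ (n + 1) - algebraMap A C (T ^ n) * w) := fun n => by
      induction n with
      | zero => exact ⟨0, zero_mem _, by simp⟩
      | succ n ih =>
        rw [show w ^ (n + 1 + 1) - algebraMap A C (T ^ (n + 1)) * w =
          (w ^ (n + 1) - algebraMap A C (T ^ n) * w) * w + algebraMap A C (T ^ n * (-Nm)) by
            simp only [map_mul, map_pow, map_neg]; linear_combination (algebraMap A C T) ^ n * hw2]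
        exact hMadd _ _ (hMB _ _ ih hwB) ⟨_, Ideal.mul_mem_left _ _ (neg_mem hNm), rfl⟩
    have huvm : u ∈ maximalIdeal A ∧ v ∈ maximalIdeal A := by
      by_cases hT : IsUnit T
      · have h1 : InM (algebraMap A C (T ^ P.natDegree) * w) := by
          have h2 := hMadd _ _ (hMneg _ (hpow P.natDegree)) (hMB _ _ hwN hwB)
          rwa [← pow_succ, neg_sub, sub_add_cancel] at h2
        obtain ⟨Ti, hTi⟩ := (hT.pow P.natDegree).exists_left_inv
        obtain ⟨s, hs, hse⟩ := hMB _ _ h1 (hBalg Ti)
        rw [mul_assoc, mul_left_comm, ← map_mul, mul_comm _ Ti, hTi, map_one, mul_one, huv] at hse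
        have hv : v ∈ maximalIdeal A := (hiff v).1 ⟨s - u, by rw [map_sub]; linear_combination -hse⟩
        obtain ⟨a', ha'm, ha'⟩ := hmiff v hv
        have : u = s - a' := algebraMap_injective (by rw [map_sub]; linear_combination hse + ha')
        exact ⟨this ▸ sub_mem hs ha'm, hv⟩
      · have hTm : T ∈ maximalIdeal A := hT
        have h1 : v * v * (p * p + 4 * q) ∈ maximalIdeal A := by
          rw [show v * v * (p * p + 4 * q) = T * T - 4 * Nm by simp only [T, Nm]; ring]
          exact sub_mem (Ideal.mul_mem_left _ _ hTm) (Ideal.mul_mem_left _ _ hNm)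
        have hP' := (maximalIdeal.isMaximal A).isPrime
        have hv : v ∈ maximalIdeal A :=
          (hP'.mem_or_mem h1).elim (fun h => (hP'.mem_or_mem h).elim id id) (fun h => absurd hdisc h)
        refine ⟨(hP'.mem_or_mem (?_ : u * u ∈ maximalIdeal A)).elim id id, hv⟩
        rw [show u * u = Nm - v * (u * p - v * q) by simp only [Nm]; ring]
        exact sub_mem hNm (Ideal.mul_mem_right _ _ hv)
    obtain ⟨a', ha'm, ha'⟩ := hmiff v huvm.2
    obtain ⟨s, t, hst⟩ := Ideal.mem_span_pair.1 (hgen.symm ▸ add_mem huvm.1 ha'm : u + a' ∈ Ideal.span {x, y})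
    refine ⟨s, t, Subtype.ext (hxu.mul_left_cancel ?_)⟩
    have h1 : algebraMap A K x * z.1 = algebraMap A K (u + a') := by
      have h2 := congrArg Subtype.val huv
      rw [map_add]
      show (w : K) = _
      rw [h2]
      have h3 := congrArg Subtype.val ha'
      exact congrArg (algebraMap A K u + ·) h3.symm
    rw [h1, ← hst]
    show _ = algebraMap A K x * (algebraMap A K s + algebraMap A K t * θK)
    rw [map_add, map_mul, map_mul, ← hθx]
    ring
  have stepn : ∀ (n : ℕ) (z : C), InB (algebraMap A C (x ^ n) * z) → InB z := by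
    intro n
    induction n with
    | zero => intro z hz; simpa using hz
    | succ n ih => intro z hz; exact ih z (step _ (by rwa [← mul_assoc, ← map_mul, ← pow_succ']))
  refine ⟨θ, p, q, ⟨fun z => ?_, hiff, hmiff, hθsq⟩, (residue_ne_zero_iff_isUnit _).2 hdisc⟩
  obtain ⟨r, s, hrs⟩ := IsLocalization.exists_mk'_eq A⁰ (z : K)
  obtain ⟨n, t, ht⟩ : ∃ n t, x ^ n = t * (s : A) := by
    have h1 : x ∈ (Ideal.span {(s : A)}).radical := by
      rw [Ideal.radical_eq_sInf, Submodule.mem_sInf]
      rintro P ⟨hsP, hP⟩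
      rcases Ring.krullDimLE_one_iff.1 ‹_› P hP with h | h
      · exact absurd s.2 (Set.disjoint_left.mp (Ideal.disjoint_nonZeroDivisors_of_mem_minimalPrimes h)
          (hsP (Ideal.mem_span_singleton_self _)))
      · rw [IsLocalRing.eq_maximalIdeal h]; exact hxm
    obtain ⟨n, hn⟩ := h1
    obtain ⟨t, ht⟩ := Ideal.mem_span_singleton'.1 hn
    exact ⟨n, t, ht.symm⟩
  refine stepn n z ⟨t * r, 0, Subtype.ext ?_⟩
  show algebraMap A K (x ^ n) * z.1 = algebraMap A K (t * r) + algebraMap A K 0 * θK
  rw [← hrs, ht, map_zero, zero_mul, add_zero, map_mul, map_mul, mul_assoc, IsLocalization.mk'_spec']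

set_option maxHeartbeats 800000 in
/-- A quadratic normalisation with unit discriminant gives a nondegenerate quadratic cone. -/
theorem quad_of_isQuad [IsNoetherianRing A] [Module.Finite A C] (hdim : ringKrullDim A = 1) {θ : C} {p q : A}
    (h : IsQuad θ p q) (hdisc : residue A (p * p + 4 * q) ≠ 0) :
    Module.finrank (ResidueField A) (CotangentSpace A) = 2 ∧
      ∃ x y a b c : A, x ∈ maximalIdeal A ∧ y ∈ maximalIdeal A ∧
        Ideal.span {x, y} ⊔ maximalIdeal A ^ 2 = maximalIdeal A ∧
        residue A (4 * a * c - b ^ 2) ≠ 0 ∧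
        a * x ^ 2 + b * x * y + c * y ^ 2 ∈ maximalIdeal A ^ 3 := by
  classical
  haveI : Algebra.IsIntegral A C := Algebra.IsIntegral.of_finite A C
  haveI : IsNoetherianRing C := IsNoetherianRing.of_finite A C
  haveI : Nontrivial C := algebraMap_injective.nontrivial
  have hP' := (maximalIdeal.isMaximal A).isPrime
  haveI : Ring.KrullDimLE 1 A := Ring.krullDimLE_iff.2 hdim.le
  have hlie : ∀ n : Ideal C, n.IsMaximal → ∀ s : A, algebraMap A C s ∈ n ↔ s ∈ maximalIdeal A := fun n hn s => by
    rw [← IsLocalRing.eq_maximalIdeal (Ideal.isMaximal_comap_of_isIntegral_of_isMaximal (R := A) n), Ideal.mem_comap]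
  have hminfin : (minimalPrimes A).Finite := (⊥ : Ideal A).finite_minimalPrimes_of_isNoetherianRing A
  -- a regular element of the maximal ideal
  obtain ⟨x₀, hx₀m, hx₀⟩ : ∃ s ∈ maximalIdeal A, s ∈ A⁰ := by
    have hnf : ¬ IsField A := fun hf => by
      rw [ringKrullDim_eq_zero_of_isField hf] at hdim
      exact zero_ne_one hdim
    obtain ⟨z, hz, hzr⟩ := Groth.L21.Nodal.exists_mem_nonZeroDivisors hnf
    exact ⟨z, hz, mem_nonZeroDivisors_iff_right.2 fun s hs => hzr s (by rw [mul_comm]; exact hs)⟩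
  have hxu : IsUnit (algebraMap A K x₀) := IsLocalization.map_units K (⟨x₀, hx₀⟩ : A⁰)
  obtain ⟨N, hN⟩ : ∃ N, maximalIdeal A ^ N ≤ Ideal.span {x₀} := by
    refine Ideal.exists_pow_le_of_le_radical_of_fg (fun s hs => ?_) (IsNoetherian.noetherian _)
    rw [Ideal.radical_eq_sInf, Submodule.mem_sInf]
    rintro P ⟨hsP, hP⟩
    rcases Ring.krullDimLE_one_iff.1 ‹_› P hP with h' | h'
    · exact absurd hx₀ (Set.disjoint_left.mp (Ideal.disjoint_nonZeroDivisors_of_mem_minimalPrimes h')
        (hsP (Ideal.mem_span_singleton_self _)))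
    · rw [IsLocalRing.eq_maximalIdeal h']; exact hs
  -- the maximal ideal of `A` as an ideal of `C`
  let J : Ideal C :=
    { carrier := {z | ∃ s ∈ maximalIdeal A, algebraMap A C s = z}
      zero_mem' := ⟨0, zero_mem _, map_zero _⟩
      add_mem' := by
        rintro _ _ ⟨s, hs, rfl⟩ ⟨t, ht, rfl⟩
        exact ⟨s + t, add_mem hs ht, map_add _ _ _⟩
      smul_mem' := by
        rintro z _ ⟨s, hs, rfl⟩
        obtain ⟨u, v, rfl⟩ := h.gen z
        obtain ⟨a', ha'm, ha'⟩ := h.absorb (v * s) (Ideal.mul_mem_left _ _ hs)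
        refine ⟨u * s + a', add_mem (Ideal.mul_mem_left _ _ hs) ha'm, ?_⟩
        rw [map_add, ha', map_mul, map_mul, smul_eq_mul]
        ring }
  have hJ : ∀ z, z ∈ J ↔ ∃ s ∈ maximalIdeal A, algebraMap A C s = z := fun z => Iff.rfl
  have hJle : ∀ n : Ideal C, n.IsMaximal → J ≤ n := by
    rintro n hn _ ⟨s, hs, rfl⟩
    exact (hlie n hn s).2 hs
  have huv_of_mem : ∀ u v : A, algebraMap A C u + algebraMap A C v * θ ∈ J → u ∈ maximalIdeal A ∧ v ∈ maximalIdeal A := by
    rintro u v ⟨s, hs, hse⟩
    obtain ⟨h1, h2⟩ := h.eq_zero (u := u - s) (v := v) (by rw [map_sub]; linear_combination -hse)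
    exact ⟨by simpa using add_mem h1 hs, h2⟩
  -- the complement of `n` in the reduced ring `C / J`
  have hcomp : ∀ n : Ideal C, n.IsMaximal → ∃ i : C, i ∉ n ∧ ∀ f ∈ n, i * f ∈ J := by
    intro n hn
    by_cases hnJ : n ≤ J
    · exact ⟨1, fun h1 => hn.ne_top ((Ideal.eq_top_iff_one _).2 h1), fun f hf => by rw [one_mul]; exact hnJ hf⟩
    obtain ⟨e, hen, heJ⟩ := SetLike.not_le_iff_exists.1 hnJ
    obtain ⟨u, v, rfl⟩ := h.gen e
    set e := algebraMap A C u + algebraMap A C v * θ with he
    have hNm : u * u + u * v * p - v * v * q ∈ maximalIdeal A := by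
      rw [← hlie n hn, show algebraMap A C (u * u + u * v * p - v * v * q) =
        e * (algebraMap A C (u + v * p) - algebraMap A C v * θ) by
          simp only [he, map_add, map_sub, map_mul]; linear_combination (algebraMap A C v * algebraMap A C v) * h.sq]
      exact n.mul_mem_right _ hen
    refine ⟨algebraMap A C (u + v * p) - algebraMap A C v * θ, fun hin => heJ ?_, fun f hf => ?_⟩
    · have hT : 2 * u + v * p ∈ maximalIdeal A := by
        rw [← hlie n hn, show algebraMap A C (2 * u + v * p) =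
          e + (algebraMap A C (u + v * p) - algebraMap A C v * θ) by simp only [he, map_add, map_mul, map_ofNat]; ring]
        exact add_mem hen hin
      have hv : v ∈ maximalIdeal A := by
        refine (hP'.mem_or_mem (?_ : v * v * (p * p + 4 * q) ∈ maximalIdeal A)).elim
          (fun h' => (hP'.mem_or_mem h').elim id id) fun h' => absurd ((residue_eq_zero_iff _).2 h') hdisc
        rw [show v * v * (p * p + 4 * q) = (2 * u + v * p) * (2 * u + v * p) - 4 * (u * u + u * v * p - v * v * q) by ring]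
        exact sub_mem (Ideal.mul_mem_left _ _ hT) (Ideal.mul_mem_left _ _ hNm)
      have hu : u ∈ maximalIdeal A := by
        refine (hP'.mem_or_mem (?_ : u * u ∈ maximalIdeal A)).elim id id
        rw [show u * u = (u * u + u * v * p - v * v * q) - v * (u * p - v * q) by ring]
        exact sub_mem hNm (Ideal.mul_mem_right _ _ hv)
      exact add_mem ⟨u, hu, rfl⟩ (J.mul_mem_right θ ⟨v, hv, rfl⟩)
    · obtain ⟨u', v', rfl⟩ := h.gen f
      have hd : u * v' - u' * v ∈ maximalIdeal A := by
        rw [← hlie n hn, show algebraMap A C (u * v' - u' * v) =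
          algebraMap A C v' * e - algebraMap A C v * (algebraMap A C u' + algebraMap A C v' * θ) by
            simp only [he, map_sub, map_mul]; ring]
        exact sub_mem (n.mul_mem_left _ hen) (n.mul_mem_left _ hf)
      have hM : u * u' + v * p * u' - v * v' * q ∈ maximalIdeal A := by
        rw [← hlie n hn, show algebraMap A C (u * u' + v * p * u' - v * v' * q) =
          (algebraMap A C (u + v * p) - algebraMap A C v * θ) * (algebraMap A C u' + algebraMap A C v' * θ) -
            algebraMap A C (u * v' - u' * v) * θ by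
          simp only [map_add, map_sub, map_mul]; linear_combination (algebraMap A C v * algebraMap A C v') * h.sq]
        exact sub_mem (n.mul_mem_left _ hf) (n.mul_mem_right _ ((hlie n hn _).2 hd))
      rw [show (algebraMap A C (u + v * p) - algebraMap A C v * θ) * (algebraMap A C u' + algebraMap A C v' * θ) =
        algebraMap A C (u * u' + v * p * u' - v * v' * q) + algebraMap A C (u * v' - u' * v) * θ by
          simp only [map_add, map_sub, map_mul]; linear_combination -(algebraMap A C v * algebraMap A C v') * h.sq]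
      exact add_mem ⟨_, hM, rfl⟩ (J.mul_mem_right θ ⟨_, hd, rfl⟩)
  -- each maximal ideal is invertible
  let P : K → Prop := fun z => ∀ w ∈ J, ∃ c : C, c.1 = z * w.1
  have hloc : ∀ n : Ideal C, n.IsMaximal → ∃ z : K, P z ∧ ∃ w ∈ J, ∀ c : C, c.1 = z * w.1 → c ∉ n := by
    intro n hn
    obtain ⟨i, hin, hi⟩ := hcomp n hn
    let X₀ : Ideal C := Ideal.span {algebraMap A C x₀}
    have hJN : J ^ N ≤ X₀ := by
      have hJmap : J ≤ (maximalIdeal A).map (algebraMap A C) := by
        rintro _ ⟨s, hs, rfl⟩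
        exact Ideal.mem_map_of_mem _ hs
      refine (Ideal.pow_right_mono hJmap N).trans ?_
      rw [← Ideal.map_pow]
      refine (Ideal.map_mono hN).trans (le_of_eq ?_)
      rw [Ideal.map_span, Set.image_singleton]
    have hiN : i ^ N ∉ n := fun h' => hin (hn.isPrime.mem_of_pow_mem N h')
    have hX₀n : X₀ ≤ n := (Ideal.span_singleton_le_iff_mem _).2 ((hlie n hn _).2 hx₀m)
    let Q : ℕ → Prop := fun j => n ^ j * Ideal.span {i ^ N} ≤ X₀
    have hQN : Q N := by
      show n ^ N * Ideal.span {i ^ N} ≤ X₀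
      rw [← Ideal.span_singleton_pow, ← mul_pow]
      refine (Ideal.pow_right_mono ?_ N).trans hJN
      rw [Ideal.mul_le]
      intro f hf w hw
      obtain ⟨r, rfl⟩ := Ideal.mem_span_singleton'.1 hw
      rw [show f * (r * i) = r * (i * f) by ring]
      exact J.mul_mem_left _ (hi f hf)
    have hex : ∃ j, Q j := ⟨N, hQN⟩
    obtain ⟨j, hj⟩ : ∃ j, Nat.find hex = j + 1 := by
      refine Nat.exists_eq_succ_of_ne_zero fun h0 => hiN (hX₀n ?_)
      have h1 : Q 0 := h0 ▸ Nat.find_spec hex
      exact h1 (by rw [pow_zero, one_mul]; exact Ideal.mem_span_singleton_self _)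
    have hjn : ¬ Q j := Nat.find_min hex (by omega)
    have hj1 : Q (j + 1) := hj ▸ Nat.find_spec hex
    obtain ⟨s, hs, hsX⟩ := SetLike.not_le_iff_exists.1 hjn
    obtain ⟨z, hzdef⟩ : ∃ z : K, algebraMap A K x₀ * z = s.1 := ⟨IsLocalization.mk' K 1 (⟨x₀, hx₀⟩ : A⁰) * s.1, by
      rw [← mul_assoc, (IsLocalization.mk'_spec' K 1 (⟨x₀, hx₀⟩ : A⁰)).trans (map_one _), one_mul]⟩
    have hzx : ∀ c w : C, algebraMap A C x₀ * c = s * w → c.1 = z * w.1 := fun c w hcw => by
      refine hxu.mul_left_cancel ((congrArg Subtype.val hcw).trans ?_)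
      show s.1 * w.1 = algebraMap A K x₀ * (z * w.1)
      rw [← mul_assoc, hzdef]
    have hzn : ∀ w ∈ n, ∃ c : C, c.1 = z * w.1 := fun w hw => by
      obtain ⟨c, hc⟩ := Ideal.mem_span_singleton'.1 (hj1 (by
        rw [pow_succ', mul_assoc]; exact Ideal.mul_mem_mul hw hs) : w * s ∈ X₀)
      exact ⟨c, hzx c w (by rw [mul_comm, hc, mul_comm])⟩
    obtain ⟨w₁, hw₁, c₁, hc₁, hc₁n⟩ : ∃ w ∈ n, ∃ c : C, c.1 = z * w.1 ∧ c ∉ n := by
      by_contra hcon
      push Not at hcon
      -- otherwise `z` is integral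
      let M : Submodule A C := n.restrictScalars A
      haveI : IsNoetherian A C := isNoetherian_of_isNoetherianRing_of_finite A C
      haveI : Module.Finite A M := Module.Finite.iff_fg.2 (IsNoetherian.noetherian M)
      choose g hg using hzn
      have hgu : ∀ (w : M) (c : C), c.1 = z * w.1.1 → g w.1 w.2 = c := fun w c hc =>
        Subtype.ext ((hg w.1 w.2).trans hc.symm)
      let f : Module.End A M :=
        { toFun := fun w => ⟨g w.1 w.2, hcon w.1 w.2 _ (hg w.1 w.2)⟩
          map_add' := fun w w' => Subtype.ext (hgu (w + w') _ (by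
            show (g w.1 w.2).1 + (g w'.1 w'.2).1 = z * (w.1.1 + w'.1.1)
            rw [hg, hg, mul_add]))
          map_smul' := fun r w => Subtype.ext (hgu (r • w) _ (by
            show r • (g w.1 w.2).1 = z * (r • w.1.1)
            rw [hg, mul_smul_comm])) }
      obtain ⟨Pf, hPfm, hPf⟩ := LinearMap.exists_monic_and_aeval_eq_zero A f
      have hpow : ∀ (k : ℕ) (w : M), ((f ^ k) w).1.1 = z ^ k * w.1.1 := fun k => by
        induction k with
        | zero => intro w; simp
        | succ k ih =>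
          intro w
          rw [pow_succ', Module.End.mul_apply]
          show (g ((f ^ k) w).1 _).1 = _
          rw [hg, ih, pow_succ', mul_assoc]
      have haev : ∀ (R : A[X]) (w : M), (aeval f R w).1.1 = aeval z R * w.1.1 := fun R w => by
        induction R using Polynomial.induction_on' with
        | add a' b' ha' hb' =>
          rw [map_add, map_add, LinearMap.add_apply, Submodule.coe_add, add_mul, ← ha', ← hb']
          rfl
        | monomial k r =>
          rw [aeval_monomial, aeval_monomial, Module.End.mul_apply, Module.algebraMap_end_apply, mul_assoc, ← hpow,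
            ← Algebra.smul_def]
          rfl
      have h0 : aeval z Pf * algebraMap A K x₀ = 0 := by
        have := haev Pf ⟨algebraMap A C x₀, (hlie n hn _).2 hx₀m⟩
        rw [hPf, LinearMap.zero_apply] at this
        exact this.symm
      have hzint : IsIntegral A z := ⟨Pf, hPfm, (hxu.mul_left_eq_zero).1 h0⟩
      refine hsX (Ideal.mem_span_singleton'.2 ⟨(⟨z, hzint⟩ : C), Subtype.ext ?_⟩)
      show z * algebraMap A K x₀ = s.1
      rw [mul_comm, hzdef]
    refine ⟨z, fun w hw => hzn w (hJle n hn hw), w₁ * i, by rw [mul_comm]; exact hi _ hw₁, fun c hc hcn => ?_⟩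
    have : c = c₁ * i := Subtype.ext (by
      show c.1 = c₁.1 * i.1
      rw [hc, hc₁]
      show z * (w₁.1 * i.1) = z * w₁.1 * i.1
      rw [mul_assoc])
    rw [this] at hcn
    exact (hn.isPrime.mem_or_mem hcn).elim hc₁n hin
  -- hence the maximal ideal is principal in `C`
  obtain ⟨t, htm, z₀, ht, hz₀⟩ : ∃ t ∈ maximalIdeal A, ∃ z : K, z * algebraMap A K t = 1 ∧ P z := by
    haveI : Finite (MaximalSpectrum C) := by
      haveI : Finite ((maximalIdeal A).map (algebraMap A C)).minimalPrimes :=
        (((maximalIdeal A).map (algebraMap A C)).finite_minimalPrimes_of_isNoetherianRing C).to_subtype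
      refine Finite.of_injective (β := ((maximalIdeal A).map (algebraMap A C)).minimalPrimes)
        (fun m => ⟨m.asIdeal, by
          haveI := m.isMaximal
          rw [← IsLocalRing.eq_maximalIdeal (Ideal.isMaximal_comap_of_isIntegral_of_isMaximal (R := A) m.asIdeal)]
          exact Ideal.IsIntegral.mem_minimalPrimes_map_under m.asIdeal⟩)
        (fun m m' h => MaximalSpectrum.ext (congrArg Subtype.val h))
    haveI := Fintype.ofFinite (MaximalSpectrum C)
    choose z hz w hwJ hw using fun m : MaximalSpectrum C => hloc m.asIdeal m.isMaximal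
    have hcop : ∀ m, ∃ e : C, ∀ m' : MaximalSpectrum C, (m' = m → e - 1 ∈ m'.asIdeal) ∧ (m' ≠ m → e ∈ m'.asIdeal) := by
      intro m
      obtain ⟨e, he⟩ := Ideal.quotientInfToPiQuotient_surj
        (I := fun m : MaximalSpectrum C => m.asIdeal) (fun m m' h => by
          haveI := m.isMaximal; haveI := m'.isMaximal
          exact Ideal.isCoprime_of_isMaximal fun hh => h (MaximalSpectrum.ext hh))
        (Pi.single (M := fun m' : MaximalSpectrum C => C ⧸ m'.asIdeal) m 1)
      obtain ⟨e, rfl⟩ := Ideal.Quotient.mk_surjective e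
      refine ⟨e, fun m' => ⟨fun hm' => ?_, fun hm' => ?_⟩⟩
      · subst hm'
        have := congrFun he m'
        rw [Pi.single_eq_same] at this
        exact Ideal.Quotient.eq.1 (this.trans (map_one _).symm)
      · have := congrFun he m'
        rw [Pi.single_eq_of_ne hm'] at this
        exact Ideal.Quotient.eq_zero_iff_mem.1 this
    choose e he using hcop
    let zs : K := ∑ m, (e m).1 * z m
    have hzs : P zs := fun v hv => by
      choose c hc using fun m => hz m v hv
      refine ⟨∑ m, e m * c m, ?_⟩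
      rw [AddSubmonoidClass.coe_finsetSum, Finset.sum_mul]
      exact Finset.sum_congr rfl fun m _ => by
        show (e m).1 * (c m).1 = _
        rw [hc, mul_assoc]
    let I : Ideal C :=
      { carrier := {c | ∃ v ∈ J, c.1 = zs * v.1}
        zero_mem' := ⟨0, J.zero_mem, by simp⟩
        add_mem' := by
          rintro c c' ⟨v, hv, hc⟩ ⟨v', hv', hc'⟩
          exact ⟨v + v', add_mem hv hv', by push_cast; rw [hc, hc', mul_add]⟩
        smul_mem' := by
          rintro r c ⟨v, hv, hc⟩
          exact ⟨r * v, J.mul_mem_left r hv, by push_cast; rw [smul_eq_mul]; push_cast; rw [hc]; ring⟩ }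
    have hI : I = ⊤ := by
      by_contra hne
      obtain ⟨n, hn, hIn⟩ := Ideal.exists_le_maximal I hne
      let m : MaximalSpectrum C := ⟨n, hn⟩
      obtain ⟨c, hc⟩ := hzs (w m) (hwJ m)
      have hcn : c ∈ n := hIn ⟨w m, hwJ m, hc⟩
      choose c' hc' using fun m' => hz m' (w m) (hwJ m)
      have hsum : c = ∑ m', e m' * c' m' := Subtype.ext (by
        rw [hc, AddSubmonoidClass.coe_finsetSum, Finset.sum_mul]
        exact Finset.sum_congr rfl fun m' _ => by
          show _ = (e m').1 * (c' m').1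
          rw [hc', mul_assoc])
      rw [hsum, ← Finset.add_sum_erase _ _ (Finset.mem_univ m)] at hcn
      have h1 : e m * c' m ∈ n := by
        refine (Ideal.add_mem_iff_left _ (Ideal.sum_mem _ fun m' hm' => ?_)).1 hcn
        exact n.mul_mem_right _ ((he m' m).2 (Finset.ne_of_mem_erase hm').symm)
      refine hw m (c' m) (hc' m) ?_
      rw [show c' m = e m * c' m - (e m - 1) * c' m by ring]
      exact sub_mem h1 (n.mul_mem_right _ ((he m m).1 rfl))
    obtain ⟨v, ⟨t, htm, rfl⟩, hv⟩ := (hI ▸ Submodule.mem_top : (1 : C) ∈ I)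
    exact ⟨t, htm, zs, hv.symm.trans rfl, hzs⟩
  have htu : IsUnit (algebraMap A K t) := IsUnit.of_mul_eq_one_right _ ht
  have hdiv : ∀ s ∈ maximalIdeal A, ∃ u v : A, algebraMap A C s = algebraMap A C t * (algebraMap A C u + algebraMap A C v * θ) := by
    intro s hs
    obtain ⟨c, hc⟩ := hz₀ (algebraMap A C s) ⟨s, hs, rfl⟩
    obtain ⟨u, v, rfl⟩ := h.gen c
    refine ⟨u, v, Subtype.ext ?_⟩
    show algebraMap A K s = algebraMap A K t * _
    rw [hc, ← mul_assoc, mul_comm _ z₀, ht, one_mul]
    rfl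
  obtain ⟨y, hym, hy⟩ := h.absorb t htm
  have hspan : Ideal.span {t, y} = maximalIdeal A := by
    refine le_antisymm (Ideal.span_le.2 ?_) fun s hs => ?_
    · rintro z' (hz' | hz')
      · rw [hz']; exact htm
      · rw [Set.mem_singleton_iff.1 hz']; exact hym
    · obtain ⟨u, v, huv⟩ := hdiv s hs
      refine Ideal.mem_span_pair.2 ⟨u, v, algebraMap_injective ?_⟩
      rw [map_add, map_mul, map_mul, hy, huv]
      ring
  have hnp : ¬ (maximalIdeal A).IsPrincipal := by
    rintro ⟨⟨g, hg⟩⟩
    have hg' : g ∈ maximalIdeal A := hg ▸ Submodule.mem_span_singleton_self g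
    obtain ⟨u, v, huv⟩ := hdiv g hg'
    obtain ⟨r₁, hr₁⟩ := Submodule.mem_span_singleton.1 (hg ▸ htm)
    obtain ⟨r₂, hr₂⟩ := Submodule.mem_span_singleton.1 (hg ▸ hym)
    rw [smul_eq_mul] at hr₁ hr₂
    have h1 : algebraMap A C r₁ * (algebraMap A C u + algebraMap A C v * θ) = 1 := Subtype.ext (htu.mul_left_cancel (by
      have h2 := congrArg Subtype.val (congrArg (algebraMap A C r₁ * ·) huv)
      have h3 := congrArg (algebraMap A K) hr₁
      rw [map_mul] at h3
      push_cast at h2 ⊢
      linear_combination -h2 + h3))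
    have h4 : θ = algebraMap A C r₂ * (algebraMap A C u + algebraMap A C v * θ) := Subtype.ext (htu.mul_left_cancel (by
      have h2 := congrArg Subtype.val (congrArg (algebraMap A C r₂ * ·) huv)
      have h3 := congrArg (algebraMap A K) hr₂
      have h5 := congrArg Subtype.val hy
      rw [map_mul] at h3
      push_cast at h2 h5 ⊢
      linear_combination h2 - h3 - h5))
    have hr₁u : IsUnit r₁ := by
      by_contra hr
      obtain ⟨n, hn⟩ := Ideal.exists_maximal C
      exact hn.ne_top ((Ideal.eq_top_iff_one _).2 (h1 ▸ n.mul_mem_right _ ((hlie n hn _).2 hr)))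
    obtain ⟨ri, hri⟩ := hr₁u.exists_left_inv
    refine (maximalIdeal.isMaximal A).ne_top ((Ideal.eq_top_iff_one _).2 ((h.mem_iff 1).1 ⟨ri * r₂, ?_⟩))
    have h6 : algebraMap A C ri * algebraMap A C r₁ = 1 := by rw [← map_mul, hri, map_one]
    rw [map_one, one_mul, map_mul]
    linear_combination -h4 - (algebraMap A C r₂ * algebraMap A C ri) * h1 +
      (algebraMap A C r₂ * (algebraMap A C u + algebraMap A C v * θ)) * h6
  refine ⟨le_antisymm ?_ (by by_contra h'; exact hnp (finrank_cotangentSpace_le_one_iff.1 (by omega))),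
    t, y, q, p, -1, htm, hym, ?_, ?_, ?_⟩
  · rw [← IsLocalRing.spanFinrank_maximalIdeal_eq_finrank_cotangentSpace, ← hspan]
    refine (Submodule.spanFinrank_span_le_ncard_of_finite (Set.toFinite _)).trans ?_
    exact (Set.ncard_insert_le _ _).trans (by simp)
  · rw [hspan]
    exact sup_eq_left.2 (Ideal.pow_le_self two_ne_zero)
  · rw [show 4 * q * (-1) - p ^ 2 = -(p * p + 4 * q) by ring, map_neg, neg_ne_zero]
    exact hdisc
  · rw [show q * t ^ 2 + p * t * y + -1 * y ^ 2 = 0 from algebraMap_injective (by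
      simp only [map_add, map_mul, map_neg, map_one, map_zero, map_pow, hy]
      linear_combination -(algebraMap A C t * algebraMap A C t) * h.sq)]
    exact zero_mem _

end Groth.L21.Nodal.QuadNorm
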