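import Groth.Agent.L21.Nodal.Extend
import Mathlib.RingTheory.PowerSeries.Order
import Mathlib.RingTheory.AdicCompletion.AsTensorProduct
import Mathlib.RingTheory.Flat.FaithfullyFlat.Algebra

/-!
The maximal ideal at a node generates the maximal ideal of the geometric local ring: a fraction with different
values on the two branches multiplies the maximal ideal into the ring.
-/

set_option autoImplicit false
universe u

open IsLocalRing

noncomputable section

namespace Groth.L21.Nodal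

variable {F : Type u} [Field F]

theorem exists_R2_of_constantCoeff_eq (g : Fin 2 → PowerSeries F)
    (h : PowerSeries.constantCoeff (g 0) = PowerSeries.constantCoeff (g 1)) :
    ∃ z : R2 F, ∀ i, branch F i z = g i := by
  obtain ⟨w₀, hw₀⟩ : (PowerSeries.X : PowerSeries F) ∣ g 0 - PowerSeries.C (PowerSeries.constantCoeff (g 0)) := by
    rw [PowerSeries.X_dvd_iff]; simp
  obtain ⟨w₁, hw₁⟩ : (PowerSeries.X : PowerSeries F) ∣ g 1 - PowerSeries.C (PowerSeries.constantCoeff (g 1)) := by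
    rw [PowerSeries.X_dvd_iff]; simp
  let f : MvPowerSeries (Fin 2) F := MvPowerSeries.C (PowerSeries.constantCoeff (g 0)) +
    MvPowerSeries.X 1 * Groth.L14.Node.lift 0 (fun n => PowerSeries.coeff n w₀) +
    MvPowerSeries.X 0 * Groth.L14.Node.lift 1 (fun n => PowerSeries.coeff n w₁)
  have h0 : Groth.L14.Node.q 0 f = g 0 := by
    simp only [f, map_add, map_mul, Groth.L14.Node.q_C, Groth.L14.Node.q_X_self, q_X_one, zero_mul, add_zero,
      Groth.L14.Node.q_lift]
    rw [show PowerSeries.mk (fun n => PowerSeries.coeff n w₀) = w₀ by ext; simp, ← hw₀]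
    ring
  have h1 : Groth.L14.Node.q 1 f = g 1 := by
    simp only [f, map_add, map_mul, Groth.L14.Node.q_C, Groth.L14.Node.q_X_self, q_X_zero, zero_mul, add_zero,
      Groth.L14.Node.q_lift]
    rw [show PowerSeries.mk (fun n => PowerSeries.coeff n w₁) = w₁ by ext; simp, ← hw₁, h]
    ring
  exact ⟨Ideal.Quotient.mk _ f, Fin.forall_fin_two.2 ⟨h0, h1⟩⟩

variable {A B : Type u} [CommRing A] [CommRing B] [IsLocalRing A] [IsLocalRing B] [IsNoetherianRing B]
  [Algebra A B] [Module.Flat A B] [IsLocalHom (algebraMap A B)]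

/-- A fraction `C/D` whose branches have different constant terms forces `mB = n`. -/
theorem map_maximalIdeal_eq_of_fraction (ψ : AdicCompletion (maximalIdeal B) B ≃+* R2 F) (C D : A)
    (f : Fin 2 → PowerSeries F)
    (hD : ∀ i, branch F i (ψ (algebraMap B _ (algebraMap A B D))) ≠ 0)
    (hf : ∀ i, branch F i (ψ (algebraMap B _ (algebraMap A B C))) = f i * branch F i (ψ (algebraMap B _ (algebraMap A B D))))
    (hne : PowerSeries.constantCoeff (f 0) ≠ PowerSeries.constantCoeff (f 1)) :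
    (maximalIdeal A).map (algebraMap A B) = maximalIdeal B := by
  refine le_antisymm (((IsLocalRing.local_hom_TFAE (algebraMap A B)).out 0 2).1 ‹IsLocalHom (algebraMap A B)›) fun β hβ => ?_
  haveI : Module.FaithfullyFlat B (AdicCompletion (maximalIdeal B) B) := Module.FaithfullyFlat.of_flat_of_isLocalHom
  let ι : B →+* R2 F := ψ.toRingHom.comp (algebraMap B (AdicCompletion (maximalIdeal B) B))
  have hβ0 : ∀ i, PowerSeries.constantCoeff (branch F i (ι β)) = 0 := fun i => by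
    rw [← PowerSeries.X_dvd_iff, ← mem_R2max_iff, ← map_maximalIdeal_equiv ψ]
    refine Ideal.mem_map_of_mem _ ?_
    rw [AdicCompletion.maximalIdeal_eq_map]
    exact Ideal.mem_map_of_mem _ hβ
  -- the fraction times an element of the maximal ideal lies in the completion
  obtain ⟨w, hw⟩ := exists_R2_of_constantCoeff_eq (fun i => branch F i (ι β) * f i)
    (by simp only [map_mul, hβ0, zero_mul])
  have hwD : ι (β * algebraMap A B C) = w * ι (algebraMap A B D) := by
    refine sub_eq_zero.1 (branch_injective _ fun i => ?_)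
    rw [map_sub, map_mul ι, map_mul, map_mul, hw i, show branch F i (ι (algebraMap A B C)) = _ from hf i, ← mul_assoc]
    exact sub_eq_zero.2 rfl
  obtain ⟨b', hb'⟩ : ∃ b', algebraMap A B D * b' = β * algebraMap A B C := by
    obtain ⟨s, rfl⟩ := ψ.surjective w
    have h1 : algebraMap B (AdicCompletion (maximalIdeal B) B) (β * algebraMap A B C) ∈
        (Ideal.span {algebraMap A B D}).map (algebraMap B _) := by
      rw [Ideal.map_span, Set.image_singleton, Ideal.mem_span_singleton']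
      exact ⟨s, ψ.injective ((map_mul ψ _ _).trans hwD.symm)⟩
    rw [← Ideal.mem_comap, Ideal.comap_map_eq_self_of_faithfullyFlat, Ideal.mem_span_singleton] at h1
    obtain ⟨b', hb'⟩ := h1
    exact ⟨b', hb'.symm⟩
  have hrel : ∑ l, (![C, -D] : Fin 2 → A) l • (![β, b'] : Fin 2 → B) l = 0 := by
    simp [Fin.sum_univ_two, Algebra.smul_def, hb', mul_comm β]
  obtain ⟨k, a, y, hy, ha⟩ := Module.Flat.isTrivialRelation_of_sum_smul_eq_zero (R := A) (M := B) hrel
  rw [show β = _ from hy 0]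
  refine Ideal.sum_mem _ fun j _ => ?_
  rw [Algebra.smul_def]
  refine Ideal.mul_mem_right _ _ (Ideal.mem_map_of_mem _ ((mem_maximalIdeal _).2 fun hu => hne ?_))
  -- otherwise the fraction lies in the ring
  have h0 := ha j
  simp only [Fin.sum_univ_two, Matrix.cons_val_zero, Matrix.cons_val_one, neg_mul, ← sub_eq_add_neg, sub_eq_zero] at h0
  obtain ⟨u, hu⟩ := hu
  have hCD : C = D * (a 1 j * ↑u⁻¹) := by rw [← mul_assoc, ← h0, ← hu, mul_assoc, Units.mul_inv, mul_one]
  let ζ := ι (algebraMap A B (a 1 j * ↑u⁻¹))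
  have hfi : ∀ i, f i = branch F i ζ := fun i => by
    refine mul_right_cancel₀ (hD i) ?_
    rw [← hf i, hCD, map_mul, map_mul, map_mul, map_mul, mul_comm]
    rfl
  obtain ⟨φ, hφ⟩ := Ideal.Quotient.mk_surjective ζ
  rw [hfi, hfi, ← hφ, branch_mk, branch_mk, constantCoeff_q, constantCoeff_q]

/-- The criterion by orders on the branches. -/
theorem map_maximalIdeal_eq_of_orders (ψ : AdicCompletion (maximalIdeal B) B ≃+* R2 F) (a s : A)
    (b : B) (q : ℕ) (hq : 0 < q) (ε : B) (hε : IsUnit ε) (hab : b ^ q = ε * algebraMap A B a)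
    (e₀ e₁ : ℕ) (he₀ : (branch F 0 (ψ (algebraMap B _ (algebraMap A B s)))).order = e₀)
    (he₁ : (branch F 1 (ψ (algebraMap B _ (algebraMap A B s)))).order = e₁) (he₁0 : 0 < e₁)
    (hb₁ : (branch F 1 (ψ (algebraMap B _ b))).order = 1)
    (hb₀ : PowerSeries.X ^ (e₀ + 1) ∣ branch F 0 (ψ (algebraMap B _ b))) :
    (maximalIdeal A).map (algebraMap A B) = maximalIdeal B := by
  let ρ : Fin 2 → B →+* PowerSeries F := fun i =>
    (branch F i).comp (ψ.toRingHom.comp (algebraMap B (AdicCompletion (maximalIdeal B) B)))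
  obtain ⟨u, rfl⟩ := hε
  have ha : algebraMap A B a = ↑u⁻¹ * b ^ q := by rw [hab, ← mul_assoc, Units.inv_mul, one_mul]
  have hs0 : ρ 0 (algebraMap A B s) ≠ 0 := fun h => by
    rw [show branch F 0 (ψ (algebraMap B _ (algebraMap A B s))) = 0 from h, PowerSeries.order_zero] at he₀
    exact ENat.coe_ne_top e₀ he₀.symm
  have hs1 : ρ 1 (algebraMap A B s) ≠ 0 := fun h => by
    rw [show branch F 1 (ψ (algebraMap B _ (algebraMap A B s))) = 0 from h, PowerSeries.order_zero] at he₁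
    exact ENat.coe_ne_top e₁ he₁.symm
  have hord : ∀ φ : PowerSeries F, ∀ e : ℕ, φ.order = e → ∃ w, φ = PowerSeries.X ^ e * w ∧ PowerSeries.constantCoeff w ≠ 0 := by
    intro φ e he
    have hφ : φ ≠ 0 := fun h => by rw [h, PowerSeries.order_zero] at he; exact ENat.coe_ne_top e he.symm
    have hdvd : PowerSeries.X ^ e ∣ φ := PowerSeries.X_pow_dvd_iff.2 fun n hn =>
      PowerSeries.coeff_of_lt_order n (by rw [he]; exact_mod_cast hn)
    obtain ⟨w, rfl⟩ := hdvd
    refine ⟨w, rfl, fun h0 => ?_⟩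
    have h1 : PowerSeries.coeff e (PowerSeries.X ^ e * w) = 0 := by
      rw [PowerSeries.coeff_X_pow_mul' w e e, if_pos le_rfl, Nat.sub_self, PowerSeries.coeff_zero_eq_constantCoeff_apply, h0]
    have hle : ((e + 1 : ℕ) : ℕ∞) ≤ (PowerSeries.X ^ e * w).order := ?_
    · rw [he, Nat.cast_le] at hle
      omega
    refine PowerSeries.nat_le_order _ _ fun n hn => ?_
    rcases Nat.lt_succ_iff_lt_or_eq.1 hn with hn | rfl
    · exact PowerSeries.X_pow_dvd_iff.1 (dvd_mul_right _ _) n hn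
    · exact h1
  obtain ⟨v₀, hv₀, hv₀c⟩ := hord _ e₀ he₀
  obtain ⟨v₁, hv₁, hv₁c⟩ := hord _ e₁ he₁
  obtain ⟨w₁, hw₁, hw₁c⟩ := hord _ 1 (by exact_mod_cast hb₁)
  obtain ⟨w₀, hw₀⟩ := hb₀
  have hu : ∀ i, IsUnit (ρ i ↑u⁻¹) := fun i => (Units.isUnit _).map _
  have hv : ∀ {v : PowerSeries F}, PowerSeries.constantCoeff v ≠ 0 → IsUnit v := fun h =>
    PowerSeries.isUnit_iff_constantCoeff.2 (IsUnit.mk0 _ h)
  obtain ⟨r₀, hr₀⟩ := ((hv hv₀c).pow q).exists_right_inv
  obtain ⟨r₁, hr₁⟩ := ((hv hv₁c).pow q).exists_right_inv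
  obtain ⟨d, hd⟩ : ∃ d, (e₀ + 1) * q * e₁ = e₀ * q + (d + 1) := by
    have : e₀ * q < (e₀ + 1) * q * e₁ :=
      lt_of_lt_of_le (Nat.mul_lt_mul_of_pos_right e₀.lt_succ_self hq) (Nat.le_mul_of_pos_right _ he₁0)
    exact ⟨(e₀ + 1) * q * e₁ - e₀ * q - 1, by omega⟩
  refine map_maximalIdeal_eq_of_fraction ψ (a ^ e₁) (s ^ q)
    ![PowerSeries.X ^ (d + 1) * w₀ ^ (q * e₁) * ρ 0 ↑u⁻¹ ^ e₁ * r₀, w₁ ^ (q * e₁) * ρ 1 ↑u⁻¹ ^ e₁ * r₁] ?_ ?_ ?_
  · intro i
    rw [map_pow, map_pow, map_pow, map_pow]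
    refine pow_ne_zero q ?_
    fin_cases i
    · exact hs0
    · exact hs1
  · refine Fin.forall_fin_two.2 ⟨?_, ?_⟩
    · change ρ 0 (algebraMap A B (a ^ e₁)) = _ * ρ 0 (algebraMap A B (s ^ q))
      rw [map_pow, map_pow, map_pow, map_pow, ha, map_mul, map_pow,
        show ρ 0 b = PowerSeries.X ^ (e₀ + 1) * w₀ from hw₀,
        show ρ 0 (algebraMap A B s) = PowerSeries.X ^ e₀ * v₀ from hv₀]
      simp only [Matrix.cons_val_zero]
      calc (ρ 0 ↑u⁻¹ * (PowerSeries.X ^ (e₀ + 1) * w₀) ^ q) ^ e₁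
          = ρ 0 ↑u⁻¹ ^ e₁ * PowerSeries.X ^ ((e₀ + 1) * q * e₁) * w₀ ^ (q * e₁) * 1 := by ring
        _ = ρ 0 ↑u⁻¹ ^ e₁ * PowerSeries.X ^ ((e₀ + 1) * q * e₁) * w₀ ^ (q * e₁) * (v₀ ^ q * r₀) := by rw [hr₀]
        _ = _ := by rw [hd]; ring
    · change ρ 1 (algebraMap A B (a ^ e₁)) = _ * ρ 1 (algebraMap A B (s ^ q))
      rw [map_pow, map_pow, map_pow, map_pow, ha, map_mul, map_pow,
        show ρ 1 b = PowerSeries.X ^ 1 * w₁ from hw₁,
        show ρ 1 (algebraMap A B s) = PowerSeries.X ^ e₁ * v₁ from hv₁]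
      simp only [Matrix.cons_val_one, Matrix.cons_val_zero]
      calc (ρ 1 ↑u⁻¹ * (PowerSeries.X ^ 1 * w₁) ^ q) ^ e₁
          = ρ 1 ↑u⁻¹ ^ e₁ * PowerSeries.X ^ (q * e₁) * w₁ ^ (q * e₁) * 1 := by ring
        _ = ρ 1 ↑u⁻¹ ^ e₁ * PowerSeries.X ^ (q * e₁) * w₁ ^ (q * e₁) * (v₁ ^ q * r₁) := by rw [hr₁]
        _ = _ := by ring
  · simp only [Matrix.cons_val_zero, Matrix.cons_val_one, map_mul, map_pow, PowerSeries.constantCoeff_X,
      zero_pow (Nat.succ_ne_zero d), zero_mul]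
    refine Ne.symm (mul_ne_zero (mul_ne_zero (pow_ne_zero _ hw₁c) (pow_ne_zero _ ?_)) ?_)
    · exact ((hu 1).map PowerSeries.constantCoeff).ne_zero
    · exact ((IsUnit.of_mul_eq_one_right _ hr₁).map PowerSeries.constantCoeff).ne_zero

end Groth.L21.Nodal
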